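import Groth.Prelude.Def_Dual3
import Groth.Agent.Lib.Lead.QC.ClosedUnit
import Groth.Agent.Lib.Lead.QC.SubExt
import Groth.Agent.Lib.Lead.QC.Closure
import Groth.Agent.Lib.Lead.QC.Push
import Groth.Agent.Lib.Lead.QC.SerreSupp
import Groth.Agent.Lib.Lead.QC.SpecHom
import Groth.Agent.Lib.Lead.QC.Gen
import Groth.Agent.Lib.Lead.QC.Iso
import Groth.Agent.Lib.Lead.PS.Support
import Groth.Agent.Lib.Lead.QCQS.RestrictOI

/-! # Sections of the submodule sheaf `I · F` (`Dual3.idealMul`) and restriction to opens -/

set_option autoImplicit false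
universe u
open CategoryTheory Limits Opposite AlgebraicGeometry TopologicalSpace

namespace Groth.Agent.LD.DF
open Groth.Agent.LD.QC

variable {X : Scheme.{u}}

section Closed
variable {Z : Scheme.{u}} (i : Z ⟶ X) [IsClosedImmersion i]

/-- for a closed immersion `i` and quasi-coherent `G`, the kernel of the unit `G → i_* i^* G` over
an affine open `U` is `ker(i^♯_U) · Γ(G, U)`. -/
theorem unitSec_eq_zero_iff (G : X.Modules) [G.IsQuasicoherent] {U : X.Opens}
    (hU : IsAffineOpen U) (s : Γ(G, U)) :
    unitSec i G U s = 0 ↔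
      s ∈ (RingHom.ker (i.app U).hom) • (⊤ : Submodule Γ(X, U) Γ(G, U)) := by
  have e : i ⁻¹ᵁ U ≤ i ⁻¹ᵁ U := le_rfl
  have hU' : IsAffineOpen (i ⁻¹ᵁ U) := hU.preimage i
  letI := (i.appLE U (i ⁻¹ᵁ U) e).hom.toAlgebra
  letI := pbModule i G e
  haveI := pbModule_isScalarTower i G e
  have hbc : IsBaseChange Γ(Z, i ⁻¹ᵁ U) (pbSecₗ i G e) := isBaseChange_pbSec i hU' hU e G
  have happ : i.appLE U (i ⁻¹ᵁ U) e = i.app U := (Scheme.Hom.app_eq_appLE i).symm
  have hs : Function.Surjective (algebraMap Γ(X, U) Γ(Z, i ⁻¹ᵁ U)) := by
    change Function.Surjective (i.appLE U (i ⁻¹ᵁ U) e).hom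
    rw [happ]
    exact i.app_surjective U hU
  have hfun : (pbSecₗ i G e : Γ(G, U) → Γ((Scheme.Modules.pullback i).obj G, i ⁻¹ᵁ U)) =
      unitSec i G U := by
    funext m
    change pbSec i G e m = _
    rw [pbSec, res_self]
  have hker : RingHom.ker (algebraMap Γ(X, U) Γ(Z, i ⁻¹ᵁ U)) = RingHom.ker (i.app U).hom := by
    change RingHom.ker (i.appLE U (i ⁻¹ᵁ U) e).hom = _
    rw [happ]
  have hk := isBaseChange_ker_of_surjective hbc hs
  constructor
  · intro h
    have h1 : s ∈ LinearMap.ker (pbSecₗ i G e) := by
      rw [LinearMap.mem_ker]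
      exact (congrFun hfun s).trans h
    rw [hk, hker] at h1
    exact h1
  · intro h
    rw [← hker, ← hk, LinearMap.mem_ker] at h
    exact (congrFun hfun s).symm.trans h

end Closed

variable (I : X.IdealSheafData)

/-- **sections of `I · F` over an affine open `W`**: the image of `Γ(I·F, W) → Γ(F, W)` is
`I(W) · Γ(F, W)`. -/
theorem mem_range_idealMulι_iff (F : X.Modules) [F.IsQuasicoherent] (W : X.affineOpens)
    (s : Γ(F, W.1)) :
    (∃ t : Γ((Dual3.idealMul I).obj F, W.1), (Dual3.idealMulι I F).app W.1 t = s) ↔
      s ∈ (I.ideal W) • (⊤ : Submodule Γ(X, W.1) Γ(F, W.1)) := by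
  have h1 := mem_range_kernel_ι_iff
    ((Scheme.Modules.pullbackPushforwardAdjunction I.subschemeι).unit.app F) W.1 s
  have h2 := unitSec_eq_zero_iff I.subschemeι F W.2 s
  rw [I.ker_subschemeι_app W] at h2
  exact h1.trans h2

theorem idealMulι_app_injective (F : X.Modules) (W : X.Opens) :
    Function.Injective ((Dual3.idealMulι I F).app W) :=
  mono_app (Dual3.idealMulι I F) W

theorem qc_idealMul (F : X.Modules) (hF : F.IsQuasicoherent) :
    ((Dual3.idealMul I).obj F).IsQuasicoherent := by
  haveI := hF
  haveI := qc_pullback I.subschemeι F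
  exact qc_kernel _ hF (qc_pushforward I.subschemeι _)

theorem isCoh_idealMul [IsLocallyNoetherian X] (F : X.Modules) (hF : Coh.IsCoh F) :
    Coh.IsCoh ((Dual3.idealMul I).obj F) :=
  isCoh_of_mono (Dual3.idealMulι I F) (qc_idealMul I F hF.1) hF

/-- `F / I·F` is supported on `V(I)`. -/
theorem support_cokernel_idealMulι_subset (F : X.Modules) :
    CohB1.support (cokernel (Dual3.idealMulι I F)) ⊆ (I.support : Set X) := by
  have h1 := support_subset_of_mono (Abelian.factorThruCoimage
    ((Scheme.Modules.pullbackPushforwardAdjunction I.subschemeι).unit.app F))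
  have h2 := PS.support_pushforward_subset I.subschemeι
    ((Scheme.Modules.pullback I.subschemeι).obj F)
  rw [I.range_subschemeι] at h2
  exact h1.trans h2

theorem support_pow_subset (n : ℕ) : (((I ^ n).support : Closeds X) : Set X) ⊆ I.support := by
  cases n with
  | zero =>
    rw [pow_zero, Scheme.IdealSheafData.one_eq_top, Scheme.IdealSheafData.support_top]
    exact Set.empty_subset _
  | succ n => rw [Scheme.IdealSheafData.support_pow_succ]

theorem ideal_pow_apply (n : ℕ) (W : X.affineOpens) : (I ^ n).ideal W = (I.ideal W) ^ n := rfl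

section Restrict
variable {Y : Scheme.{u}} (j : Y ⟶ X) [IsOpenImmersion j]

theorem isZero_restrict_of_support {A : X.Modules}
    (h : Disjoint (Set.range j) (CohB1.support A)) :
    IsZero ((Scheme.Modules.restrictFunctor j).obj A) := by
  apply isZero_of_support_eq_empty
  ext y
  simp only [Set.mem_empty_iff_false, iff_false]
  intro hy
  exact Set.disjoint_left.mp h ⟨y, rfl⟩ ((mem_support_restrict_iff j A y).mp hy)

theorem support_disjoint_of_isZero_restrict {A : X.Modules}
    (h : IsZero ((Scheme.Modules.restrictFunctor j).obj A)) :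
    Disjoint (Set.range j) (CohB1.support A) := by
  rw [Set.disjoint_left]
  rintro _ ⟨y, rfl⟩ hy
  have h1 : y ∈ CohB1.support (A.restrict j) := (mem_support_restrict_iff j A y).mpr hy
  rw [support_eq_empty_of_isZero h] at h1
  exact h1

/-- a morphism whose kernel and cokernel are supported away from the open `j` restricts to an
isomorphism. -/
theorem isIso_restrict_of_support {A B : X.Modules} (g : A ⟶ B)
    (hk : Disjoint (Set.range j) (CohB1.support (kernel g)))
    (hc : Disjoint (Set.range j) (CohB1.support (cokernel g))) :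
    IsIso ((Scheme.Modules.restrictFunctor j).map g) := by
  haveI : Mono ((Scheme.Modules.restrictFunctor j).map g) := by
    apply Preadditive.mono_of_isZero_kernel
    exact IsZero.of_iso (isZero_restrict_of_support j hk)
      (PreservesKernel.iso (Scheme.Modules.restrictFunctor j) g).symm
  haveI : Epi ((Scheme.Modules.restrictFunctor j).map g) := by
    apply Preadditive.epi_of_isZero_cokernel
    exact IsZero.of_iso (isZero_restrict_of_support j hc)
      (PreservesCokernel.iso (Scheme.Modules.restrictFunctor j) g).symm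
  exact isIso_of_mono_of_epi _

theorem support_disjoint_of_isIso_restrict {A B : X.Modules} (g : A ⟶ B)
    (h : IsIso ((Scheme.Modules.restrictFunctor j).map g)) :
    Disjoint (Set.range j) (CohB1.support (kernel g)) ∧
      Disjoint (Set.range j) (CohB1.support (cokernel g)) := by
  haveI := h
  constructor
  · apply support_disjoint_of_isZero_restrict
    exact IsZero.of_iso (isZero_kernel_of_mono ((Scheme.Modules.restrictFunctor j).map g))
      (PreservesKernel.iso (Scheme.Modules.restrictFunctor j) g)
  · apply support_disjoint_of_isZero_restrict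
    exact IsZero.of_iso (isZero_cokernel_of_epi ((Scheme.Modules.restrictFunctor j).map g))
      (PreservesCokernel.iso (Scheme.Modules.restrictFunctor j) g)

theorem support_kernel_disjoint_of_mono_restrict {A B : X.Modules} (g : A ⟶ B)
    (h : Mono ((Scheme.Modules.restrictFunctor j).map g)) :
    Disjoint (Set.range j) (CohB1.support (kernel g)) := by
  haveI := h
  apply support_disjoint_of_isZero_restrict
  exact IsZero.of_iso (isZero_kernel_of_mono ((Scheme.Modules.restrictFunctor j).map g))
    (PreservesKernel.iso (Scheme.Modules.restrictFunctor j) g)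

/-- `I·F ⟶ F` is an isomorphism over an open disjoint from `V(I)`. -/
theorem isIso_restrict_idealMulι (F : X.Modules)
    (h : Disjoint (Set.range j) (I.support : Set X)) :
    IsIso ((Scheme.Modules.restrictFunctor j).map (Dual3.idealMulι I F)) := by
  apply isIso_restrict_of_support
  · have hz : IsZero (kernel (Dual3.idealMulι I F)) := isZero_kernel_of_mono _
    rw [support_eq_empty_of_isZero hz]
    exact Set.disjoint_empty _
  · exact h.mono_right (support_cokernel_idealMulι_subset I F)

end Restrict

end Groth.Agent.LD.DF
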