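import Groth.Agent.Lib.Lead.DF.AR
import Groth.Agent.Lib.Lead.QC.NonzeroHom

/-! # Extending a morphism defined over an open subscheme to a coherent submodule
(the Noetherian case of EGA I 9.4.x / Deligne's formula, existence part) -/

set_option autoImplicit false
universe u
open CategoryTheory Limits Opposite AlgebraicGeometry TopologicalSpace

namespace Groth.Agent.LD.DF
open Groth.Agent.LD.QC

variable {X Y : Scheme.{u}} (j : Y ⟶ X) [IsOpenImmersion j]

local notation "Lj" => Scheme.Modules.restrictFunctor j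
local notation "adjj" => Scheme.Modules.restrictAdjunction j

/-- the radical ideal sheaf of the closed complement of an open immersion. -/
noncomputable def complIdeal : X.IdealSheafData :=
  Scheme.IdealSheafData.vanishingIdeal
    ⟨(Set.range j)ᶜ, j.isOpenEmbedding.isOpen_range.isClosed_compl⟩

theorem coe_support_complIdeal : ((complIdeal j).support : Set X) = (Set.range j)ᶜ := by
  unfold complIdeal
  rw [Scheme.IdealSheafData.coe_support_vanishingIdeal]
  rfl

theorem disjoint_range_support_complIdeal_pow (n : ℕ) :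
    Disjoint (Set.range j) ((((complIdeal j) ^ n).support : Closeds X) : Set X) := by
  refine Disjoint.mono_right (support_pow_subset (complIdeal j) n) ?_
  rw [coe_support_complIdeal]
  exact disjoint_compl_right

theorem subset_support_complIdeal_of_disjoint {S : Set X} (h : Disjoint (Set.range j) S) :
    S ⊆ ((complIdeal j).support : Set X) := by
  rw [coe_support_complIdeal]
  exact Set.subset_compl_iff_disjoint_left.mpr h

/-- the graph construction: the pullback of the adjoint of `φ` against the unit of `B`. -/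
theorem exists_pullback_extension [QuasiCompact j] (A B : X.Modules) (hA : A.IsQuasicoherent)
    (hB : B.IsQuasicoherent)
    (φ : (Scheme.Modules.restrictFunctor j).obj A ⟶ (Scheme.Modules.restrictFunctor j).obj B) :
    ∃ (P : X.Modules) (p₁ : P ⟶ A) (p₂ : P ⟶ B), P.IsQuasicoherent ∧
      IsIso ((Scheme.Modules.restrictFunctor j).map p₁) ∧
      (Scheme.Modules.restrictFunctor j).map p₂ =
        (Scheme.Modules.restrictFunctor j).map p₁ ≫ φ := by
  haveI := hA
  haveI := hB
  haveI := qc_restrict j B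
  have hpq : ((Scheme.Modules.pushforward j).obj (B.restrict j)).IsQuasicoherent :=
    qc_pushforward j (B.restrict j)
  refine ⟨pullback ((adjj).homEquiv A ((Lj).obj B) φ) ((adjj).unit.app B),
    pullback.fst ((adjj).homEquiv A ((Lj).obj B) φ) ((adjj).unit.app B),
    pullback.snd ((adjj).homEquiv A ((Lj).obj B) φ) ((adjj).unit.app B), ?_, ?_, ?_⟩
  · refine qc_limit (cospan ((adjj).homEquiv A ((Lj).obj B) φ) ((adjj).unit.app B)) ?_
    rintro (_ | _ | _)
    · exact hpq
    · exact hA
    · exact hB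
  · haveI : IsIso ((Lj).map ((adjj).unit.app B)) := by
      have h := (adjj).left_triangle_components B
      haveI : IsIso ((Lj).map ((adjj).unit.app B) ≫ (adjj).counit.app ((Lj).obj B)) := by
        rw [h]; exact IsIso.id _
      exact IsIso.of_isIso_comp_right _ ((adjj).counit.app ((Lj).obj B))
    have hpb := (IsPullback.of_hasPullback ((adjj).homEquiv A ((Lj).obj B) φ) ((adjj).unit.app B)).map Lj
    exact hpb.isIso_fst_of_isIso
  · have h2 := (adjj).homEquiv_naturality_left_symm
      (pullback.fst ((adjj).homEquiv A ((Lj).obj B) φ) ((adjj).unit.app B)) ((adjj).homEquiv A ((Lj).obj B) φ)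
    rw [Equiv.symm_apply_apply] at h2
    rw [← h2, pullback.condition, Adjunction.homEquiv_counit]
    simp

/-- **extension of a morphism over an open**: on a Noetherian scheme, a morphism
`φ : A|_Y ⟶ B|_Y` (with `A` coherent, `B` quasi-coherent) extends to a coherent submodule `A' ⊆ A`
agreeing with `A` over `Y`. -/
theorem exists_sub_extension [IsNoetherian X] [QuasiCompact j] (A B : X.Modules)
    (hA : Coh.IsCoh A) (hB : B.IsQuasicoherent)
    (φ : (Scheme.Modules.restrictFunctor j).obj A ⟶ (Scheme.Modules.restrictFunctor j).obj B) :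
    ∃ (A' : X.Modules) (ι : A' ⟶ A) (φ' : A' ⟶ B), Mono ι ∧ Coh.IsCoh A' ∧
      IsIso ((Scheme.Modules.restrictFunctor j).map ι) ∧
      (Scheme.Modules.restrictFunctor j).map φ' =
        (Scheme.Modules.restrictFunctor j).map ι ≫ φ := by
  obtain ⟨P, p₁, p₂, hP, hp₁, hp₂⟩ := exists_pullback_extension j A B hA.1 hB φ
  haveI := hP
  haveI := hA.1
  haveI := hp₁
  have htr : ∀ W₁ W₂ : X.Opens, W₁ = W₂ → Function.Bijective (p₁.app W₁) →
      Function.Bijective (p₁.app W₂) := by
    rintro _ _ rfl h
    exact h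
  have hbij : ∀ W : X.Opens, W ≤ j.opensRange → Function.Bijective (p₁.app W) := by
    intro W hW
    have h1 : IsIso (((Lj).map p₁).app (j ⁻¹ᵁ W)) := inferInstance
    rw [ConcreteCategory.isIso_iff_bijective] at h1
    have hW' : j ''ᵁ (j ⁻¹ᵁ W) = W := by
      rw [Scheme.Hom.image_preimage_eq_opensRange_inf]
      exact inf_eq_right.mpr hW
    exact htr _ _ hW' h1
  have hO : IsCompact (j.opensRange : Set X) := TopologicalSpace.NoetherianSpace.isCompact _
  have hfin : ∀ W : X.Opens, IsAffineOpen W → W ≤ j.opensRange →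
      Module.Finite Γ(X, W) Γ(P, W) := by
    intro W hW hWO
    haveI : Module.Finite Γ(X, W) Γ(A, W) := finite_sections_of_isFiniteType A hA.2 hW
    have hb' : Function.Bijective (appLinear p₁ W) := hbij W hWO
    exact Module.Finite.equiv (LinearEquiv.ofBijective (appLinear p₁ W) hb').symm
  obtain ⟨P₁, u, hu, hP₁qc, hP₁ft, hubij⟩ := exists_sub_finiteType P j.opensRange hO hfin
  haveI := hu
  have hP₁ : Coh.IsCoh P₁ := ⟨hP₁qc, hP₁ft⟩
  haveI hLu : IsIso ((Lj).map u) := by
    apply isIso_of_bijective_app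
    intro W'
    exact hubij (j ''ᵁ W') (j.image_le_opensRange W')
  haveI hLf : IsIso ((Lj).map (u ≫ p₁)) := by
    rw [(Lj).map_comp]; infer_instance
  have hk : CohB1.support (kernel (u ≫ p₁)) ⊆ ((complIdeal j).support : Set X) :=
    subset_support_complIdeal_of_disjoint j (support_disjoint_of_isIso_restrict j _ hLf).1
  obtain ⟨n, hn⟩ := exists_mono_idealMul_comp (complIdeal j) hP₁ hA.1 (u ≫ p₁) hk
  haveI hm := hn n le_rfl
  haveI hLι : IsIso ((Lj).map (Dual3.idealMulι ((complIdeal j) ^ n) P₁)) :=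
    isIso_restrict_idealMulι ((complIdeal j) ^ n) j P₁
      (disjoint_range_support_complIdeal_pow j n)
  refine ⟨(Dual3.idealMul ((complIdeal j) ^ n)).obj P₁,
    Dual3.idealMulι ((complIdeal j) ^ n) P₁ ≫ u ≫ p₁,
    Dual3.idealMulι ((complIdeal j) ^ n) P₁ ≫ u ≫ p₂, hm,
    isCoh_idealMul ((complIdeal j) ^ n) P₁ hP₁, ?_, ?_⟩
  · change IsIso ((Lj).map _)
    rw [(Lj).map_comp]
    infer_instance
  · change (Lj).map _ = (Lj).map _ ≫ φ
    rw [(Lj).map_comp, (Lj).map_comp, (Lj).map_comp, (Lj).map_comp]
    change _ ≫ _ ≫ (Scheme.Modules.restrictFunctor j).map p₂ = _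
    rw [hp₂]
    simp only [Category.assoc]

/-- variant of `exists_sub_extension` for a monomorphism: the extension may be taken to be a
monomorphism as well. -/
theorem exists_sub_extension_mono [IsNoetherian X] [QuasiCompact j] (A B : X.Modules)
    (hA : Coh.IsCoh A) (hB : B.IsQuasicoherent)
    (φ : (Scheme.Modules.restrictFunctor j).obj A ⟶ (Scheme.Modules.restrictFunctor j).obj B)
    [Mono φ] :
    ∃ (A' : X.Modules) (ι : A' ⟶ A) (φ' : A' ⟶ B), Mono ι ∧ Coh.IsCoh A' ∧
      IsIso ((Scheme.Modules.restrictFunctor j).map ι) ∧ Mono φ' ∧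
      (Scheme.Modules.restrictFunctor j).map φ' =
        (Scheme.Modules.restrictFunctor j).map ι ≫ φ := by
  obtain ⟨A₁, ι₁, φ₁, hι₁, hA₁, hLι₁, hφ₁⟩ := exists_sub_extension j A B hA hB φ
  haveI := hι₁
  haveI := hLι₁
  have hmono : Mono ((Lj).map φ₁) := by
    change Mono ((Scheme.Modules.restrictFunctor j).map φ₁)
    rw [hφ₁]
    exact mono_comp _ _
  have hk : CohB1.support (kernel φ₁) ⊆ ((complIdeal j).support : Set X) :=
    subset_support_complIdeal_of_disjoint j (support_kernel_disjoint_of_mono_restrict j φ₁ hmono)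
  obtain ⟨n, hn⟩ := exists_mono_idealMul_comp (complIdeal j) hA₁ hB φ₁ hk
  haveI hm := hn n le_rfl
  haveI hLι : IsIso ((Lj).map (Dual3.idealMulι ((complIdeal j) ^ n) A₁)) :=
    isIso_restrict_idealMulι ((complIdeal j) ^ n) j A₁
      (disjoint_range_support_complIdeal_pow j n)
  refine ⟨(Dual3.idealMul ((complIdeal j) ^ n)).obj A₁,
    Dual3.idealMulι ((complIdeal j) ^ n) A₁ ≫ ι₁,
    Dual3.idealMulι ((complIdeal j) ^ n) A₁ ≫ φ₁, mono_comp _ _,
    isCoh_idealMul ((complIdeal j) ^ n) A₁ hA₁, ?_, hm, ?_⟩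
  · change IsIso ((Lj).map _)
    rw [(Lj).map_comp]
    infer_instance
  · change (Lj).map _ = (Lj).map _ ≫ φ
    rw [(Lj).map_comp, (Lj).map_comp]
    change _ ≫ (Scheme.Modules.restrictFunctor j).map φ₁ = _
    rw [hφ₁]
    simp only [Category.assoc]

end Groth.Agent.LD.DF
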