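import Groth.Agent.Lib.Lead.DF.GenFree
import Groth.Agent.Lib.Lead.QC.FiniteFree
import Groth.Agent.Lib.Lead.QC.SuppSES

/-! # The generic step of dévissage on an integral Noetherian scheme -/

set_option autoImplicit false
universe u
open CategoryTheory Limits Opposite AlgebraicGeometry TopologicalSpace

namespace Groth.Agent.LD.DF
open Groth.Agent.LD.QC

variable {Z : Scheme.{u}}

/-- every point lies in the support of the structure sheaf. -/
theorem mem_support_structureModule (x : Z) : x ∈ CohB1.support (Coh.structureModule Z) := by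
  intro hsub'
  have h0 : (Coh.structureModule Z).presheaf.germ ⊤ x trivial
      (show Γ(Coh.structureModule Z, ⊤) from (1 : Γ(Z, ⊤))) = 0 := Subsingleton.elim _ _
  obtain ⟨W, hW, hyW, h1⟩ := exists_res_eq_zero_of_germ_eq_zero (Coh.structureModule Z) (V := ⊤) x
    trivial _ h0
  have h2 : (Z.presheaf.map (homOfLE hW).op) (1 : Γ(Z, ⊤)) = 0 := h1
  rw [map_one] at h2
  have h3 : (Z.presheaf.germ W x hyW) (1 : Γ(Z, W)) = (Z.presheaf.germ W x hyW) 0 := by rw [h2]
  rw [map_one, map_zero] at h3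
  exact one_ne_zero h3

theorem isCoh_freeMod (Z : Scheme.{u}) (n : ℕ) : Coh.IsCoh (FlatMod.freeMod Z n) := by
  haveI := isFinitePresentation_of_isFinLocFree _ (isFinLocFree_freeMod Z n)
  exact ⟨inferInstance, inferInstance⟩

theorem isCoh_structureModule (Z : Scheme.{u}) : Coh.IsCoh (Coh.structureModule Z) :=
  isCoh_of_iso (freeModOneIso Z) (isCoh_freeMod Z 1)

section KLemmas
variable (KZ : Z.Modules → Prop)
  (ha : ∀ S : ShortComplex Z.Modules, S.ShortExact → Coh.IsCoh S.X₁ → Coh.IsCoh S.X₂ →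
    Coh.IsCoh S.X₃ → (KZ S.X₂ → KZ S.X₃ → KZ S.X₁) ∧ (KZ S.X₁ → KZ S.X₃ → KZ S.X₂))
include ha

theorem K_of_sub {T A : Z.Modules} (ι : T ⟶ A) [Mono ι] (hT : Coh.IsCoh T) (hA : Coh.IsCoh A)
    (h1 : KZ T) (h2 : KZ (cokernel ι)) : KZ A := by
  have hses : (ShortComplex.mk ι (cokernel.π ι) (cokernel.condition ι)).ShortExact :=
    { exact := ShortComplex.exact_of_g_is_cokernel _ (cokernelIsCokernel ι)
      mono_f := inferInstanceAs (Mono ι)
      epi_g := inferInstanceAs (Epi (cokernel.π ι)) }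
  exact (ha _ hses hT hA (isCoh_cokernel ι hT hA)).2 h1 h2

theorem K_sub {T A : Z.Modules} (ι : T ⟶ A) [Mono ι] (hT : Coh.IsCoh T) (hA : Coh.IsCoh A)
    (h1 : KZ A) (h2 : KZ (cokernel ι)) : KZ T := by
  have hses : (ShortComplex.mk ι (cokernel.π ι) (cokernel.condition ι)).ShortExact :=
    { exact := ShortComplex.exact_of_g_is_cokernel _ (cokernelIsCokernel ι)
      mono_f := inferInstanceAs (Mono ι)
      epi_g := inferInstanceAs (Epi (cokernel.π ι)) }
  exact (ha _ hses hT hA (isCoh_cokernel ι hT hA)).1 h1 h2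

theorem K_of_hom [IsLocallyNoetherian Z] {T H : Z.Modules} (q : T ⟶ H) (hT : Coh.IsCoh T)
    (hH : Coh.IsCoh H) (h1 : KZ H) (hk : KZ (kernel q)) (hc : KZ (cokernel q)) : KZ T := by
  have hKerc : Coh.IsCoh (kernel q) := isCoh_kernel q hT hH
  have hCokc : Coh.IsCoh (cokernel q) := isCoh_cokernel q hT hH
  have hImc : Coh.IsCoh (Abelian.image q) := isCoh_kernel _ hH hCokc
  have hses2 : (ShortComplex.mk (Abelian.image.ι q) (cokernel.π q)
      (kernel.condition _)).ShortExact :=
    { exact := ShortComplex.exact_of_f_is_kernel _ (kernelIsKernel (cokernel.π q))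
      mono_f := inferInstanceAs (Mono (kernel.ι (cokernel.π q)))
      epi_g := inferInstanceAs (Epi (cokernel.π q)) }
  have hPim : KZ (Abelian.image q) := (ha _ hses2 hImc hH hCokc).1 h1 hc
  have hzero : kernel.ι q ≫ Abelian.factorThruImage q = 0 := by
    rw [← cancel_mono (Abelian.image.ι q), Category.assoc, Abelian.image.fac, kernel.condition,
      zero_comp]
  have hses1 : (ShortComplex.mk (kernel.ι q) (Abelian.factorThruImage q) hzero).ShortExact :=
    { exact := by
        apply ShortComplex.exact_of_f_is_kernel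
        exact isKernelOfComp (Abelian.image.ι q) q (kernelIsKernel q) hzero (Abelian.image.fac q)
      mono_f := inferInstanceAs (Mono (kernel.ι q))
      epi_g := inferInstanceAs (Epi (Abelian.factorThruImage q)) }
  exact (ha _ hses1 hKerc hT hImc).2 hk hPim

end KLemmas

/-- **the generic step**: on an integral Noetherian scheme `Z`, let `KZ` be a class of modules
satisfying the two exactness axioms, the `d`-fold-sum axiom for the structure sheaf, and
containing all coherent modules not supported at the generic point. If `KZ` contains one coherent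
module supported at the generic point, then every coherent module supported at the generic point
has a nonzero coherent submodule in `KZ`. -/
theorem exists_sub_of_generic [IsNoetherian Z] [IsIntegral Z] (KZ : Z.Modules → Prop)
    (ha : ∀ S : ShortComplex Z.Modules, S.ShortExact → Coh.IsCoh S.X₁ → Coh.IsCoh S.X₂ →
      Coh.IsCoh S.X₃ → (KZ S.X₂ → KZ S.X₃ → KZ S.X₁) ∧ (KZ S.X₁ → KZ S.X₃ → KZ S.X₂))
    (hb : ∀ d : ℕ, 1 ≤ d → KZ (FlatMod.freeMod Z d) → KZ (Coh.structureModule Z))
    (hIH : ∀ M : Z.Modules, Coh.IsCoh M → genericPoint Z ∉ CohB1.support M → KZ M)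
    (H : Z.Modules) (hH : Coh.IsCoh H) (hHη : genericPoint Z ∈ CohB1.support H) (hKH : KZ H)
    (M₀ : Z.Modules) (hM₀ : Coh.IsCoh M₀) (hM₀η : genericPoint Z ∈ CohB1.support M₀) :
    ∃ (T : Z.Modules) (t : T ⟶ M₀), Mono t ∧ Coh.IsCoh T ∧ ¬ IsZero T ∧ KZ T := by
  have hnot : ∀ {V : Z.Opens} {S : Set Z}, genericPoint Z ∈ V →
      Disjoint (Set.range V.ι) S → genericPoint Z ∉ S := by
    intro V S hV hd hS
    exact Set.disjoint_left.mp hd ⟨⟨genericPoint Z, hV⟩, rfl⟩ hS
  -- Step 1: `K(O_Z)`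
  have hKO : KZ (Coh.structureModule Z) := by
    obtain ⟨V, n, hηV, hn, ⟨φ⟩⟩ := exists_restrict_iso_freeMod H hH hHη
    obtain ⟨T₁, ι₁, q₁, hι₁, hT₁, hLι₁, hq₁⟩ :=
      exists_sub_extension V.ι (FlatMod.freeMod Z n) H (isCoh_freeMod Z n) hH.1 φ.hom
    haveI := hι₁
    haveI := hLι₁
    have hLq₁ : IsIso ((Scheme.Modules.restrictFunctor V.ι).map q₁) := by
      rw [hq₁]; infer_instance
    have hdι := support_disjoint_of_isIso_restrict V.ι ι₁ hLι₁
    have hdq := support_disjoint_of_isIso_restrict V.ι q₁ hLq₁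
    have hKT₁ : KZ T₁ := K_of_hom KZ ha q₁ hT₁ hH hKH
      (hIH _ (isCoh_kernel q₁ hT₁ hH) (hnot hηV hdq.1))
      (hIH _ (isCoh_cokernel q₁ hT₁ hH) (hnot hηV hdq.2))
    have hKF : KZ (FlatMod.freeMod Z n) := K_of_sub KZ ha ι₁ hT₁ (isCoh_freeMod Z n) hKT₁
      (hIH _ (isCoh_cokernel ι₁ hT₁ (isCoh_freeMod Z n)) (hnot hηV hdι.2))
    exact hb n hn hKF
  -- Step 2: a submodule of `O_Z` embeds in `M₀`
  obtain ⟨V, m, hηV, hm, ⟨φ⟩⟩ := exists_restrict_iso_freeMod M₀ hM₀ hM₀η
  let σ : Coh.structureModule Z ⟶ FlatMod.freeMod Z m :=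
    Sigma.ι (fun _ : Fin m => Coh.structureModule Z) ⟨0, hm⟩
  haveI : Mono σ := inferInstanceAs (Mono (Sigma.ι (fun _ : Fin m => Coh.structureModule Z) ⟨0, hm⟩))
  haveI : Mono ((Scheme.Modules.restrictFunctor V.ι).map σ ≫ φ.hom) := mono_comp _ _
  obtain ⟨T₂, ι₂, t₂, hι₂, hT₂, hLι₂, ht₂, -⟩ :=
    exists_sub_extension_mono V.ι (Coh.structureModule Z) M₀ (isCoh_structureModule Z) hM₀.1
      ((Scheme.Modules.restrictFunctor V.ι).map σ ≫ φ.hom)
  haveI := hι₂
  have hdι := support_disjoint_of_isIso_restrict V.ι ι₂ hLι₂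
  have hKT₂ : KZ T₂ := K_sub KZ ha ι₂ hT₂ (isCoh_structureModule Z) hKO
    (hIH _ (isCoh_cokernel ι₂ hT₂ (isCoh_structureModule Z)) (hnot hηV hdι.2))
  refine ⟨T₂, t₂, ht₂, hT₂, ?_, hKT₂⟩
  intro hz
  have hses : (ShortComplex.mk ι₂ (cokernel.π ι₂) (cokernel.condition ι₂)).ShortExact :=
    { exact := ShortComplex.exact_of_g_is_cokernel _ (cokernelIsCokernel ι₂)
      mono_f := inferInstanceAs (Mono ι₂)
      epi_g := inferInstanceAs (Epi (cokernel.π ι₂)) }
  have hsupp := support_of_shortExact hses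
  have h1 : genericPoint Z ∈ CohB1.support (Coh.structureModule Z) :=
    mem_support_structureModule (genericPoint Z)
  have h2 : genericPoint Z ∈ CohB1.support T₂ ∪ CohB1.support (cokernel ι₂) := by
    rw [← hsupp]; exact h1
  rcases h2 with h2 | h2
  · rw [support_eq_empty_of_isZero hz] at h2
    exact h2
  · exact hnot hηV hdι.2 h2

end Groth.Agent.LD.DF
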