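import Groth.Agent.Lib.Lead.DF.ZProp
import Groth.Agent.Lib.Lead.QC.Devissage
import Groth.Agent.Lib.Lead.QC.IntegralSub
import Groth.Agent.Lib.Lead.QC.PushFin
import Groth.Agent.Lib.Lead.QC.Coprod
import Groth.Agent.Lib.Lead.CI.Adj
import Groth.Agent.Lib.Helper1.ChevLoc

/-! # Dévissage with the weak exactness axioms (EGA III 3.1.2 in the form with `F^d`) -/

set_option autoImplicit false
universe u
open CategoryTheory Limits Opposite AlgebraicGeometry TopologicalSpace

namespace Groth.Agent.LD.DF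
open Groth.Agent.LD.QC

variable {X : Scheme.{u}}

theorem section_eq_zero_of_isZero {M : X.Modules} (h : IsZero M) {U : X.Opens}
    (s : Γ(M, U)) : s = 0 := by
  have h1 : (𝟙 M : M ⟶ M) = 0 := h.eq_of_src _ _
  have h2 := congrArg (fun φ : M ⟶ M => φ.app U s) h1
  simpa using h2

theorem isZero_of_isZero_pushforward {Z : Scheme.{u}} (i : Z ⟶ X) [IsPreimmersion i]
    (T : Z.Modules) (h : IsZero ((Scheme.Modules.pushforward i).obj T)) : IsZero T := by
  apply isZero_of_subsingleton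
  intro V
  obtain ⟨U, hU, hUV⟩ := i.isEmbedding.isInducing.isOpen_iff.mp V.2
  obtain rfl : i ⁻¹ᵁ (⟨U, hU⟩ : X.Opens) = V := Opens.ext hUV
  refine ⟨fun a b => ?_⟩
  have ha : (show Γ((Scheme.Modules.pushforward i).obj T, (⟨U, hU⟩ : X.Opens)) from a) = 0 :=
    section_eq_zero_of_isZero h _
  have hb : (show Γ((Scheme.Modules.pushforward i).obj T, (⟨U, hU⟩ : X.Opens)) from b) = 0 :=
    section_eq_zero_of_isZero h _
  exact ha.trans hb.symm

theorem isCoh_push {Z : Scheme.{u}} (i : Z ⟶ X) [IsClosedImmersion i] (F : Z.Modules)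
    (hF : Coh.IsCoh F) : Coh.IsCoh ((Scheme.Modules.pushforward i).obj F) := by
  haveI : F.IsQuasicoherent := hF.1
  exact ⟨qc_pushforward i F, isFiniteType_pushforward_of_isFinite i F hF.2⟩

variable (I : X.IdealSheafData)

theorem isIso_idealMulι_pow_zero (Q : X.Modules) : IsIso (Dual3.idealMulι (I ^ 0) Q) := by
  have h1 := support_cokernel_idealMulι_subset (I ^ 0) Q
  have h2 : (((I ^ 0).support : Closeds X) : Set X) = ∅ := by
    rw [pow_zero, Scheme.IdealSheafData.one_eq_top, Scheme.IdealSheafData.support_top]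
    rfl
  rw [h2] at h1
  have hz : IsZero (cokernel (Dual3.idealMulι (I ^ 0) Q)) :=
    isZero_of_support_eq_empty (Set.subset_empty_iff.mp h1)
  haveI : Epi (Dual3.idealMulι (I ^ 0) Q) := Preadditive.epi_of_isZero_cokernel _ hz
  exact isIso_of_mono_of_epi _

/-- a nonzero coherent module supported on `V(I)` has a nonzero coherent submodule killed by `I`. -/
theorem exists_sub_killed [IsNoetherian X] (Q : X.Modules) (hQ : Coh.IsCoh Q)
    (hQ0 : ¬ IsZero Q) (hs : CohB1.support Q ⊆ (I.support : Set X)) :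
    ∃ (N₀ : X.Modules) (ν : N₀ ⟶ Q), Mono ν ∧ Coh.IsCoh N₀ ∧ ¬ IsZero N₀ ∧
      ∀ (U : X.affineOpens) (a : Γ(X, U.1)), a ∈ I.ideal U → ∀ s : Γ(N₀, U.1), a • s = 0 := by
  classical
  haveI := hQ.1
  obtain ⟨n₀, hn₀⟩ := exists_isZero_idealMul_pow I hQ hs
  have hex : ∃ n, IsZero ((Dual3.idealMul (I ^ n)).obj Q) := ⟨n₀, hn₀ n₀ le_rfl⟩
  have hm : IsZero ((Dual3.idealMul (I ^ (Nat.find hex))).obj Q) := Nat.find_spec hex
  have hm0 : Nat.find hex ≠ 0 := by
    intro h0
    rw [h0] at hm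
    haveI := isIso_idealMulι_pow_zero I Q
    exact hQ0 (IsZero.of_iso hm (asIso (Dual3.idealMulι (I ^ 0) Q)).symm)
  obtain ⟨k, hk⟩ : ∃ k, Nat.find hex = k + 1 := Nat.exists_eq_succ_of_ne_zero hm0
  have hk0 : ¬ IsZero ((Dual3.idealMul (I ^ k)).obj Q) :=
    fun h => Nat.find_min hex (by omega : k < Nat.find hex) h
  rw [hk] at hm
  refine ⟨(Dual3.idealMul (I ^ k)).obj Q, Dual3.idealMulι (I ^ k) Q, inferInstance,
    isCoh_idealMul (I ^ k) Q hQ, hk0, ?_⟩
  intro U a ha s
  apply idealMulι_app_injective (I ^ k) Q U.1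
  rw [map_zero, Scheme.Modules.Hom.app_smul]
  have h1 : (Dual3.idealMulι (I ^ k) Q).app U.1 s ∈
      (I.ideal U ^ k) • (⊤ : Submodule Γ(X, U.1) Γ(Q, U.1)) :=
    (mem_range_idealMulι_iff (I ^ k) Q U _).mp ⟨s, rfl⟩
  have h2 : a • (Dual3.idealMulι (I ^ k) Q).app U.1 s ∈
      (I.ideal U ^ (k + 1)) • (⊤ : Submodule Γ(X, U.1) Γ(Q, U.1)) := by
    rw [pow_succ', mul_smul]
    exact Submodule.smul_mem_smul ha h1
  obtain ⟨t, ht⟩ := (mem_range_idealMulι_iff (I ^ (k + 1)) Q U _).mpr h2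
  rw [← ht, section_eq_zero_of_isZero hm t, map_zero]

/-- **dévissage with the weak axioms**. -/
theorem devissage_weak (X : Scheme.{u}) [IsNoetherian X] [Nonempty X]
    (K : ObjectProperty X.Modules) [K.IsClosedUnderIsomorphisms]
    (ha : ∀ S : ShortComplex X.Modules, S.ShortExact → Coh.IsCoh S.X₁ → Coh.IsCoh S.X₂ →
      Coh.IsCoh S.X₃ → (K S.X₂ → K S.X₃ → K S.X₁) ∧ (K S.X₁ → K S.X₃ → K S.X₂))
    (hb : ∀ (F : X.Modules) (d : ℕ), 1 ≤ d → Coh.IsCoh F → K (∐ fun _ : Fin d => F) → K F)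
    (hgen : ∀ (Z : Scheme.{u}) (i : Z ⟶ X) [IsClosedImmersion i] [IsIntegral Z],
      ∃ H : Z.Modules, Coh.IsCoh H ∧ Nontrivial (H.presheaf.stalk (genericPoint Z)) ∧
        K ((Scheme.Modules.pushforward i).obj H))
    (F : X.Modules) (hF : Coh.IsCoh F) : K F := by
  classical
  -- the zero modules lie in `K`
  have hP0 : ∀ Z' : X.Modules, IsZero Z' → K Z' := by
    intro Z' hZ'
    obtain ⟨x⟩ := (inferInstance : Nonempty X)
    let Y₁ : Closeds X := ⟨closure {x}, isClosed_closure⟩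
    have hirr₁ : IsIrreducible (Y₁ : Set X) := isIrreducible_singleton.closure
    haveI : IsIntegral (redSub Y₁) := isIntegral_redSub Y₁ hirr₁
    obtain ⟨H₁, hH₁, -, hKH₁⟩ := hgen (redSub Y₁) (redSubι Y₁)
    have hG₁ := isCoh_push (redSubι Y₁) H₁ hH₁
    have hS : (ShortComplex.mk (0 : Z' ⟶ (Scheme.Modules.pushforward (redSubι Y₁)).obj H₁)
        (𝟙 _) zero_comp).ShortExact :=
      { exact := (ShortComplex.exact_iff_mono _ rfl).mpr (inferInstanceAs (Mono (𝟙 _)))
        mono_f := ⟨fun _ _ _ => hZ'.eq_of_tgt _ _⟩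
        epi_g := inferInstanceAs (Epi (𝟙 _)) }
    exact (ha _ hS (isCoh_of_isZero hG₁ hZ') hG₁ hG₁).1 hKH₁ hKH₁
  refine devissage_master K (fun A B e _ h => K.prop_of_iso e h) Set.univ hP0
    (fun S hS h1 h2 h3 _ p1 p3 => (ha S hS h1 h2 h3).2 p1 p3) ?_ F hF (Set.subset_univ _)
  intro Y hYc hirr _ IH Q hQ hQY
  let Yc : Closeds X := ⟨Y, hYc⟩
  haveI hint : IsIntegral (redSub Yc) := isIntegral_redSub Yc hirr
  haveI : IsLocallyNoetherian (redSub Yc) := LocallyOfFiniteType.isLocallyNoetherian (redSubι Yc)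
  haveI : CompactSpace (redSub Yc) := QuasiCompact.compactSpace_of_compactSpace (redSubι Yc)
  haveI : IsNoetherian (redSub Yc) := {}
  obtain ⟨H, hH, hHη, hKH⟩ := hgen (redSub Yc) (redSubι Yc)
  have hcl : closure {redSubι Yc (genericPoint (redSub Yc))} = Y :=
    closure_redSubι_genericPoint Yc hirr
  have hξY : redSubι Yc (genericPoint (redSub Yc)) ∈ Y := hcl ▸ subset_closure rfl
  -- the class `KZ` on the integral subscheme
  have hKZa : ∀ S : ShortComplex (redSub Yc).Modules, S.ShortExact → Coh.IsCoh S.X₁ →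
      Coh.IsCoh S.X₂ → Coh.IsCoh S.X₃ →
      (K ((Scheme.Modules.pushforward (redSubι Yc)).obj S.X₂) →
        K ((Scheme.Modules.pushforward (redSubι Yc)).obj S.X₃) →
        K ((Scheme.Modules.pushforward (redSubι Yc)).obj S.X₁)) ∧
      (K ((Scheme.Modules.pushforward (redSubι Yc)).obj S.X₁) →
        K ((Scheme.Modules.pushforward (redSubι Yc)).obj S.X₃) →
        K ((Scheme.Modules.pushforward (redSubι Yc)).obj S.X₂)) := by
    intro S hS h1 h2 h3
    exact ha (S.map (Scheme.Modules.pushforward (redSubι Yc)))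
      (hS.map_of_exact (Scheme.Modules.pushforward (redSubι Yc)))
      (isCoh_push _ _ h1) (isCoh_push _ _ h2) (isCoh_push _ _ h3)
  have hKZb : ∀ d : ℕ, 1 ≤ d →
      K ((Scheme.Modules.pushforward (redSubι Yc)).obj (FlatMod.freeMod (redSub Yc) d)) →
      K ((Scheme.Modules.pushforward (redSubι Yc)).obj (Coh.structureModule (redSub Yc))) := by
    intro d hd h
    apply hb _ d hd (isCoh_push _ _ (isCoh_structureModule (redSub Yc)))
    exact K.prop_of_iso (PreservesCoproduct.iso (Scheme.Modules.pushforward (redSubι Yc))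
      (fun _ : Fin d => Coh.structureModule (redSub Yc))) h
  have hKZIH : ∀ M : (redSub Yc).Modules, Coh.IsCoh M →
      genericPoint (redSub Yc) ∉ CohB1.support M →
      K ((Scheme.Modules.pushforward (redSubι Yc)).obj M) := by
    intro M hM hη
    apply IH _ (isCoh_push _ M hM)
    · refine (PS.support_pushforward_subset (redSubι Yc) M).trans ?_
      rw [range_redSubι]
      exact subset_rfl
    · intro heq
      have h1 : redSubι Yc (genericPoint (redSub Yc)) ∈
          CohB1.support ((Scheme.Modules.pushforward (redSubι Yc)).obj M) := heq ▸ hξY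
      exact Groth.Agent.H1.Chev.notMem_support_pushforward (redSubι Yc) M _ hη h1
  -- a nonzero submodule of `Q` killed by the ideal of `Y`
  have hQ0 : ¬ IsZero Q := by
    intro hz
    have h1 := support_eq_empty_of_isZero hz
    rw [hQY] at h1
    exact (h1 ▸ hξY : _ ∈ (∅ : Set X))
  have hIYs : ((Scheme.IdealSheafData.vanishingIdeal Yc).support : Set X) = Y :=
    Scheme.IdealSheafData.coe_support_vanishingIdeal Yc
  obtain ⟨N₀, ν, hν, hN₀, hN₀0, hkill⟩ := exists_sub_killed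
    (Scheme.IdealSheafData.vanishingIdeal Yc) Q hQ hQ0 (by rw [hIYs, hQY])
  haveI := hν
  by_cases hξN : redSubι Yc (genericPoint (redSub Yc)) ∈ CohB1.support N₀
  swap
  · exact ⟨N₀, ν, hν, hN₀, hN₀0, IH N₀ hN₀ ((support_subset_of_mono ν).trans hQY.subset)
      (fun h => hξN (h ▸ hξY))⟩
  haveI := hN₀.1
  haveI hunit : IsIso ((Scheme.Modules.pullbackPushforwardAdjunction (redSubι Yc)).unit.app N₀) := by
    rw [isIso_unit_closedImmersion_iff]
    intro U a ha' s
    rw [Scheme.IdealSheafData.ker_subschemeι] at ha'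
    exact hkill U a ha' s
  have hM₀ : Coh.IsCoh ((Scheme.Modules.pullback (redSubι Yc)).obj N₀) :=
    ⟨qc_pullback (redSubι Yc) N₀, isFiniteType_pullback (redSubι Yc) N₀ hN₀.2⟩
  have hηM₀ : genericPoint (redSub Yc) ∈
      CohB1.support ((Scheme.Modules.pullback (redSubι Yc)).obj N₀) := by
    by_contra h
    have h1 := Groth.Agent.H1.Chev.notMem_support_pushforward (redSubι Yc) _ _ h
    apply h1
    have h2 := support_eq_of_iso
      (asIso ((Scheme.Modules.pullbackPushforwardAdjunction (redSubι Yc)).unit.app N₀))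
    exact h2 ▸ hξN
  obtain ⟨T, t, ht, hT, hT0, hKT⟩ := exists_sub_of_generic
    (fun M => K ((Scheme.Modules.pushforward (redSubι Yc)).obj M)) hKZa hKZb hKZIH H hH
    (not_subsingleton_iff_nontrivial.mpr hHη) hKH _ hM₀ hηM₀
  haveI := ht
  haveI : Mono ((Scheme.Modules.pushforward (redSubι Yc)).map t) := inferInstance
  refine ⟨(Scheme.Modules.pushforward (redSubι Yc)).obj T,
    (Scheme.Modules.pushforward (redSubι Yc)).map t ≫
      inv ((Scheme.Modules.pullbackPushforwardAdjunction (redSubι Yc)).unit.app N₀) ≫ ν,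
    ?_, isCoh_push _ T hT, ?_, hKT⟩
  · haveI : Mono (inv ((Scheme.Modules.pullbackPushforwardAdjunction
        (redSubι Yc)).unit.app N₀) ≫ ν) := mono_comp _ _
    exact mono_comp _ _
  · intro hz
    exact hT0 (isZero_of_isZero_pushforward (redSubι Yc) T hz)

end Groth.Agent.LD.DF
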