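import Groth.Prelude.Def_SGA6
import Groth.Agent.Lib.Lead.DF.Dev
import Groth.Agent.Lib.Lead.DF.Ext
import Groth.Agent.Lib.Lead.QCQS.RestrictOI
import Groth.Agent.Lib.Helper2.KThick1
import Groth.Agent.Lib.Helper2.ExtInvB

/-! # The localization sequence `K₀(Coh X') → K₀(Coh X) → K₀(Coh U) → 0` -/

set_option autoImplicit false
universe v v' u u'
open CategoryTheory Limits Opposite AlgebraicGeometry TopologicalSpace
open scoped ZeroObject

namespace Groth.Agent.LD.DF.KLoc
open Groth.Agent.LD.QC Groth.Agent.LD.DF Groth.Agent.H2.KThick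

section General

variable {A : Type u} [Category.{v} A] [Abelian A] {B : Type u'} [Category.{v'} B] [Abelian B]

/-- `mapSub` on classes. -/
theorem mapSub_clSub (F : A ⥤ B) [F.Additive] [PreservesFiniteLimits F]
    [PreservesFiniteColimits F] (P : ObjectProperty A) (Q : ObjectProperty B)
    (h : ∀ X, P X → Q (F.obj X)) (M : A) (hM : P M) :
    SGA6.mapSub F P Q h (KZero.clSub P M) = KZero.clSub Q (F.obj M) := by
  rw [clSub_eq P hM, clSub_eq Q (h M hM)]
  show (QuotientAddGroup.mk (FreeAbelianGroup.map (SGA6.objMap F P Q h)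
    (FreeAbelianGroup.of ⟨M, hM⟩)) : KZero.K0sub Q) = _
  rw [FreeAbelianGroup.map_of_apply]
  rfl

/-- the classes generate `K₀`. -/
theorem mem_of_forall_cl (P : ObjectProperty A) (S : AddSubgroup (KZero.K0sub P))
    (h : ∀ (M : A) (_ : P M), KZero.clSub P M ∈ S) (x : KZero.K0sub P) : x ∈ S := by
  obtain ⟨y, rfl⟩ := QuotientAddGroup.mk_surjective x
  refine FreeAbelianGroup.induction_on y ?_ ?_ ?_ ?_
  · rw [QuotientAddGroup.mk_zero]
    exact S.zero_mem
  · rintro ⟨M, hM⟩
    have := h M hM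
    rwa [clSub_eq P hM] at this
  · intro a ha
    rw [QuotientAddGroup.mk_neg]
    exact S.neg_mem ha
  · intro a b ha hb
    rw [QuotientAddGroup.mk_add]
    exact S.add_mem ha hb

/-- an additive function on objects induces a homomorphism on `K₀`. -/
noncomputable def liftK (P : ObjectProperty A) {G : Type*} [AddCommGroup G] (f : Subtype P → G)
    (hf : ∀ (S : ShortComplex A) (h₁ : P S.X₁) (h₂ : P S.X₂) (h₃ : P S.X₃), S.ShortExact →
      f ⟨S.X₂, h₂⟩ = f ⟨S.X₁, h₁⟩ + f ⟨S.X₃, h₃⟩) : KZero.K0sub P →+ G :=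
  QuotientAddGroup.lift (KZero.relSub P) (FreeAbelianGroup.lift f) (by
    rw [KZero.relSub, AddSubgroup.closure_le]
    rintro x ⟨S, h₁, h₂, h₃, hS, rfl⟩
    rw [SetLike.mem_coe, AddMonoidHom.mem_ker, map_sub, map_sub, FreeAbelianGroup.lift_apply_of,
      FreeAbelianGroup.lift_apply_of, FreeAbelianGroup.lift_apply_of, hf S h₁ h₂ h₃ hS]
    abel)

theorem liftK_cl (P : ObjectProperty A) {G : Type*} [AddCommGroup G] (f : Subtype P → G)
    (hf : ∀ (S : ShortComplex A) (h₁ : P S.X₁) (h₂ : P S.X₂) (h₃ : P S.X₃), S.ShortExact →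
      f ⟨S.X₂, h₂⟩ = f ⟨S.X₁, h₁⟩ + f ⟨S.X₃, h₃⟩) (M : A) (hM : P M) :
    liftK P f hf (KZero.clSub P M) = f ⟨M, hM⟩ := by
  rw [clSub_eq P hM]
  exact FreeAbelianGroup.lift_apply_of f _

end General

section Scheme

/-- coherent modules as an object property. -/
abbrev PC (X : Scheme.{u}) : ObjectProperty X.Modules := fun M => Coh.IsCoh M

variable {X : Scheme.{u}}

theorem pc_iso : (PC X).IsClosedUnderIsomorphisms := ⟨fun e h => isCoh_of_iso e h⟩

theorem pc_zero [IsLocallyNoetherian X] : (PC X).ContainsZero :=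
  ⟨⟨0, isZero_zero _, isCoh_of_isZero (isCoh_structureModule X) (isZero_zero _)⟩⟩

theorem pc_ker [IsLocallyNoetherian X] : (PC X).IsClosedUnderKernels := by
  refine ⟨?_⟩
  rintro _ ⟨f, k, hk, ⟨h1, h2⟩⟩
  have e : k.pt ≅ kernel f := IsLimit.conePointUniqueUpToIso hk (limit.isLimit _)
  exact isCoh_of_iso e.symm (isCoh_kernel f h1 h2)

attribute [local instance] pc_iso pc_zero pc_ker

variable {U : Scheme.{u}} (j : U ⟶ X) [IsOpenImmersion j]

/-- coherent modules on an open subscheme extend. -/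
theorem exists_coh_extension [IsLocallyNoetherian X] (N : U.Modules) (hN : Coh.IsCoh N) :
    ∃ M : X.Modules, Coh.IsCoh M ∧ Nonempty ((Scheme.Modules.restrictFunctor j).obj M ≅ N) := by
  haveI := hN.1
  have hN' : Coh.IsCoh ((Scheme.Modules.restrictFunctor j.isoOpensRange.inv).obj N) :=
    ⟨qc_restrict j.isoOpensRange.inv N, isFiniteType_restrict j.isoOpensRange.inv N hN.2⟩
  obtain ⟨F, γ, hF, -⟩ := Groth.Agent.H2.ExtInv.exists_extension j.opensRange _ hN'
  refine ⟨F, hF, ⟨?_⟩⟩
  exact (Groth.Agent.LD.QCQS.restrictFactorIso j).app F ≪≫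
    (Scheme.Modules.restrictFunctor j.isoOpensRange.hom).mapIso γ ≪≫
    (Groth.Agent.LD.QCQS.restrictEquiv j.isoOpensRange).counitIso.app N

variable [IsNoetherian X] (R : AddSubgroup (KZero.K0sub (PC X)))
  (hR : ∀ Q : X.Modules, Coh.IsCoh Q → Disjoint (Set.range j) (CohB1.support Q) →
    KZero.clSub (PC X) Q ∈ R)

include hR in
/-- a morphism of coherent modules which is an isomorphism over `U` identifies the classes
modulo the classes of the modules supported off `U`. -/
theorem mk_cl_eq_of_isIso_restrict {A B : X.Modules} (hA : Coh.IsCoh A) (hB : Coh.IsCoh B)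
    (g : A ⟶ B) (hg : IsIso ((Scheme.Modules.restrictFunctor j).map g)) :
    QuotientAddGroup.mk' R (KZero.clSub (PC X) A) =
      QuotientAddGroup.mk' R (KZero.clSub (PC X) B) := by
  obtain ⟨hk, hc⟩ := support_disjoint_of_isIso_restrict j g hg
  have hK := isCoh_kernel g hA hB
  have hC := isCoh_cokernel g hA hB
  have hI := isCoh_kernel (cokernel.π g) hB hC
  have e1 : KZero.clSub (PC X) A =
      KZero.clSub (PC X) (kernel g) + KZero.clSub (PC X) (kernel (cokernel.π g)) :=
    cl_exact (PC X) (ShortComplex.mk g (cokernel.π g) (cokernel.condition g))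
      (ShortComplex.exact_cokernel g) hA hB hC
  have e2 : KZero.clSub (PC X) B =
      KZero.clSub (PC X) (kernel (cokernel.π g)) + KZero.clSub (PC X) (cokernel g) :=
    cl_ses (PC X) (ShortComplex.mk (kernel.ι (cokernel.π g)) (cokernel.π g)
      (kernel.condition _))
      { exact := ShortComplex.exact_kernel (cokernel.π g)
        mono_f := by dsimp; infer_instance
        epi_g := by dsimp; infer_instance } hI hB hC
  have z1 : QuotientAddGroup.mk' R (KZero.clSub (PC X) (kernel g)) = 0 :=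
    (QuotientAddGroup.eq_zero_iff _).2 (hR _ hK hk)
  have z2 : QuotientAddGroup.mk' R (KZero.clSub (PC X) (cokernel g)) = 0 :=
    (QuotientAddGroup.eq_zero_iff _).2 (hR _ hC hc)
  rw [e1, e2, map_add, map_add, z1, z2, zero_add, add_zero]

include hR in
/-- coherent modules which are isomorphic over `U` have the same class modulo `R`. -/
theorem mk_cl_eq_of_restrict_iso {M₁ M₂ : X.Modules} (h₁ : Coh.IsCoh M₁) (h₂ : Coh.IsCoh M₂)
    (e : (Scheme.Modules.restrictFunctor j).obj M₁ ≅ (Scheme.Modules.restrictFunctor j).obj M₂) :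
    QuotientAddGroup.mk' R (KZero.clSub (PC X) M₁) =
      QuotientAddGroup.mk' R (KZero.clSub (PC X) M₂) := by
  obtain ⟨A', ι, φ', hι, hA', hιiso, hφ'⟩ := exists_sub_extension j M₁ M₂ h₁ h₂.1 e.hom
  haveI := hιiso
  have hφiso : IsIso ((Scheme.Modules.restrictFunctor j).map φ') := by
    rw [hφ']
    infer_instance
  rw [← mk_cl_eq_of_isIso_restrict j R hR hA' h₁ ι hιiso,
    mk_cl_eq_of_isIso_restrict j R hR hA' h₂ φ' hφiso]

/-- a chosen coherent extension. -/
noncomputable def extObj (N : Subtype (PC U)) : X.Modules :=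
  (exists_coh_extension j N.1 N.2).choose

theorem extObj_coh (N : Subtype (PC U)) : Coh.IsCoh (extObj j N) :=
  (exists_coh_extension j N.1 N.2).choose_spec.1

/-- the chosen extension restricts to the given module. -/
noncomputable def extIso (N : Subtype (PC U)) :
    (Scheme.Modules.restrictFunctor j).obj (extObj j N) ≅ N.1 :=
  (exists_coh_extension j N.1 N.2).choose_spec.2.some

/-- the class of the chosen extension, modulo `R`. -/
noncomputable def eFun (N : Subtype (PC U)) : KZero.K0sub (PC X) ⧸ R :=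
  QuotientAddGroup.mk' R (KZero.clSub (PC X) (extObj j N))

include hR in
theorem eFun_eq {M : X.Modules} (hM : Coh.IsCoh M) (N : Subtype (PC U))
    (β : (Scheme.Modules.restrictFunctor j).obj M ≅ N.1) :
    QuotientAddGroup.mk' R (KZero.clSub (PC X) M) = eFun j R N :=
  mk_cl_eq_of_restrict_iso j R hR hM (extObj_coh j N) (β ≪≫ (extIso j N).symm)

include hR in
theorem eFun_add (S : ShortComplex U.Modules) (hS : S.ShortExact) (h₁ : Coh.IsCoh S.X₁)
    (h₂ : Coh.IsCoh S.X₂) (h₃ : Coh.IsCoh S.X₃) :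
    eFun j R ⟨S.X₂, h₂⟩ = eFun j R ⟨S.X₁, h₁⟩ + eFun j R ⟨S.X₃, h₃⟩ := by
  have hM₁ := extObj_coh j ⟨S.X₁, h₁⟩
  have hM₂ := extObj_coh j ⟨S.X₂, h₂⟩
  haveI := hS.mono_f
  haveI := hS.epi_g
  haveI : Mono ((extIso j ⟨S.X₁, h₁⟩).hom ≫ S.f ≫ (extIso j ⟨S.X₂, h₂⟩).inv) :=
    mono_comp _ _
  obtain ⟨A', ι, φ', hι, hA', hιiso, hφ'mono, hφ'⟩ := exists_sub_extension_mono j _ _ hM₁ hM₂.1
    ((extIso j ⟨S.X₁, h₁⟩).hom ≫ S.f ≫ (extIso j ⟨S.X₂, h₂⟩).inv)
  haveI := hιiso
  haveI := hφ'mono
  have hC := isCoh_cokernel φ' hA' hM₂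
  have e2 : KZero.clSub (PC X) (extObj j ⟨S.X₂, h₂⟩) =
      KZero.clSub (PC X) A' + KZero.clSub (PC X) (cokernel φ') :=
    cl_ses (PC X) (ShortComplex.mk φ' (cokernel.π φ') (cokernel.condition φ'))
      { exact := ShortComplex.exact_cokernel φ'
        mono_f := by dsimp; infer_instance
        epi_g := by dsimp; infer_instance } hA' hM₂ hC
  have w : (Scheme.Modules.restrictFunctor j).map φ' ≫ (extIso j ⟨S.X₂, h₂⟩).hom =
      (asIso ((Scheme.Modules.restrictFunctor j).map ι) ≪≫ extIso j ⟨S.X₁, h₁⟩).hom ≫ S.f := by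
    rw [hφ']
    simp
  have k3 := eFun_eq j R hR hC ⟨S.X₃, h₃⟩
    (PreservesCokernel.iso (Scheme.Modules.restrictFunctor j) φ' ≪≫
      cokernel.mapIso ((Scheme.Modules.restrictFunctor j).map φ') S.f
        (asIso ((Scheme.Modules.restrictFunctor j).map ι) ≪≫ extIso j ⟨S.X₁, h₁⟩)
        (extIso j ⟨S.X₂, h₂⟩) w ≪≫
      IsColimit.coconePointUniqueUpToIso (cokernelIsCokernel S.f) hS.exact.gIsCokernel)
  have k1 : QuotientAddGroup.mk' R (KZero.clSub (PC X) A') =
      QuotientAddGroup.mk' R (KZero.clSub (PC X) (extObj j ⟨S.X₁, h₁⟩)) :=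
    mk_cl_eq_of_isIso_restrict j R hR hA' hM₁ ι hιiso
  show QuotientAddGroup.mk' R (KZero.clSub (PC X) (extObj j ⟨S.X₂, h₂⟩)) =
    QuotientAddGroup.mk' R (KZero.clSub (PC X) (extObj j ⟨S.X₁, h₁⟩)) + eFun j R ⟨S.X₃, h₃⟩
  rw [e2, map_add, k1, k3]

variable [(Scheme.Modules.restrictFunctor j).Additive]
  [PreservesFiniteLimits (Scheme.Modules.restrictFunctor j)]
  [PreservesFiniteColimits (Scheme.Modules.restrictFunctor j)]
  (hj : ∀ M : X.Modules, Coh.IsCoh M → Coh.IsCoh ((Scheme.Modules.restrictFunctor j).obj M))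

omit [AlgebraicGeometry.IsNoetherian X] in
/-- restriction to an open subscheme is surjective on `K₀` of coherent modules. -/
theorem mapSub_restrict_surjective [IsLocallyNoetherian X] :
    Function.Surjective (SGA6.mapSub (Scheme.Modules.restrictFunctor j) (PC X) (PC U) hj) := by
  haveI : IsLocallyNoetherian U := isLocallyNoetherian_of_isOpenImmersion j
  intro y
  have h : y ∈ (SGA6.mapSub (Scheme.Modules.restrictFunctor j) (PC X) (PC U) hj).range := by
    refine mem_of_forall_cl (PC U) _ (fun N hN => ?_) y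
    obtain ⟨M, hM, ⟨e⟩⟩ := exists_coh_extension j N hN
    refine ⟨KZero.clSub (PC X) M, ?_⟩
    rw [mapSub_clSub _ _ _ hj M hM]
    exact cl_iso (PC U) e (hj M hM)
  exact h

include hR in
/-- the kernel of the restriction is generated by the modules supported off `U`. -/
theorem ker_mapSub_restrict_le :
    (SGA6.mapSub (Scheme.Modules.restrictFunctor j) (PC X) (PC U) hj).ker ≤ R := by
  haveI : IsLocallyNoetherian U := isLocallyNoetherian_of_isOpenImmersion j
  obtain ⟨s, hsdef⟩ : ∃ s : KZero.K0sub (PC U) →+ KZero.K0sub (PC X) ⧸ R,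
      ∀ (N : U.Modules) (hN : Coh.IsCoh N), s (KZero.clSub (PC U) N) = eFun j R ⟨N, hN⟩ :=
    ⟨liftK (PC U) (eFun j R) (fun S h₁ h₂ h₃ hS => eFun_add j R hR S hS h₁ h₂ h₃),
      fun N hN => liftK_cl _ _ _ N hN⟩
  have hs : ∀ x, s (SGA6.mapSub (Scheme.Modules.restrictFunctor j) (PC X) (PC U) hj x) =
        QuotientAddGroup.mk' R x := by
    intro x
    have h : x ∈ (s.comp
        (SGA6.mapSub (Scheme.Modules.restrictFunctor j) (PC X) (PC U) hj)).eqLocus
        (QuotientAddGroup.mk' R) := by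
      refine mem_of_forall_cl (PC X) _ (fun M hM => ?_) x
      show s (SGA6.mapSub (Scheme.Modules.restrictFunctor j) (PC X) (PC U)
        hj (KZero.clSub (PC X) M)) = QuotientAddGroup.mk' R (KZero.clSub (PC X) M)
      rw [mapSub_clSub _ _ _ hj M hM, hsdef _ (hj M hM)]
      exact (eFun_eq j R hR hM ⟨_, hj M hM⟩ (Iso.refl _)).symm
    exact h
  intro x hx
  rw [AddMonoidHom.mem_ker] at hx
  have h := hs x
  rw [hx, map_zero] at h
  exact (QuotientAddGroup.eq_zero_iff x).1 h.symm

variable {X' : Scheme.{u}} (i : X' ⟶ X) [IsClosedImmersion i]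
  [(Scheme.Modules.pushforward i).Additive]
  [PreservesFiniteLimits (Scheme.Modules.pushforward i)]
  [PreservesFiniteColimits (Scheme.Modules.pushforward i)]
  (hi : ∀ M : X'.Modules, Coh.IsCoh M → Coh.IsCoh ((Scheme.Modules.pushforward i).obj M))

omit [AlgebraicGeometry.IsNoetherian X] in
/-- the composition `K₀(X') → K₀(X) → K₀(U)` vanishes. -/
theorem range_mapSub_push_le_ker [IsLocallyNoetherian X]
    (hd : Disjoint (Set.range j) (Set.range i)) :
    (SGA6.mapSub (Scheme.Modules.pushforward i) (PC X') (PC X) hi).range ≤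
      (SGA6.mapSub (Scheme.Modules.restrictFunctor j) (PC X) (PC U) hj).ker := by
  haveI : IsLocallyNoetherian U := isLocallyNoetherian_of_isOpenImmersion j
  rintro _ ⟨x, rfl⟩
  have h : x ∈ ((SGA6.mapSub (Scheme.Modules.restrictFunctor j) (PC X) (PC U) hj).comp
      (SGA6.mapSub (Scheme.Modules.pushforward i) (PC X') (PC X) hi)).ker := by
    refine mem_of_forall_cl (PC X') _ (fun M hM => ?_) x
    rw [AddMonoidHom.mem_ker, AddMonoidHom.comp_apply, mapSub_clSub _ _ _ hi M hM,
      mapSub_clSub _ _ _ hj _ (hi M hM)]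
    exact cl_zero (PC U) (isZero_restrict_of_support j
      (hd.mono_right (PS.support_pushforward_subset i M)))
  exact h

/-- a coherent module supported on a closed subscheme has its class in the image of the
direct image. -/
theorem cl_mem_range_push (Q : X.Modules) (hQ : Coh.IsCoh Q)
    (hs : CohB1.support Q ⊆ Set.range i) :
    KZero.clSub (PC X) Q ∈
      (SGA6.mapSub (Scheme.Modules.pushforward i) (PC X') (PC X) hi).range := by
  have hIs : (i.ker.support : Set X) = Set.range i := by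
    rw [Scheme.Hom.support_ker]
    exact i.isClosedEmbedding.isClosed_range.closure_eq
  refine devissage_master (fun M => KZero.clSub (PC X) M ∈
    (SGA6.mapSub (Scheme.Modules.pushforward i) (PC X') (PC X) hi).range) ?_ (Set.range i)
    ?_ ?_ ?_ Q hQ hs
  · intro A B e hA h
    rwa [← cl_iso (PC X) e hA]
  · intro Z hZ
    rw [cl_zero (PC X) hZ]
    exact zero_mem _
  · intro S hS h1 h2 h3 _ p1 p3
    rw [cl_ses (PC X) S hS h1 h2 h3]
    exact add_mem p1 p3
  · intro Y hYc hirr hY _ Q hQ hQY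
    have hQ0 : ¬ IsZero Q := by
      intro hz
      have h1 := support_eq_empty_of_isZero hz
      rw [hQY] at h1
      exact hirr.nonempty.ne_empty h1
    obtain ⟨N₀, ν, hν, hN₀, hN₀0, hkill⟩ := exists_sub_killed i.ker Q hQ hQ0
      (by rw [hIs, hQY]; exact hY)
    haveI := hN₀.1
    haveI hunit : IsIso ((Scheme.Modules.pullbackPushforwardAdjunction i).unit.app N₀) := by
      rw [isIso_unit_closedImmersion_iff]
      exact hkill
    have hM₀ : Coh.IsCoh ((Scheme.Modules.pullback i).obj N₀) :=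
      ⟨qc_pullback i N₀, isFiniteType_pullback i N₀ hN₀.2⟩
    refine ⟨N₀, ν, hν, hN₀, hN₀0, ⟨KZero.clSub (PC X') ((Scheme.Modules.pullback i).obj N₀), ?_⟩⟩
    rw [mapSub_clSub _ _ _ hi _ hM₀]
    exact (cl_iso (PC X) (asIso ((Scheme.Modules.pullbackPushforwardAdjunction i).unit.app N₀))
      hN₀).symm

/-- **the localization sequence for `K₀` of coherent modules.** -/
theorem main (hU : Set.range j = (Set.range i)ᶜ) :
    Function.Surjective (SGA6.mapSub (Scheme.Modules.restrictFunctor j)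
        (fun M : X.Modules => Coh.IsCoh M) (fun M : U.Modules => Coh.IsCoh M) hj) ∧
      (SGA6.mapSub (Scheme.Modules.restrictFunctor j)
        (fun M : X.Modules => Coh.IsCoh M) (fun M : U.Modules => Coh.IsCoh M) hj).ker =
        (SGA6.mapSub (Scheme.Modules.pushforward i)
          (fun M : X'.Modules => Coh.IsCoh M) (fun M : X.Modules => Coh.IsCoh M) hi).range := by
  have hd : Disjoint (Set.range j) (Set.range i) := by
    rw [hU]
    exact disjoint_compl_left
  refine ⟨mapSub_restrict_surjective j hj, le_antisymm ?_ (range_mapSub_push_le_ker j hj i hi hd)⟩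
  refine ker_mapSub_restrict_le j _ ?_ hj
  intro Q hQ hQd
  refine cl_mem_range_push i hi Q hQ ?_
  intro x hx
  by_contra hxi
  have hxj : x ∈ Set.range j := by
    rw [hU]
    exact hxi
  exact Set.disjoint_left.mp hQd hxj hx

end Scheme

end Groth.Agent.LD.DF.KLoc
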