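import Groth.Prelude.Def_SGA6
import Groth.Agent.Lib.Lead.DF.KLoc
import Mathlib.CategoryTheory.Abelian.DiagramLemmas.KernelCokernelComp

/-! # Dévissage for `K₀`: the abstract one-step argument

Let `P ≤ Q` be object properties of an abelian category, `P` closed under subobjects and
quotients inside an ambient property `R` closed under kernels and cokernels, and `T ⟶ 𝟭` a functorial subobject preserving epimorphisms of `Q`-objects, with
`T M`, `M / T M` in `P` for `M` in `Q` and `T M = 0` for `M` in `P`.  Then `K₀(P) → K₀(Q)` is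
bijective, with inverse `[M] ↦ [T M] + [M / T M]`. -/

set_option autoImplicit false
universe v v' u u'
open CategoryTheory Limits

namespace Groth.Agent.LD.DF.KDev
open Groth.Agent.H2.KThick Groth.Agent.LD.DF.KLoc

variable {C : Type u} [Category.{v} C] [Abelian C]

/-- the snake input attached to a morphism of short exact sequences. -/
noncomputable def snakeInputOfHom {S₁ S₂ : ShortComplex C} (φ : S₁ ⟶ S₂) (h₁ : S₁.ShortExact)
    (h₂ : S₂.ShortExact) : ShortComplex.SnakeInput C where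
  L₀ :=
    { f := kernel.map φ.τ₁ φ.τ₂ S₁.f S₂.f φ.comm₁₂
      g := kernel.map φ.τ₂ φ.τ₃ S₁.g S₂.g φ.comm₂₃
      zero := by ext; simp }
  L₁ := S₁
  L₂ := S₂
  L₃ :=
    { f := cokernel.map φ.τ₁ φ.τ₂ S₁.f S₂.f φ.comm₁₂
      g := cokernel.map φ.τ₂ φ.τ₃ S₁.g S₂.g φ.comm₂₃
      zero := by ext; simp }
  v₀₁ :=
    { τ₁ := kernel.ι φ.τ₁
      τ₂ := kernel.ι φ.τ₂
      τ₃ := kernel.ι φ.τ₃ }
  v₁₂ := φ
  v₂₃ :=
    { τ₁ := cokernel.π φ.τ₁
      τ₂ := cokernel.π φ.τ₂
      τ₃ := cokernel.π φ.τ₃ }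
  h₀ := by
    apply ShortComplex.isLimitOfIsLimitπ <;>
      apply (KernelFork.isLimitMapConeEquiv _ _).2
    · exact kernelIsKernel _
    · exact kernelIsKernel _
    · exact kernelIsKernel _
  h₃ := by
    apply ShortComplex.isColimitOfIsColimitπ <;>
      apply (CokernelCofork.isColimitMapCoconeEquiv _ _).2
    · exact cokernelIsCokernel _
    · exact cokernelIsCokernel _
    · exact cokernelIsCokernel _
  L₁_exact := h₁.exact
  epi_L₁_g := h₁.epi_g
  L₂_exact := h₂.exact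
  mono_L₂_f := h₂.mono_f

/-- **nine lemma** (cokernel row): for a morphism of short exact sequences whose third component
is a monomorphism, the sequence of cokernels is short exact. -/
theorem shortExact_cokernel_map {S₁ S₂ : ShortComplex C} (φ : S₁ ⟶ S₂) (h₁ : S₁.ShortExact)
    (h₂ : S₂.ShortExact) [Mono φ.τ₃] : (snakeInputOfHom φ h₁ h₂).L₃.ShortExact := by
  haveI : Epi (snakeInputOfHom φ h₁ h₂).L₂.g := h₂.epi_g
  have hz : IsZero (kernel φ.τ₃) := isZero_kernel_of_mono _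
  have hδ : (snakeInputOfHom φ h₁ h₂).δ = 0 := hz.eq_of_src _ _
  have hmono : Mono (snakeInputOfHom φ h₁ h₂).L₃.f :=
    (snakeInputOfHom φ h₁ h₂).L₂'_exact.mono_g hδ
  exact { exact := (snakeInputOfHom φ h₁ h₂).L₃_exact
          mono_f := hmono
          epi_g := inferInstance }

/-- **third isomorphism theorem**: `0 → B/A → D/A → D/B → 0`. -/
theorem shortExact_cokernel_comp {A B D : C} (a : A ⟶ B) (b : B ⟶ D) [Mono b] :
    (kernelCokernelCompSequence.snakeInput a b).L₃.ShortExact := by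
  have hz : IsZero (kernel b) := isZero_kernel_of_mono _
  have hδ : (kernelCokernelCompSequence.snakeInput a b).δ = 0 := hz.eq_of_src _ _
  have hmono : Mono (kernelCokernelCompSequence.snakeInput a b).L₃.f :=
    (kernelCokernelCompSequence.snakeInput a b).L₂'_exact.mono_g hδ
  haveI : Epi (kernelCokernelCompSequence.snakeInput a b).L₂.g :=
    inferInstanceAs (Epi (biprod.snd : B ⊞ D ⟶ D))
  exact { exact := (kernelCokernelCompSequence.snakeInput a b).L₃_exact
          mono_f := hmono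
          epi_g := inferInstance }

section K

variable (P : ObjectProperty C)

theorem cl_cokernel_nine {S₁ S₂ : ShortComplex C} (φ : S₁ ⟶ S₂) (h₁ : S₁.ShortExact)
    (h₂ : S₂.ShortExact) [Mono φ.τ₃] (p₁ : P (cokernel φ.τ₁)) (p₂ : P (cokernel φ.τ₂))
    (p₃ : P (cokernel φ.τ₃)) :
    KZero.clSub P (cokernel φ.τ₂) =
      KZero.clSub P (cokernel φ.τ₁) + KZero.clSub P (cokernel φ.τ₃) :=
  cl_ses P (snakeInputOfHom φ h₁ h₂).L₃ (shortExact_cokernel_map φ h₁ h₂) p₁ p₂ p₃

theorem cl_cokernel_comp {A B D : C} (a : A ⟶ B) (b : B ⟶ D) [Mono b] (c : A ⟶ D)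
    (h : a ≫ b = c) (p₁ : P (cokernel a)) (p₂ : P (cokernel c)) (p₃ : P (cokernel b)) :
    KZero.clSub P (cokernel c) = KZero.clSub P (cokernel a) + KZero.clSub P (cokernel b) := by
  subst h
  exact cl_ses P (kernelCokernelCompSequence.snakeInput a b).L₃ (shortExact_cokernel_comp a b)
    p₁ p₂ p₃

/-- the dévissage function `M ↦ [T M] + [M / T M]`. -/
noncomputable def devFun (T : C ⥤ C) (τ : T ⟶ 𝟭 C) (M : C) : KZero.K0sub P :=
  KZero.clSub P (T.obj M) + KZero.clSub P (cokernel (τ.app M))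

variable [P.IsClosedUnderIsomorphisms] [P.ContainsZero]

/-- additivity of the dévissage function. -/
theorem devFun_add (Q : ObjectProperty C)
    (R : ObjectProperty C) (hPR : ∀ M, P M → R M) (hQR : ∀ M, Q M → R M)
    (hRk : ∀ {A B : C} (f : A ⟶ B), R A → R B → R (kernel f))
    (hRc : ∀ {A B : C} (f : A ⟶ B), R A → R B → R (cokernel f))
    (hsub : ∀ {A B : C} (f : A ⟶ B), Mono f → R A → P B → P A)
    (hquot : ∀ {A B : C} (f : A ⟶ B), Epi f → R B → P A → P B)
    (T : C ⥤ C) (τ : T ⟶ 𝟭 C) (hτ : ∀ M, Q M → Mono (τ.app M))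
    (hT : ∀ {A B : C} (f : A ⟶ B), Epi f → Q A → Q B → Epi (T.map f))
    (h1 : ∀ M, Q M → P (T.obj M)) (h2 : ∀ M, Q M → P (cokernel (τ.app M)))
    (S : ShortComplex C) (hS : S.ShortExact) (q₁ : Q S.X₁) (q₂ : Q S.X₂) (q₃ : Q S.X₃) :
    devFun P T τ S.X₂ = devFun P T τ S.X₁ + devFun P T τ S.X₃ := by
  haveI := hS.mono_f
  haveI := hS.epi_g
  haveI m₁ : Mono (τ.app S.X₁) := hτ _ q₁
  haveI m₂ : Mono (τ.app S.X₂) := hτ _ q₂
  haveI m₃ : Mono (τ.app S.X₃) := hτ _ q₃
  haveI eTg : Epi (T.map S.g) := hT S.g inferInstance q₂ q₃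
  have nf : T.map S.f ≫ τ.app S.X₂ = τ.app S.X₁ ≫ S.f := τ.naturality S.f
  have ng : T.map S.g ≫ τ.app S.X₃ = τ.app S.X₂ ≫ S.g := τ.naturality S.g
  have hfg : T.map S.f ≫ T.map S.g = 0 := by
    rw [← cancel_mono (τ.app S.X₃), Category.assoc, ng, reassoc_of% nf, S.zero, comp_zero,
      zero_comp]
  have hκ0 : (kernel.ι (T.map S.g) ≫ τ.app S.X₂) ≫ S.g = 0 := by
    rw [Category.assoc, ← ng, kernel.condition_assoc, zero_comp]
  obtain ⟨κ, hκ⟩ : ∃ κ : kernel (T.map S.g) ⟶ S.X₁,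
      κ ≫ S.f = kernel.ι (T.map S.g) ≫ τ.app S.X₂ := hS.exact.lift' _ hκ0
  haveI : Mono κ := by
    haveI : Mono (κ ≫ S.f) := by
      rw [hκ]
      infer_instance
    exact mono_of_mono κ S.f
  obtain ⟨l, hl⟩ : ∃ l : T.obj S.X₁ ⟶ kernel (T.map S.g),
      l ≫ kernel.ι (T.map S.g) = T.map S.f := ⟨kernel.lift _ _ hfg, kernel.lift_ι _ _ _⟩
  have hlκ : l ≫ κ = τ.app S.X₁ := by
    rw [← cancel_mono S.f, Category.assoc, hκ, reassoc_of% hl, nf]
  haveI : Mono l := by
    haveI : Mono (l ≫ κ) := by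
      rw [hlκ]
      infer_instance
    exact mono_of_mono l κ
  have pT₁ := h1 _ q₁
  have pT₂ := h1 _ q₂
  have pT₃ := h1 _ q₃
  have pC₁ := h2 _ q₁
  have pC₂ := h2 _ q₂
  have pC₃ := h2 _ q₃
  have rK : R (kernel (T.map S.g)) := hRk _ (hPR _ pT₂) (hPR _ pT₃)
  have pK : P (kernel (T.map S.g)) := hsub (kernel.ι (T.map S.g)) inferInstance rK pT₂
  have pL : P (cokernel l) := hquot (cokernel.π l) inferInstance (hRc _ (hPR _ pT₁) rK) pK
  have pCκ : P (cokernel κ) := by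
    have w : τ.app S.X₁ ≫ cokernel.π κ = 0 := by
      rw [← hlκ, Category.assoc, cokernel.condition, comp_zero]
    have hfac : cokernel.π (τ.app S.X₁) ≫ cokernel.desc _ _ w = cokernel.π κ :=
      cokernel.π_desc _ _ _
    haveI : Epi (cokernel.desc (τ.app S.X₁) (cokernel.π κ) w) := epi_of_epi_fac hfac
    exact hquot (cokernel.desc (τ.app S.X₁) (cokernel.π κ) w) inferInstance
      (hRc _ rK (hQR _ q₁)) pC₁
  have hS₁ : (ShortComplex.mk (kernel.ι (T.map S.g)) (T.map S.g)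
      (kernel.condition _)).ShortExact :=
    { exact := ShortComplex.exact_kernel _
      mono_f := by dsimp; infer_instance
      epi_g := eTg }
  have e1 : KZero.clSub P (T.obj S.X₂) =
      KZero.clSub P (kernel (T.map S.g)) + KZero.clSub P (T.obj S.X₃) :=
    cl_ses P _ hS₁ pK pT₂ pT₃
  have e3 : KZero.clSub P (kernel (T.map S.g)) =
      KZero.clSub P (T.obj S.X₁) + KZero.clSub P (cokernel l) :=
    cl_ses P (ShortComplex.mk l (cokernel.π l) (cokernel.condition _))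
      { exact := ShortComplex.exact_cokernel _
        mono_f := by dsimp; infer_instance
        epi_g := by dsimp; infer_instance } pT₁ pK pL
  have e4 : KZero.clSub P (cokernel (τ.app S.X₁)) =
      KZero.clSub P (cokernel l) + KZero.clSub P (cokernel κ) :=
    cl_cokernel_comp P l κ (τ.app S.X₁) hlκ pL pC₁ pCκ
  have e2 : KZero.clSub P (cokernel (τ.app S.X₂)) =
      KZero.clSub P (cokernel κ) + KZero.clSub P (cokernel (τ.app S.X₃)) := by
    let φ : ShortComplex.mk (kernel.ι (T.map S.g)) (T.map S.g) (kernel.condition _) ⟶ S :=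
      { τ₁ := κ
        τ₂ := τ.app S.X₂
        τ₃ := τ.app S.X₃
        comm₁₂ := hκ
        comm₂₃ := ng.symm }
    haveI : Mono φ.τ₃ := m₃
    exact cl_cokernel_nine P φ hS₁ hS pCκ pC₂ pC₃
  unfold devFun
  rw [e1, e3, e2, e4]
  abel

/-- **one-step dévissage for `K₀`.** -/
theorem bijective_mapSub_id (Q : ObjectProperty C) [Q.IsClosedUnderIsomorphisms]
    [Q.ContainsZero] (hPQ : ∀ M, P M → Q M)
    (R : ObjectProperty C) (hPR : ∀ M, P M → R M) (hQR : ∀ M, Q M → R M)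
    (hRk : ∀ {A B : C} (f : A ⟶ B), R A → R B → R (kernel f))
    (hRc : ∀ {A B : C} (f : A ⟶ B), R A → R B → R (cokernel f))
    (hsub : ∀ {A B : C} (f : A ⟶ B), Mono f → R A → P B → P A)
    (hquot : ∀ {A B : C} (f : A ⟶ B), Epi f → R B → P A → P B)
    (T : C ⥤ C) (τ : T ⟶ 𝟭 C) (hτ : ∀ M, Q M → Mono (τ.app M))
    (hT : ∀ {A B : C} (f : A ⟶ B), Epi f → Q A → Q B → Epi (T.map f))
    (h1 : ∀ M, Q M → P (T.obj M)) (h2 : ∀ M, Q M → P (cokernel (τ.app M)))
    (h3 : ∀ M, P M → IsZero (T.obj M)) :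
    Function.Bijective (SGA6.mapSub (𝟭 C) P Q hPQ) := by
  obtain ⟨ψ, hψ⟩ : ∃ ψ : KZero.K0sub Q →+ KZero.K0sub P,
      ∀ (M : C) (_ : Q M), ψ (KZero.clSub Q M) = devFun P T τ M :=
    ⟨liftK Q (fun M => devFun P T τ M.1) (fun S q₁ q₂ q₃ hS =>
      devFun_add P Q R hPR hQR hRk hRc hsub hquot T τ hτ hT h1 h2 S hS q₁ q₂ q₃),
      fun M hM => liftK_cl Q _ _ M hM⟩
  have hleft : ∀ x, ψ (SGA6.mapSub (𝟭 C) P Q hPQ x) = x := by
    intro x
    have hx : x ∈ AddMonoidHom.eqLocus (ψ.comp (SGA6.mapSub (𝟭 C) P Q hPQ))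
        (AddMonoidHom.id _) := by
      refine mem_of_forall_cl P _ (fun M hM => ?_) x
      change ψ (SGA6.mapSub (𝟭 C) P Q hPQ (KZero.clSub P M)) = KZero.clSub P M
      rw [mapSub_clSub (𝟭 C) P Q hPQ M hM]
      change ψ (KZero.clSub Q M) = _
      rw [hψ M (hPQ M hM)]
      unfold devFun
      have hz := h3 M hM
      rw [cl_zero P hz, zero_add]
      have h0 : τ.app M = 0 := hz.eq_of_src _ _
      haveI : IsIso (cokernel.π (τ.app M)) := by
        rw [h0]
        infer_instance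
      exact (cl_iso P (asIso (cokernel.π (τ.app M))) hM).symm
    exact hx
  have hright : ∀ y, SGA6.mapSub (𝟭 C) P Q hPQ (ψ y) = y := by
    intro y
    have hy : y ∈ AddMonoidHom.eqLocus ((SGA6.mapSub (𝟭 C) P Q hPQ).comp ψ)
        (AddMonoidHom.id _) := by
      refine mem_of_forall_cl Q _ (fun M hM => ?_) y
      change SGA6.mapSub (𝟭 C) P Q hPQ (ψ (KZero.clSub Q M)) = KZero.clSub Q M
      rw [hψ M hM]
      unfold devFun
      rw [map_add, mapSub_clSub (𝟭 C) P Q hPQ _ (h1 M hM),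
        mapSub_clSub (𝟭 C) P Q hPQ _ (h2 M hM)]
      haveI : Mono (τ.app M) := hτ M hM
      exact (cl_ses Q (ShortComplex.mk (τ.app M) (cokernel.π (τ.app M)) (cokernel.condition _))
        { exact := ShortComplex.exact_cokernel _
          mono_f := by dsimp; infer_instance
          epi_g := by dsimp; infer_instance } (hPQ _ (h1 M hM)) hM (hPQ _ (h2 M hM))).symm
    exact hy
  exact ⟨Function.LeftInverse.injective hleft, Function.RightInverse.surjective hright⟩

end K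

section Maps

variable {A : Type u} [Category.{v} A] [Abelian A] {B : Type u'} [Category.{v'} B] [Abelian B]

/-- composing with a comparison map `K₀(Q) → K₀(R)`. -/
theorem mapSub_id_mapSub (F : A ⥤ B) [F.Additive] [PreservesFiniteLimits F]
    [PreservesFiniteColimits F] (P : ObjectProperty A) (Q R : ObjectProperty B)
    (hF : ∀ M, P M → Q (F.obj M)) (hQR : ∀ M, Q M → R M) (hFR : ∀ M, P M → R (F.obj M))
    (x : KZero.K0sub P) :
    SGA6.mapSub (𝟭 B) Q R hQR (SGA6.mapSub F P Q hF x) = SGA6.mapSub F P R hFR x := by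
  have hx : x ∈ AddMonoidHom.eqLocus ((SGA6.mapSub (𝟭 B) Q R hQR).comp (SGA6.mapSub F P Q hF))
      (SGA6.mapSub F P R hFR) := by
    refine mem_of_forall_cl P _ (fun M hM => ?_) x
    change SGA6.mapSub (𝟭 B) Q R hQR (SGA6.mapSub F P Q hF (KZero.clSub P M)) =
      SGA6.mapSub F P R hFR (KZero.clSub P M)
    rw [mapSub_clSub F P Q hF M hM, mapSub_clSub F P R hFR M hM,
      mapSub_clSub (𝟭 B) Q R hQR _ (hF M hM)]
    rfl
  exact hx

/-- equivalent properties have the same `K₀`. -/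
theorem bijective_mapSub_id_of_iff (Q R : ObjectProperty B) (hQR : ∀ M, Q M → R M)
    (hRQ : ∀ M, R M → Q M) : Function.Bijective (SGA6.mapSub (𝟭 B) Q R hQR) := by
  have hleft : ∀ x, SGA6.mapSub (𝟭 B) R Q hRQ (SGA6.mapSub (𝟭 B) Q R hQR x) = x := by
    intro x
    have hx : x ∈ AddMonoidHom.eqLocus ((SGA6.mapSub (𝟭 B) R Q hRQ).comp
        (SGA6.mapSub (𝟭 B) Q R hQR)) (AddMonoidHom.id _) := by
      refine mem_of_forall_cl Q _ (fun M hM => ?_) x
      change SGA6.mapSub (𝟭 B) R Q hRQ (SGA6.mapSub (𝟭 B) Q R hQR (KZero.clSub Q M)) =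
        KZero.clSub Q M
      rw [mapSub_clSub (𝟭 B) Q R hQR M hM]
      exact mapSub_clSub (𝟭 B) R Q hRQ M (hQR M hM)
    exact hx
  have hright : ∀ y, SGA6.mapSub (𝟭 B) Q R hQR (SGA6.mapSub (𝟭 B) R Q hRQ y) = y := by
    intro y
    have hy : y ∈ AddMonoidHom.eqLocus ((SGA6.mapSub (𝟭 B) Q R hQR).comp
        (SGA6.mapSub (𝟭 B) R Q hRQ)) (AddMonoidHom.id _) := by
      refine mem_of_forall_cl R _ (fun M hM => ?_) y
      change SGA6.mapSub (𝟭 B) Q R hQR (SGA6.mapSub (𝟭 B) R Q hRQ (KZero.clSub R M)) =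
        KZero.clSub R M
      rw [mapSub_clSub (𝟭 B) R Q hRQ M hM]
      exact mapSub_clSub (𝟭 B) Q R hQR M (hRQ M hM)
    exact hy
  exact ⟨Function.LeftInverse.injective hleft, Function.RightInverse.surjective hright⟩

end Maps

end Groth.Agent.LD.DF.KDev
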