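import Groth.Agent.Lib.Lead.DF.Dev
import Groth.Agent.Lib.Lead.QC.Ext

/-! # Coherence of direct images by dévissage (EGA III 3.1.3 style criterion) -/

set_option autoImplicit false
universe u
open CategoryTheory Limits Opposite AlgebraicGeometry TopologicalSpace

namespace Groth.Agent.LD.DF
open Groth.Agent.LD.QC

/-- an extension of coherent modules is coherent (same argument as `H5.HP.isCoh_of_shortExact`,
repeated here to keep imports light). -/
theorem isCoh_of_shortExact {X : Scheme.{u}} (S : ShortComplex X.Modules) (hS : S.ShortExact)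
    (h1 : Coh.IsCoh S.X₁) (h3 : Coh.IsCoh S.X₃) : Coh.IsCoh S.X₂ := by
  have hqc := qc_of_shortExact S hS h1.1 h3.1
  refine ⟨hqc, ?_⟩
  haveI := hqc
  haveI := h1.1
  haveI := h3.1
  haveI := hS.epi_g
  rw [isFiniteType_iff_finite_sections]
  intro U hU
  haveI f1 := finite_sections_of_isFiniteType S.X₁ h1.2 hU
  haveI f3 := finite_sections_of_isFiniteType S.X₃ h3.2 hU
  refine Module.Finite.of_exact (f := appLinear S.f U) (g := appLinear S.g U) ?_
    (epi_app_affine hqc h3.1 S.g hU)
  intro s
  constructor
  · intro hs
    obtain ⟨t, ht⟩ := exact_sections S hS U s hs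
    exact ⟨t, ht⟩
  · rintro ⟨t, rfl⟩
    change (S.g.app U) ((S.f.app U) t) = 0
    have : (S.f ≫ S.g).app U t = 0 := by rw [S.zero]; rfl
    exact this

/-- **coherence of direct images by dévissage**: let `f : X ⟶ Y` be a morphism of Noetherian
schemes such that every integral closed subscheme `Z ⊆ X` carries a coherent module, nonzero at
the generic point, with coherent direct image on `Y`. Then `f_*` preserves coherence. -/
theorem isCoh_pushforward_of_generic {X Y : Scheme.{u}} [IsNoetherian X] [IsNoetherian Y]
    (f : X ⟶ Y)
    (hgen : ∀ (Z : Scheme.{u}) (i : Z ⟶ X) [IsClosedImmersion i] [IsIntegral Z],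
      ∃ H : Z.Modules, Coh.IsCoh H ∧ Nontrivial (H.presheaf.stalk (genericPoint Z)) ∧
        Coh.IsCoh ((Scheme.Modules.pushforward (i ≫ f)).obj H))
    (F : X.Modules) (hF : Coh.IsCoh F) : Coh.IsCoh ((Scheme.Modules.pushforward f).obj F) := by
  haveI : PreservesLimitsOfSize.{0, 0} (Scheme.Modules.pushforward f) :=
    (Scheme.Modules.pullbackPushforwardAdjunction f).rightAdjoint_preservesLimits
  haveI : PreservesFiniteLimits (Scheme.Modules.pushforward f) :=
    PreservesLimitsOfSize.preservesFiniteLimits.{0, 0} _
  rcases isEmpty_or_nonempty X with hX | hX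
  · -- `X` empty: everything is zero
    have hz : IsZero F := by
      apply isZero_of_support_eq_empty
      ext x
      exact (hX.false x).elim
    exact isCoh_of_isZero (isCoh_structureModule Y)
      ((Scheme.Modules.pushforward f).map_isZero hz)
  let K : ObjectProperty X.Modules := fun G => Coh.IsCoh ((Scheme.Modules.pushforward f).obj G)
  haveI : K.IsClosedUnderIsomorphisms :=
    ⟨fun {A B} e h => isCoh_of_iso ((Scheme.Modules.pushforward f).mapIso e) h⟩
  have hqcp : ∀ G : X.Modules, G.IsQuasicoherent →
      ((Scheme.Modules.pushforward f).obj G).IsQuasicoherent := by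
    intro G hG
    haveI := hG
    exact qc_pushforward f G
  -- the direct image of the left term of a short exact sequence is a kernel
  have hkerIso : ∀ S : ShortComplex X.Modules, S.ShortExact →
      Nonempty ((Scheme.Modules.pushforward f).obj S.X₁ ≅
        kernel ((Scheme.Modules.pushforward f).map S.g)) := by
    intro S hS
    have hc := KernelFork.mapIsLimit _ hS.fIsKernel (Scheme.Modules.pushforward f)
    exact ⟨IsLimit.conePointUniqueUpToIso hc (limit.isLimit _)⟩
  refine devissage_weak X K ?_ ?_ ?_ F hF
  · intro S hS c1 c2 c3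
    obtain ⟨e⟩ := hkerIso S hS
    constructor
    · intro h2 h3
      exact isCoh_of_iso e.symm (isCoh_kernel _ h2 h3)
    · intro h1 h3
      have hq2 := hqcp S.X₂ c2.1
      have hk : Coh.IsCoh (kernel ((Scheme.Modules.pushforward f).map S.g)) :=
        isCoh_of_iso e h1
      have hqcok : (cokernel ((Scheme.Modules.pushforward f).map S.g)).IsQuasicoherent :=
        qc_cokernel _ hq2 h3.1
      have hqim : (Abelian.image ((Scheme.Modules.pushforward f).map S.g)).IsQuasicoherent :=
        qc_kernel _ h3.1 hqcok
      have him : Coh.IsCoh (Abelian.image ((Scheme.Modules.pushforward f).map S.g)) :=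
        isCoh_of_mono (Abelian.image.ι _) hqim h3
      have hzero : kernel.ι ((Scheme.Modules.pushforward f).map S.g) ≫
          Abelian.factorThruImage ((Scheme.Modules.pushforward f).map S.g) = 0 := by
        rw [← cancel_mono (Abelian.image.ι _), Category.assoc, Abelian.image.fac,
          kernel.condition, zero_comp]
      have hses1 : (ShortComplex.mk (kernel.ι ((Scheme.Modules.pushforward f).map S.g))
          (Abelian.factorThruImage ((Scheme.Modules.pushforward f).map S.g)) hzero).ShortExact :=
        { exact := by
            apply ShortComplex.exact_of_f_is_kernel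
            exact isKernelOfComp (Abelian.image.ι _) _ (kernelIsKernel _) hzero
              (Abelian.image.fac _)
          mono_f := inferInstanceAs (Mono (kernel.ι _))
          epi_g := inferInstanceAs (Epi (Abelian.factorThruImage _)) }
      exact isCoh_of_shortExact _ hses1 hk him
  · intro G d hd hG h
    haveI : Mono ((Scheme.Modules.pushforward f).map
        (Sigma.ι (fun _ : Fin d => G) ⟨0, hd⟩)) := inferInstance
    exact isCoh_of_mono ((Scheme.Modules.pushforward f).map
      (Sigma.ι (fun _ : Fin d => G) ⟨0, hd⟩)) (hqcp G hG.1) h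
  · intro Z i _ _
    obtain ⟨H, hH, hHη, hc⟩ := hgen Z i
    exact ⟨H, hH, hHη, isCoh_of_iso ((Scheme.Modules.pushforwardComp i f).app H).symm hc⟩

end Groth.Agent.LD.DF
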