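import Groth.Agent.Lib.Lead.DF.KLoc
import Groth.Agent.Lib.Lead.FK.Glue2
import Mathlib.CategoryTheory.Localization.CalculusOfFractions
import Mathlib.CategoryTheory.Localization.LocalizerMorphism

/-! # `Coh(X) ⥤ Coh(U)` is a localization (Gabriel) -/

set_option autoImplicit false
universe v v' u u'
open CategoryTheory Limits Opposite AlgebraicGeometry TopologicalSpace

namespace Groth.Agent.LD.DF.Gabriel
open Groth.Agent.LD.QC Groth.Agent.LD.DF Groth.Agent.LD.DF.KLoc

section Abstract

variable {C : Type u} [Category.{v} C] {D : Type u'} [Category.{v'} D]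

open Localization.Construction in
/-- a criterion for a functor to be a localization, in the presence of a right calculus of
fractions. -/
theorem isLocalization_of_calculus (L : C ⥤ D) (W : MorphismProperty C)
    [W.HasRightCalculusOfFractions] (h1 : W.IsInvertedBy L) [L.EssSurj]
    (h3 : ∀ (A B : C) (φ : L.obj A ⟶ L.obj B), ∃ (A' : C) (s : A' ⟶ A) (_ : W s) (φ' : A' ⟶ B),
      L.map φ' = L.map s ≫ φ)
    (h4 : ∀ (A B : C) (a b : A ⟶ B), L.map a = L.map b →
      ∃ (A' : C) (w : A' ⟶ A), W w ∧ w ≫ a = w ≫ b) :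
    L.IsLocalization W := by
  obtain ⟨G, ⟨e⟩⟩ : ∃ G : W.Localization ⥤ D, Nonempty (W.Q ⋙ G ≅ L) :=
    ⟨Localization.lift L h1 W.Q, ⟨Localization.fac L h1 W.Q⟩⟩
  have key_full : ∀ (A B : C) (f : G.obj (W.Q.obj A) ⟶ G.obj (W.Q.obj B)),
      ∃ g : W.Q.obj A ⟶ W.Q.obj B, G.map g = f := by
    intro A B f
    obtain ⟨A', s, hs, φ', hφ'⟩ := h3 A B (e.inv.app A ≫ f ≫ e.hom.app B)
    haveI : IsIso (W.Q.map s) := Localization.inverts W.Q W s hs
    refine ⟨inv (W.Q.map s) ≫ W.Q.map φ', ?_⟩
    have n1 : G.map (W.Q.map φ') ≫ e.hom.app B = e.hom.app A' ≫ L.map φ' :=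
      e.hom.naturality φ'
    have n2 : G.map (W.Q.map s) ≫ e.hom.app A = e.hom.app A' ≫ L.map s :=
      e.hom.naturality s
    rw [G.map_comp, Functor.map_inv, IsIso.inv_comp_eq, ← cancel_mono (e.hom.app B), n1, hφ',
      Category.assoc, ← reassoc_of% n2, Iso.hom_inv_id_app_assoc]
  have key_faith : ∀ (A B : C) (f g : W.Q.obj A ⟶ W.Q.obj B), G.map f = G.map g → f = g := by
    intro A B f g hfg
    obtain ⟨φ, rfl⟩ := Localization.exists_rightFraction W.Q W f
    obtain ⟨ψ, rfl⟩ := Localization.exists_rightFraction W.Q W g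
    rw [MorphismProperty.RightFraction.map_eq_iff W.Q W]
    obtain ⟨ρ, hρ⟩ := MorphismProperty.HasRightCalculusOfFractions.exists_rightFraction
      (W := W) (MorphismProperty.LeftFraction.mk φ.s ψ.s ψ.hs)
    dsimp at hρ
    have hQ1 : W.Q.map (ρ.s ≫ φ.f) =
        W.Q.map (ρ.s ≫ φ.s) ≫ φ.map W.Q (Localization.inverts _ _) := by
      rw [Functor.map_comp, Functor.map_comp, Category.assoc,
        MorphismProperty.RightFraction.map_s_comp_map]
    have hQ2 : W.Q.map (ρ.f ≫ ψ.f) =
        W.Q.map (ρ.s ≫ φ.s) ≫ ψ.map W.Q (Localization.inverts _ _) := by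
      rw [hρ, Functor.map_comp, Functor.map_comp, Category.assoc,
        MorphismProperty.RightFraction.map_s_comp_map]
    have hGQ : (W.Q ⋙ G).map (ρ.s ≫ φ.f) = (W.Q ⋙ G).map (ρ.f ≫ ψ.f) := by
      show G.map (W.Q.map _) = G.map (W.Q.map _)
      rw [hQ1, hQ2, G.map_comp, G.map_comp, hfg]
    have hL : L.map (ρ.s ≫ φ.f) = L.map (ρ.f ≫ ψ.f) := by
      rw [← NatIso.naturality_1 e (ρ.s ≫ φ.f), ← NatIso.naturality_1 e (ρ.f ≫ ψ.f), hGQ]
    obtain ⟨Z, w, hw, hwe⟩ := h4 _ _ _ _ hL
    refine ⟨Z, w ≫ ρ.s, w ≫ ρ.f, ?_, ?_, ?_⟩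
    · rw [Category.assoc, Category.assoc, hρ]
    · rw [Category.assoc, Category.assoc]
      exact hwe
    · rw [Category.assoc]
      exact W.comp_mem _ _ hw (W.comp_mem _ _ ρ.hs φ.hs)
  have hfull : G.Full := ⟨fun {X Y} f => by
    obtain ⟨A, rfl⟩ := (objEquiv W).surjective X
    obtain ⟨B, rfl⟩ := (objEquiv W).surjective Y
    exact key_full A B f⟩
  have hfaith : G.Faithful := ⟨fun {X Y} f g hfg => by
    obtain ⟨A, rfl⟩ := (objEquiv W).surjective X
    obtain ⟨B, rfl⟩ := (objEquiv W).surjective Y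
    exact key_faith A B f g hfg⟩
  have hess : G.EssSurj :=
    ⟨fun X => ⟨W.Q.obj (L.objPreimage X), ⟨e.app _ ≪≫ L.objObjPreimageIso X⟩⟩⟩
  haveI : G.IsEquivalence := { faithful := hfaith, full := hfull, essSurj := hess }
  exact Functor.IsLocalization.of_equivalence_target W.Q W L G.asEquivalence e

end Abstract

section Scheme

variable (X : Scheme.{u}) [IsNoetherian X] (U : X.Opens)
  (hres : ∀ M : X.Modules, Coh.IsCoh M →
    Coh.IsCoh ((Scheme.Modules.restrictFunctor U.ι).obj M))

/-- the restriction functor on coherent modules. -/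
noncomputable abbrev LU : (PC X).FullSubcategory ⥤ (PC (↑U : Scheme.{u})).FullSubcategory :=
  ObjectProperty.lift (PC (↑U : Scheme.{u}))
    (ObjectProperty.ι (PC X) ⋙ Scheme.Modules.restrictFunctor U.ι)
    (fun M => hres M.obj M.property)

/-- morphisms with kernel and cokernel supported off `U`. -/
def WU : MorphismProperty (PC X).FullSubcategory := fun _ _ f =>
  CohB1.support (kernel f.hom) ⊆ (↑U : Set X)ᶜ ∧ CohB1.support (cokernel f.hom) ⊆ (↑U : Set X)ᶜ

variable {X U}

omit [AlgebraicGeometry.IsNoetherian X] in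
theorem WU_iff {A B : (PC X).FullSubcategory} (f : A ⟶ B) :
    WU X U f ↔ IsIso ((Scheme.Modules.restrictFunctor U.ι).map f.hom) := by
  constructor
  · rintro ⟨hk, hc⟩
    refine isIso_restrict_of_support U.ι f.hom ?_ ?_
    · rw [Scheme.Opens.range_ι]
      exact Set.subset_compl_iff_disjoint_left.mp hk
    · rw [Scheme.Opens.range_ι]
      exact Set.subset_compl_iff_disjoint_left.mp hc
  · intro h
    obtain ⟨hk, hc⟩ := support_disjoint_of_isIso_restrict U.ι f.hom h
    rw [Scheme.Opens.range_ι] at hk hc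
    exact ⟨Set.subset_compl_iff_disjoint_left.mpr hk, Set.subset_compl_iff_disjoint_left.mpr hc⟩

omit [AlgebraicGeometry.IsNoetherian X] in
theorem isIso_LU_map_iff {A B : (PC X).FullSubcategory} (f : A ⟶ B) :
    IsIso ((LU X U hres).map f) ↔ IsIso ((Scheme.Modules.restrictFunctor U.ι).map f.hom) :=
  (ObjectProperty.isIso_hom_iff ((LU X U hres).map f)).symm

/-- morphisms with the same restriction are equalized by a morphism which is an isomorphism
over `U`. -/
theorem exists_equalizer_of_map_eq {A B : (PC X).FullSubcategory} (a b : A ⟶ B)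
    (h : (LU X U hres).map a = (LU X U hres).map b) :
    ∃ (A' : (PC X).FullSubcategory) (w : A' ⟶ A),
      (MorphismProperty.isomorphisms _).inverseImage (LU X U hres) w ∧ w ≫ a = w ≫ b := by
  have hd : (Scheme.Modules.restrictFunctor U.ι).map (a.hom - b.hom) = 0 := by
    rw [Functor.map_sub, sub_eq_zero]
    exact congrArg (fun φ => φ.hom) h
  have hK : Coh.IsCoh (kernel (a.hom - b.hom)) := isCoh_kernel _ A.property B.property
  refine ⟨⟨_, hK⟩, ObjectProperty.homMk (kernel.ι (a.hom - b.hom)), ?_, ?_⟩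
  · refine (isIso_LU_map_iff hres _).2 ?_
    show IsIso ((Scheme.Modules.restrictFunctor U.ι).map (kernel.ι (a.hom - b.hom)))
    have h1 : (Scheme.Modules.restrictFunctor U.ι).map (kernel.ι (a.hom - b.hom)) =
        (PreservesKernel.iso (Scheme.Modules.restrictFunctor U.ι) (a.hom - b.hom)).hom ≫
          kernel.ι ((Scheme.Modules.restrictFunctor U.ι).map (a.hom - b.hom)) := by
      rw [← PreservesKernel.iso_inv_ι, Iso.hom_inv_id_assoc]
    have hlim := kernelIsKernel ((Scheme.Modules.restrictFunctor U.ι).map (a.hom - b.hom))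
    have hiso := KernelFork.IsLimit.isIso_ι _ hlim hd
    haveI : IsIso (kernel.ι ((Scheme.Modules.restrictFunctor U.ι).map (a.hom - b.hom))) := hiso
    rw [h1]
    infer_instance
  · apply ObjectProperty.hom_ext
    show kernel.ι (a.hom - b.hom) ≫ a.hom = kernel.ι (a.hom - b.hom) ≫ b.hom
    rw [← sub_eq_zero, ← Preadditive.comp_sub, kernel.condition]

/-- morphisms over `U` are fractions. -/
theorem exists_fraction (A B : (PC X).FullSubcategory)
    (φ : (LU X U hres).obj A ⟶ (LU X U hres).obj B) :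
    ∃ (A' : (PC X).FullSubcategory) (s : A' ⟶ A)
      (_ : (MorphismProperty.isomorphisms _).inverseImage (LU X U hres) s) (φ' : A' ⟶ B),
      (LU X U hres).map φ' = (LU X U hres).map s ≫ φ := by
  obtain ⟨A', ι, φ', hι, hA', hιiso, hφ'⟩ :=
    exists_sub_extension U.ι A.obj B.obj A.property B.property.1 φ.hom
  refine ⟨⟨A', hA'⟩, ObjectProperty.homMk ι, (isIso_LU_map_iff hres _).2 hιiso,
    ObjectProperty.homMk φ', ?_⟩
  apply ObjectProperty.hom_ext
  exact hφ'

instance essSurj_LU : (LU X U hres).EssSurj := ⟨fun N => by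
  obtain ⟨M, hM, ⟨e⟩⟩ := exists_coh_extension U.ι N.obj N.property
  exact ⟨⟨M, hM⟩, ⟨ObjectProperty.isoMk _ e⟩⟩⟩

instance hasRightCalculus_LU :
    ((MorphismProperty.isomorphisms _).inverseImage (LU X U hres)).HasRightCalculusOfFractions where
  exists_rightFraction A B φ := by
    have hP : Coh.IsCoh (pullback φ.f.hom φ.s.hom) :=
      Groth.Agent.LD.FK.isCoh_pullback _ _ A.property B.property φ.Y'.property.1
    haveI : IsIso ((Scheme.Modules.restrictFunctor U.ι).map φ.s.hom) :=
      (isIso_LU_map_iff hres _).1 φ.hs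
    refine ⟨MorphismProperty.RightFraction.mk (X' := ⟨_, hP⟩)
      (ObjectProperty.homMk (pullback.fst φ.f.hom φ.s.hom)) ?_
      (ObjectProperty.homMk (pullback.snd φ.f.hom φ.s.hom)), ?_⟩
    · refine (isIso_LU_map_iff hres _).2 ?_
      show IsIso ((Scheme.Modules.restrictFunctor U.ι).map (pullback.fst φ.f.hom φ.s.hom))
      rw [← PreservesPullback.iso_hom_fst (Scheme.Modules.restrictFunctor U.ι) φ.f.hom φ.s.hom]
      infer_instance
    · apply ObjectProperty.hom_ext
      exact pullback.condition (f := φ.f.hom) (g := φ.s.hom)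
  ext A B B' f₁ f₂ s hs h := by
    haveI : IsIso ((LU X U hres).map s) := hs
    have hL : (LU X U hres).map f₁ = (LU X U hres).map f₂ := by
      rw [← cancel_mono ((LU X U hres).map s), ← Functor.map_comp, ← Functor.map_comp, h]
    obtain ⟨A', w, hw, hwe⟩ := exists_equalizer_of_map_eq hres f₁ f₂ hL
    exact ⟨A', w, hw, hwe⟩

/-- **Gabriel**: the restriction `Coh(X) ⥤ Coh(U)` is the localization at the morphisms with
kernel and cokernel supported off `U`. -/
theorem main : (LU X U hres).IsLocalization (WU X U) := by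
  have hW : WU X U = (MorphismProperty.isomorphisms _).inverseImage (LU X U hres) := by
    ext A B f
    exact (WU_iff f).trans (isIso_LU_map_iff hres f).symm
  rw [hW]
  exact isLocalization_of_calculus _ _ (fun _ _ f hf => hf) (exists_fraction hres)
    (fun A B a b h => exists_equalizer_of_map_eq hres a b h)

end Scheme

end Groth.Agent.LD.DF.Gabriel
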