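import Mathlib

/-! # Polynomial-like ring extensions and modules killed by the variable

`PolyLike φ t` records the two properties of `A → A[t]` we need: every element is a constant plus a
multiple of `t`, and multiplication by `t` has an `A`-linear retraction.  For such an extension and a
`B`-module `N` killed by `t`, the sequence `0 → B ⊗_A N → B ⊗_A N → N → 0` (multiplication by `t`,
then the action map) is exact. -/

set_option autoImplicit false
open TensorProduct

namespace Groth.Agent.LD.DF.A1

variable {A B : Type*} [CommRing A] [CommRing B]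

/-- `B` looks like a polynomial ring `A[t]`. -/
structure PolyLike (φ : A →+* B) (t : B) : Prop where
  dec : ∀ b : B, ∃ (a : A) (b' : B), b = φ a + t * b'
  retr : ∃ d : B →+ B, (∀ a b, d (φ a * b) = φ a * d b) ∧ ∀ b, d (t * b) = b

theorem divX_X_mul (p : Polynomial A) : Polynomial.divX (Polynomial.X * p) = p := by
  ext n
  rw [Polynomial.coeff_divX, Polynomial.coeff_X_mul]

theorem polyLike_of_bijective (φ : A →+* B) (t : B)
    (h : Function.Bijective (Polynomial.eval₂RingHom φ t)) : PolyLike φ t := by
  obtain ⟨e, he⟩ : ∃ e : Polynomial A ≃+* B, ∀ p, e p = Polynomial.eval₂RingHom φ t p :=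
    ⟨RingEquiv.ofBijective _ h, fun _ => rfl⟩
  have heC : ∀ a, e (Polynomial.C a) = φ a := fun a => by
    rw [he, Polynomial.coe_eval₂RingHom, Polynomial.eval₂_C]
  have heX : e Polynomial.X = t := by
    rw [he, Polynomial.coe_eval₂RingHom, Polynomial.eval₂_X]
  constructor
  · intro b
    obtain ⟨p, rfl⟩ := e.surjective b
    refine ⟨p.coeff 0, e (Polynomial.divX p), ?_⟩
    rw [← heC, ← heX, ← map_mul, ← map_add, add_comm, Polynomial.X_mul_divX_add]
  · refine ⟨⟨⟨fun b => e (Polynomial.divX (e.symm b)), ?_⟩, ?_⟩, ?_, ?_⟩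
    · rw [map_zero, Polynomial.divX_zero, map_zero]
    · intro x y
      change e (Polynomial.divX (e.symm (x + y))) = e _ + e _
      rw [map_add, Polynomial.divX_add, map_add]
    · intro a b
      change e (Polynomial.divX (e.symm (φ a * b))) = φ a * e (Polynomial.divX (e.symm b))
      rw [map_mul, ← heC, e.symm_apply_apply, Polynomial.divX_C_mul, map_mul]
    · intro b
      change e (Polynomial.divX (e.symm (t * b))) = b
      rw [map_mul, ← heX, e.symm_apply_apply, divX_X_mul, e.apply_symm_apply]

theorem polyLike_of_bijective_mv {σ : Type*} [Unique σ] (φ : A →+* B) (t : σ → B)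
    (h : Function.Bijective (MvPolynomial.eval₂Hom φ t)) : PolyLike φ (t default) := by
  apply polyLike_of_bijective
  have ht : t = fun _ => t default := by
    funext i
    rw [Unique.eq_default i]
  have hcomp : ⇑(Polynomial.eval₂RingHom φ (t default)) =
      ⇑(MvPolynomial.eval₂Hom φ t) ∘ ⇑(MvPolynomial.uniqueAlgEquiv A σ).symm := by
    funext f
    change Polynomial.eval₂ φ (t default) f =
      MvPolynomial.eval₂ φ t ((MvPolynomial.uniqueAlgEquiv A σ).symm f)
    rw [ht]
    exact (MvPolynomial.eval₂_const_uniqueAlgEquiv_symm).symm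
  rw [hcomp]
  exact h.comp (MvPolynomial.uniqueAlgEquiv A σ).symm.bijective

section Module

variable [Algebra A B] {t : B} (hpoly : PolyLike (algebraMap A B) t)
  {N G : Type*} [AddCommGroup N] [Module A N] [Module B N] [IsScalarTower A B N]
  [AddCommGroup G] [Module A G] [Module B G] [IsScalarTower A B G]

include hpoly in
/-- a `B`-module of finite type killed by `t` is of finite type over `A`. -/
theorem finite_of_killed [Module.Finite B N] (ht : ∀ n : N, t • n = 0) : Module.Finite A N := by
  obtain ⟨S, hS⟩ := (Module.Finite.fg_top : (⊤ : Submodule B N).FG)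
  refine ⟨⟨S, ?_⟩⟩
  rw [eq_top_iff]
  intro x _
  have hx : x ∈ Submodule.span B (S : Set N) := by
    rw [hS]
    trivial
  refine Submodule.span_induction (p := fun y _ => y ∈ Submodule.span A (S : Set N))
    (fun y hy => Submodule.subset_span hy) (Submodule.zero_mem _)
    (fun y z _ _ hy hz => Submodule.add_mem _ hy hz) (fun b y _ hy => ?_) hx
  obtain ⟨a, b', rfl⟩ := hpoly.dec b
  rw [add_smul, mul_smul, ht, add_zero, algebraMap_smul]
  exact Submodule.smul_mem _ a hy

include hpoly in
/-- the key exactness statement. -/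
theorem key (p : N →ₗ[A] G) (hp : IsBaseChange B p) (ht : ∀ n : N, t • n = 0)
    (ε : G →ₗ[B] N) (hε : ∀ n, ε (p n) = n) :
    Function.Injective (fun g : G => t • g) ∧ Function.Surjective ε ∧
      ∀ g, ε g = 0 → ∃ g', g = t • g' := by
  refine ⟨?_, fun n => ⟨p n, hε n⟩, ?_⟩
  · obtain ⟨d, hd1, hd2⟩ := hpoly.retr
    let d' : B →ₗ[A] B :=
      { toFun := d
        map_add' := map_add d
        map_smul' := fun a b => by
          rw [Algebra.smul_def, hd1, RingHom.id_apply, Algebra.smul_def] }
    have hD : ∀ x : B ⊗[A] N, (LinearMap.rTensor N d') (t • x) = x := by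
      intro x
      induction x using TensorProduct.induction_on with
      | zero => rw [smul_zero, map_zero]
      | tmul b n =>
        rw [TensorProduct.smul_tmul', LinearMap.rTensor_tmul, smul_eq_mul]
        change d (t * b) ⊗ₜ[A] n = _
        rw [hd2]
      | add x y hx hy => rw [smul_add, map_add, hx, hy]
    intro g₁ g₂ h
    have h' : t • hp.equiv.symm g₁ = t • hp.equiv.symm g₂ := by
      rw [← map_smul, ← map_smul]
      exact congrArg hp.equiv.symm h
    have h2 := congrArg (LinearMap.rTensor N d') h'
    rw [hD, hD] at h2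
    exact hp.equiv.symm.injective h2
  · have hdec : ∀ g : G, ∃ (n : N) (g' : G), g = p n + t • g' := by
      intro g
      refine hp.inductionOn g (fun g => ∃ (n : N) (g' : G), g = p n + t • g')
        ⟨0, 0, by rw [map_zero, smul_zero, add_zero]⟩
        (fun n => ⟨n, 0, by rw [smul_zero, add_zero]⟩) ?_ ?_
      · rintro b g ⟨n, g', rfl⟩
        obtain ⟨a, b', rfl⟩ := hpoly.dec b
        refine ⟨a • n, b' • p n + (algebraMap A B a + t * b') • g', ?_⟩
        rw [map_smul, smul_add, smul_add, add_smul, mul_smul, algebraMap_smul,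
          smul_comm (algebraMap A B a + t * b') t g']
        abel
      · rintro g₁ g₂ ⟨n₁, g₁', rfl⟩ ⟨n₂, g₂', rfl⟩
        refine ⟨n₁ + n₂, g₁' + g₂', ?_⟩
        rw [map_add, smul_add]
        abel
    intro g hg
    obtain ⟨n, g', rfl⟩ := hdec g
    rw [map_add, hε, map_smul, ht, add_zero] at hg
    refine ⟨g', ?_⟩
    rw [hg, map_zero, zero_add]

end Module

end Groth.Agent.LD.DF.A1
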