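import Mathlib
import Groth.Agent.Lib.Lead.DF.A1Alg

/-! # Sections of the affine line over the preimage of an affine open -/

set_option autoImplicit false
universe u
open CategoryTheory Limits Opposite AlgebraicGeometry TopologicalSpace

namespace Groth.Agent.LD.DF.A1

variable {X : Scheme.{u}} (n : Type u)

/-- for an affine base, the coordinate ring of affine space is the polynomial ring. -/
theorem bijective_eval₂Hom_of_isAffine (S : Scheme.{u}) [IsAffine S] :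
    Function.Bijective (MvPolynomial.eval₂Hom ((𝔸(n; S) ↘ S).appTop).hom (AffineSpace.coord S)) := by
  have h := AffineSpace.isoOfIsAffine_hom_appTop (n := n) (S := S)
  have hiso : IsIso (CommRingCat.ofHom
      (MvPolynomial.eval₂Hom ((𝔸(n; S) ↘ S).appTop).hom (AffineSpace.coord S))) := by
    have h2 : CommRingCat.ofHom
        (MvPolynomial.eval₂Hom ((𝔸(n; S) ↘ S).appTop).hom (AffineSpace.coord S)) =
        (Scheme.ΓSpecIso _).inv ≫ (AffineSpace.isoOfIsAffine n S).hom.appTop := by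
      rw [h, Iso.inv_hom_id_assoc]
    rw [h2]
    haveI : IsIso (AffineSpace.isoOfIsAffine n S).hom.appTop :=
      inferInstanceAs (IsIso ((AffineSpace.isoOfIsAffine n S).hom.app ⊤))
    infer_instance
  exact ConcreteCategory.bijective_of_isIso (CommRingCat.ofHom
    (MvPolynomial.eval₂Hom ((𝔸(n; S) ↘ S).appTop).hom (AffineSpace.coord S)))

theorem appLE_congr_hom {Y Z : Scheme.{u}} {f g : Y ⟶ Z} (h : f = g) (U : Z.Opens) (V : Y.Opens)
    (e : V ≤ f ⁻¹ᵁ U) : f.appLE U V e = g.appLE U V (h ▸ e) := by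
  subst h
  rfl

/-- **sections of `𝔸ⁿ_X` over the preimage of an affine open are a polynomial ring.** -/
theorem bijective_eval₂Hom (W : X.Opens) (hW : IsAffineOpen W) :
    Function.Bijective (MvPolynomial.eval₂Hom ((𝔸(n; X) ↘ X).app W).hom
      (fun i => (𝔸(n; X)).presheaf.map (homOfLE le_top).op (AffineSpace.coord X i))) := by
  haveI : IsAffine (W : Scheme.{u}) := hW
  obtain ⟨m, hm⟩ : ∃ m : 𝔸(n; (W : Scheme.{u})) ⟶ 𝔸(n; X), m = AffineSpace.map n W.ι := ⟨_, rfl⟩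
  have hsq : m ≫ (𝔸(n; X) ↘ X) = (𝔸(n; (W : Scheme.{u})) ↘ (W : Scheme.{u})) ≫ W.ι := by
    rw [hm]
    exact AffineSpace.map_over W.ι
  have hpb : IsPullback m (𝔸(n; (W : Scheme.{u})) ↘ (W : Scheme.{u})) (𝔸(n; X) ↘ X) W.ι := by
    rw [hm]
    exact AffineSpace.isPullback_map W.ι
  haveI : IsOpenImmersion m := MorphismProperty.of_isPullback hpb.flip
    (inferInstance : IsOpenImmersion W.ι)
  have hcoord : ∀ i, m.appTop (AffineSpace.coord X i) = AffineSpace.coord (W : Scheme.{u}) i := by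
    intro i
    rw [hm]
    exact AffineSpace.map_appTop_coord W.ι i
  -- the range of `m`
  have hrange : (𝔸(n; X) ↘ X) ⁻¹ᵁ W ≤ m.opensRange := by
    intro x hx
    obtain ⟨z, hz1, -⟩ := Scheme.Pullback.exists_preimage_pullback (f := 𝔸(n; X) ↘ X) (g := W.ι)
      x ⟨_, hx⟩ rfl
    refine ⟨hpb.isoPullback.inv z, ?_⟩
    rw [← Scheme.Hom.comp_apply, IsPullback.isoPullback_inv_fst]
    exact hz1
  have htop : (⊤ : (𝔸(n; (W : Scheme.{u}))).Opens) ≤ m ⁻¹ᵁ ((𝔸(n; X) ↘ X) ⁻¹ᵁ W) := by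
    intro y _
    change (𝔸(n; X) ↘ X) (m y) ∈ W
    rw [← Scheme.Hom.comp_apply, hsq, Scheme.Hom.comp_apply]
    exact ((𝔸(n; (W : Scheme.{u})) ↘ (W : Scheme.{u})) y).2
  have htop' : m ⁻¹ᵁ ((𝔸(n; X) ↘ X) ⁻¹ᵁ W) = ⊤ := le_antisymm le_top htop
  have hres : IsIso (m.appLE ((𝔸(n; X) ↘ X) ⁻¹ᵁ W) ⊤ htop) := by
    haveI h1 : IsIso (m.app ((𝔸(n; X) ↘ X) ⁻¹ᵁ W)) := m.isIso_app _ hrange
    haveI h2 : IsIso ((𝔸(n; (W : Scheme.{u}))).presheaf.map (homOfLE htop).op) := by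
      have : homOfLE htop = eqToHom htop'.symm := Subsingleton.elim _ _
      rw [this]
      infer_instance
    unfold Scheme.Hom.appLE
    infer_instance
  have hθle : (⊤ : (W : Scheme.{u}).Opens) ≤ W.ι ⁻¹ᵁ W := fun y _ => y.2
  have hθ : IsIso (W.ι.appLE W ⊤ hθle) := by
    have h0 : W.ι.appLE W ⊤ hθle = W.topIso.inv := by
      rw [Scheme.Opens.ι_appLE, Scheme.Opens.topIso_inv]
      congr 1
    rw [h0]
    infer_instance
  have hbres := ConcreteCategory.bijective_of_isIso (m.appLE ((𝔸(n; X) ↘ X) ⁻¹ᵁ W) ⊤ htop)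
  have hbθ := ConcreteCategory.bijective_of_isIso (W.ι.appLE W ⊤ hθle)
  have hψ := bijective_eval₂Hom_of_isAffine n (W : Scheme.{u})
  -- the square
  have hsquare : (m.appLE ((𝔸(n; X) ↘ X) ⁻¹ᵁ W) ⊤ htop).hom.comp
      (MvPolynomial.eval₂Hom ((𝔸(n; X) ↘ X).app W).hom
        (fun i => (𝔸(n; X)).presheaf.map (homOfLE le_top).op (AffineSpace.coord X i))) =
      (MvPolynomial.eval₂Hom ((𝔸(n; (W : Scheme.{u})) ↘ (W : Scheme.{u})).appTop).hom
        (AffineSpace.coord (W : Scheme.{u}))).comp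
        (MvPolynomial.map (W.ι.appLE W ⊤ hθle).hom) := by
    apply MvPolynomial.ringHom_ext
    · intro a
      rw [RingHom.comp_apply, RingHom.comp_apply, MvPolynomial.coe_eval₂Hom, MvPolynomial.eval₂_C,
        MvPolynomial.map_C, MvPolynomial.coe_eval₂Hom, MvPolynomial.eval₂_C]
      have h1 : ((𝔸(n; X) ↘ X).app W ≫ m.appLE ((𝔸(n; X) ↘ X) ⁻¹ᵁ W) ⊤ htop) =
          W.ι.appLE W ⊤ hθle ≫ (𝔸(n; (W : Scheme.{u})) ↘ (W : Scheme.{u})).appTop := by
        have h3 : (𝔸(n; (W : Scheme.{u})) ↘ (W : Scheme.{u})).appTop =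
            (𝔸(n; (W : Scheme.{u})) ↘ (W : Scheme.{u})).appLE ⊤ ⊤ le_top := by
          simp [Scheme.Hom.appLE]
        rw [← Scheme.Hom.comp_appLE, appLE_congr_hom hsq, h3, Scheme.Hom.appLE_comp_appLE]
      exact congr($h1 a)
    · intro i
      rw [RingHom.comp_apply, RingHom.comp_apply, MvPolynomial.coe_eval₂Hom, MvPolynomial.eval₂_X,
        MvPolynomial.map_X, MvPolynomial.coe_eval₂Hom, MvPolynomial.eval₂_X, ← hcoord i]
      have h2 : (𝔸(n; X)).presheaf.map (homOfLE le_top).op ≫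
          m.appLE ((𝔸(n; X) ↘ X) ⁻¹ᵁ W) ⊤ htop = m.appTop := by
        rw [Scheme.Hom.map_appLE, Scheme.Hom.appTop, Scheme.Hom.app_eq_appLE]
        rfl
      exact congr($h2 (AffineSpace.coord X i))
  have hb1 : Function.Bijective ((m.appLE ((𝔸(n; X) ↘ X) ⁻¹ᵁ W) ⊤ htop).hom.comp
      (MvPolynomial.eval₂Hom ((𝔸(n; X) ↘ X).app W).hom
        (fun i => (𝔸(n; X)).presheaf.map (homOfLE le_top).op (AffineSpace.coord X i)))) := by
    rw [hsquare, RingHom.coe_comp]
    refine hψ.comp ?_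
    exact ⟨MvPolynomial.map_injective _ hbθ.1, MvPolynomial.map_surjective _ hbθ.2⟩
  rw [RingHom.coe_comp] at hb1
  exact (Function.Bijective.of_comp_iff' hbres _).mp hb1

/-- the affine line: `Γ(𝔸¹_X, π⁻¹ W)` is polynomial-like over `Γ(X, W)` with variable `t`. -/
theorem polyLike_affineLine [Unique n] (W : X.Opens) (hW : IsAffineOpen W) :
    PolyLike ((𝔸(n; X) ↘ X).app W).hom
      ((𝔸(n; X)).presheaf.map (homOfLE le_top).op (AffineSpace.coord X default)) :=
  polyLike_of_bijective_mv ((𝔸(n; X) ↘ X).app W).hom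
    (fun i => (𝔸(n; X)).presheaf.map (homOfLE le_top).op (AffineSpace.coord X i))
    (bijective_eval₂Hom n W hW)

end Groth.Agent.LD.DF.A1
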