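import Groth.Agent.Lib.Lead.DF.Sec
import Groth.Agent.Lib.Lead.QC.FinType
import Groth.Agent.Lib.Lead.QC.Affine
import Groth.Agent.Lib.Lead.QC.StalkNbhd
import Groth.Agent.Lib.Helper6.DTAlg
import Groth.Agent.Lib.Helper5.EffDec.A

/-! # Artin–Rees vanishing for submodule sheaves `I^n · T` on a Noetherian scheme -/

set_option autoImplicit false
universe u
open CategoryTheory Limits Opposite AlgebraicGeometry TopologicalSpace ZeroObject

namespace Groth.Agent.LD.DF
open Groth.Agent.LD.QC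

variable {X : Scheme.{u}} (I : X.IdealSheafData)

/-- sections of a kernel supported on `V(I)` are `I`-power torsion over affine opens. -/
theorem exists_pow_smul_eq_zero_of_support [IsLocallyNoetherian X] {T C : X.Modules}
    [T.IsQuasicoherent] (f : T ⟶ C)
    (hk : CohB1.support (kernel f) ⊆ (I.support : Set X)) (W : X.affineOpens) (x : Γ(T, W.1))
    (hx : f.app W.1 x = 0) : ∃ k : ℕ, ∀ a ∈ I.ideal W ^ k, a • x = 0 := by
  haveI : IsNoetherianRing Γ(X, W.1) := IsLocallyNoetherian.component_noetherian W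
  let J : Ideal Γ(X, W.1) := LinearMap.ker (LinearMap.toSpanSingleton Γ(X, W.1) Γ(T, W.1) x)
  have hIJ : I.ideal W ≤ J.radical := by
    intro g hg
    have h0 : T.presheaf.map (homOfLE (X.basicOpen_le g)).op x = 0 := by
      obtain ⟨y, hy⟩ := exists_kernel_section f W.1 x hx
      have hy0 : (kernel f).presheaf.map (homOfLE (X.basicOpen_le g)).op y = 0 := by
        apply section_eq_zero_of_stalks (kernel f) (X.basicOpen g) ?_ le_rfl
        intro p hp
        by_contra hns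
        have hpS : p ∈ CohB1.support (kernel f) := hns
        have hpI := hk hpS
        have hpW : p ∈ W.1 := X.basicOpen_le g hp
        have h1 := (Scheme.IdealSheafData.mem_support_iff_of_mem (U := W) hpW).mp hpI
        exact (X.mem_zeroLocus_iff _ p).mp h1 g hg hp
      rw [← hy, ← app_res, hy0, map_zero]
    obtain ⟨n, hn⟩ := affine_inj T W.2 g x h0
    refine ⟨n, ?_⟩
    change g ^ n ∈ LinearMap.ker _
    rw [LinearMap.mem_ker, LinearMap.toSpanSingleton_apply]
    exact hn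
  have hfg : (I.ideal W).FG := (isNoetherianRing_iff_ideal_fg _).mp inferInstance _
  obtain ⟨k, hk'⟩ := Ideal.exists_pow_le_of_le_radical_of_fg hIJ hfg
  refine ⟨k, fun a ha => ?_⟩
  have h2 := hk' ha
  change a ∈ LinearMap.ker _ at h2
  rw [LinearMap.mem_ker, LinearMap.toSpanSingleton_apply] at h2
  exact h2

/-- affine-local Artin–Rees vanishing. -/
theorem exists_pow_inf_ker_eq_bot [IsLocallyNoetherian X] {T C : X.Modules} (hT : Coh.IsCoh T)
    (f : T ⟶ C) (hk : CohB1.support (kernel f) ⊆ (I.support : Set X)) (W : X.affineOpens) :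
    ∃ n₀ : ℕ, ∀ n, n₀ ≤ n → ∀ x : Γ(T, W.1),
      x ∈ (I.ideal W ^ n) • (⊤ : Submodule Γ(X, W.1) Γ(T, W.1)) → f.app W.1 x = 0 → x = 0 := by
  haveI := hT.1
  haveI : IsNoetherianRing Γ(X, W.1) := IsLocallyNoetherian.component_noetherian W
  haveI : Module.Finite Γ(X, W.1) Γ(T, W.1) := finite_sections_of_isFiniteType T hT.2 W.2
  obtain ⟨m, hm⟩ := Groth.Agent.H6.DT.exists_pow_smul_top_inf_eq_bot (I.ideal W)
    (LinearMap.ker (appLinear f W.1)) (by
      intro p hp
      rw [LinearMap.mem_ker, appLinear_apply] at hp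
      exact exists_pow_smul_eq_zero_of_support I f hk W p hp)
  refine ⟨m, fun n hn x hx hfx => ?_⟩
  have h1 : x ∈ (I.ideal W ^ m) • (⊤ : Submodule Γ(X, W.1) Γ(T, W.1)) :=
    Submodule.smul_mono_left (Ideal.pow_le_pow_right hn) hx
  have h2 : x ∈ LinearMap.ker (appLinear f W.1) := by
    rw [LinearMap.mem_ker, appLinear_apply]
    exact hfx
  have h3 : x ∈ (I.ideal W ^ m • (⊤ : Submodule Γ(X, W.1) Γ(T, W.1))) ⊓
      LinearMap.ker (appLinear f W.1) := ⟨h1, h2⟩
  rw [hm] at h3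
  exact h3

/-- **Artin–Rees vanishing**: if `T` is coherent on a Noetherian scheme and the kernel of
`f : T ⟶ C` is supported on `V(I)`, then `I^n T ⟶ T ⟶ C` is a monomorphism for `n ≫ 0`. -/
theorem exists_mono_idealMul_comp [IsNoetherian X] {T C : X.Modules} (hT : Coh.IsCoh T)
    (hC : C.IsQuasicoherent) (f : T ⟶ C)
    (hk : CohB1.support (kernel f) ⊆ (I.support : Set X)) :
    ∃ n₀ : ℕ, ∀ n, n₀ ≤ n → Mono (Dual3.idealMulι (I ^ n) T ≫ f) := by
  classical
  haveI := hT.1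
  obtain ⟨s, hs⟩ := Groth.Agent.H5.EffDec.exists_finset_affineOpens (X := X)
  choose n₀ hn₀ using fun W : X.affineOpens => exists_pow_inf_ker_eq_bot I hT f hk W
  refine ⟨s.sup n₀, fun n hn => ?_⟩
  have hqc : ((Dual3.idealMul (I ^ n)).obj T).IsQuasicoherent := qc_idealMul (I ^ n) T hT.1
  haveI : (kernel (Dual3.idealMulι (I ^ n) T ≫ f)).IsQuasicoherent := qc_kernel _ hqc hC
  apply Preadditive.mono_of_isZero_kernel
  apply isZero_of_affine_cover
  intro x
  have hx : x ∈ (⨆ U : s, (U.1 : X.affineOpens).1 : X.Opens) := by rw [hs]; trivial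
  obtain ⟨⟨W, hW⟩, hxW⟩ := Opens.mem_iSup.mp hx
  refine ⟨W.1, W.2, hxW, fun t => ?_⟩
  have hle : n₀ W ≤ n := (Finset.le_sup (f := n₀) hW).trans hn
  apply mono_app (kernel.ι (Dual3.idealMulι (I ^ n) T ≫ f)) W.1
  rw [map_zero]
  apply idealMulι_app_injective (I ^ n) T W.1
  rw [map_zero]
  apply hn₀ W n hle
  · have h1 := (mem_range_idealMulι_iff (I ^ n) T W _).mp
      ⟨(kernel.ι (Dual3.idealMulι (I ^ n) T ≫ f)).app W.1 t, rfl⟩
    exact h1
  · exact kernel_ι_app_comp (Dual3.idealMulι (I ^ n) T ≫ f) W.1 t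

/-- a coherent module supported on `V(I)` is killed by a power of `I`. -/
theorem exists_isZero_idealMul_pow [IsNoetherian X] {Q : X.Modules} (hQ : Coh.IsCoh Q)
    (hs : CohB1.support Q ⊆ (I.support : Set X)) :
    ∃ n₀ : ℕ, ∀ n, n₀ ≤ n → IsZero ((Dual3.idealMul (I ^ n)).obj Q) := by
  have hz : (0 : X.Modules).IsQuasicoherent := by
    haveI := hQ.1
    exact qc_of_iso (isZero_kernel_of_mono (𝟙 Q)).isoZero (qc_kernel (𝟙 Q) hQ.1 hQ.1)
  obtain ⟨n₀, hn₀⟩ := exists_mono_idealMul_comp I hQ hz (0 : Q ⟶ 0)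
    ((support_subset_of_mono (kernel.ι (0 : Q ⟶ 0))).trans hs)
  refine ⟨n₀, fun n hn => ?_⟩
  haveI := hn₀ n hn
  exact IsZero.of_mono_eq_zero (Dual3.idealMulι (I ^ n) Q ≫ (0 : Q ⟶ 0)) comp_zero

end Groth.Agent.LD.DF
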