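import Groth.Agent.Lib.Lead.DF.Ext

/-! # Deligne's formula on a Noetherian scheme: `colim_n Hom(I^n G, F) ≅ Hom(G|_U, F|_U)`
(existence and injectivity parts, Stacks 01YB) -/

set_option autoImplicit false
universe u
open CategoryTheory Limits Opposite AlgebraicGeometry TopologicalSpace

namespace Groth.Agent.LD.DF
open Groth.Agent.LD.QC

variable {X : Scheme.{u}}

lemma comp_app_apply {A B C : X.Modules} (f : A ⟶ B) (g : B ⟶ C) (W : X.Opens) (s : Γ(A, W)) :
    (f ≫ g).app W s = g.app W (f.app W s) := rfl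

/-- a morphism of quasi-coherent modules vanishing on the sections over an affine cover is zero. -/
theorem hom_eq_zero_of_affine_cover {M N : X.Modules} (hM : M.IsQuasicoherent)
    (hN : N.IsQuasicoherent) (f : M ⟶ N)
    (h : ∀ x : X, ∃ U : X.Opens, IsAffineOpen U ∧ x ∈ U ∧ ∀ s : Γ(M, U), f.app U s = 0) :
    f = 0 := by
  haveI := hM
  haveI : (kernel f).IsQuasicoherent := qc_kernel f hM hN
  haveI : IsIso (kernel.ι f) := by
    apply isIso_of_mono_of_surjective_affine_cover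
    intro x
    obtain ⟨U, hU, hxU, hs⟩ := h x
    exact ⟨U, hU, hxU, fun s => exists_kernel_section f U s (hs s)⟩
  rw [← cancel_epi (kernel.ι f), kernel.condition, comp_zero]

/-- factorisation of a morphism through a monomorphism, tested on sections over an affine cover. -/
theorem exists_lift_of_affine_range_le {A B G : X.Modules} (a : A ⟶ G) (b : B ⟶ G) [Mono b]
    (hA : A.IsQuasicoherent) (hB : B.IsQuasicoherent) (hG : G.IsQuasicoherent)
    (h : ∀ x : X, ∃ W : X.Opens, IsAffineOpen W ∧ x ∈ W ∧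
      ∀ s : Γ(A, W), ∃ t : Γ(B, W), b.app W t = a.app W s) :
    ∃ σ : A ⟶ B, σ ≫ b = a := by
  have h0 : a ≫ cokernel.π b = 0 := by
    apply hom_eq_zero_of_affine_cover hA (qc_cokernel b hB hG)
    intro x
    obtain ⟨W, hW, hxW, hs⟩ := h x
    refine ⟨W, hW, hxW, fun s => ?_⟩
    obtain ⟨t, ht⟩ := hs s
    rw [comp_app_apply, ← ht]
    exact (mem_range_mono_iff b W _).mp ⟨t, rfl⟩
  exact ⟨Abelian.monoLift b a h0, Abelian.monoLift_comp b a h0⟩

theorem idealMulι_comp_eq_zero_of_isZero {G C : X.Modules} (J : X.IdealSheafData) (g : G ⟶ C)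
    (hz : IsZero ((Dual3.idealMul J).obj C)) : Dual3.idealMulι J G ≫ g = 0 := by
  rw [← Dual3.idealMul_map_ι J g, hz.eq_of_tgt ((Dual3.idealMul J).map g) 0, zero_comp]

/-- the image of `Γ(J·F, W) → Γ(F, W)` as a submodule, for `W` affine. -/
theorem range_idealMulι (J : X.IdealSheafData) (F : X.Modules) [F.IsQuasicoherent]
    (W : X.affineOpens) :
    LinearMap.range (appLinear (Dual3.idealMulι J F) W.1) =
      (J.ideal W) • (⊤ : Submodule Γ(X, W.1) Γ(F, W.1)) := by
  ext s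
  rw [LinearMap.mem_range]
  exact mem_range_idealMulι_iff J F W s

section Graph
variable {Y : Scheme.{u}} (j : Y ⟶ X) [IsOpenImmersion j]

/-- a coherent graph of a morphism `φ : A|_Y ⟶ B|_Y`. -/
theorem exists_coherent_graph [IsNoetherian X] [QuasiCompact j] (A B : X.Modules)
    (hA : Coh.IsCoh A) (hB : B.IsQuasicoherent)
    (φ : (Scheme.Modules.restrictFunctor j).obj A ⟶ (Scheme.Modules.restrictFunctor j).obj B) :
    ∃ (P₁ : X.Modules) (f : P₁ ⟶ A) (g : P₁ ⟶ B), Coh.IsCoh P₁ ∧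
      IsIso ((Scheme.Modules.restrictFunctor j).map f) ∧
      (Scheme.Modules.restrictFunctor j).map g =
        (Scheme.Modules.restrictFunctor j).map f ≫ φ := by
  obtain ⟨P, p₁, p₂, hP, hp₁, hp₂⟩ := exists_pullback_extension j A B hA.1 hB φ
  haveI := hP
  haveI := hA.1
  haveI := hp₁
  have htr : ∀ W₁ W₂ : X.Opens, W₁ = W₂ → Function.Bijective (p₁.app W₁) →
      Function.Bijective (p₁.app W₂) := by
    rintro _ _ rfl h
    exact h
  have hbij : ∀ W : X.Opens, W ≤ j.opensRange → Function.Bijective (p₁.app W) := by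
    intro W hW
    have h1 : IsIso (((Scheme.Modules.restrictFunctor j).map p₁).app (j ⁻¹ᵁ W)) := inferInstance
    rw [ConcreteCategory.isIso_iff_bijective] at h1
    have hW' : j ''ᵁ (j ⁻¹ᵁ W) = W := by
      rw [Scheme.Hom.image_preimage_eq_opensRange_inf]
      exact inf_eq_right.mpr hW
    exact htr _ _ hW' h1
  have hO : IsCompact (j.opensRange : Set X) := TopologicalSpace.NoetherianSpace.isCompact _
  have hfin : ∀ W : X.Opens, IsAffineOpen W → W ≤ j.opensRange →
      Module.Finite Γ(X, W) Γ(P, W) := by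
    intro W hW hWO
    haveI : Module.Finite Γ(X, W) Γ(A, W) := finite_sections_of_isFiniteType A hA.2 hW
    have hb' : Function.Bijective (appLinear p₁ W) := hbij W hWO
    exact Module.Finite.equiv (LinearEquiv.ofBijective (appLinear p₁ W) hb').symm
  obtain ⟨P₁, u, hu, hP₁qc, hP₁ft, hubij⟩ := exists_sub_finiteType P j.opensRange hO hfin
  haveI := hu
  haveI hLu : IsIso ((Scheme.Modules.restrictFunctor j).map u) := by
    apply isIso_of_bijective_app
    intro W'
    exact hubij (j ''ᵁ W') (j.image_le_opensRange W')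
  refine ⟨P₁, u ≫ p₁, u ≫ p₂, ⟨hP₁qc, hP₁ft⟩, ?_, ?_⟩
  · rw [Functor.map_comp]; infer_instance
  · rw [Functor.map_comp, Functor.map_comp, hp₂, Category.assoc]

end Graph

section Deligne
variable [IsNoetherian X] (F G : X.Modules) (I : X.IdealSheafData) (U : X.Opens)
  (hU : (U : Set X) = (I.support : Set X)ᶜ)
include hU

omit [AlgebraicGeometry.IsNoetherian X] in
theorem subset_support_of_disjoint_range_ι {S : Set X} (h : Disjoint (Set.range U.ι) S) :
    S ⊆ (I.support : Set X) := by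
  rw [Scheme.Opens.range_ι, hU] at h
  intro x hx
  by_contra hn
  exact Set.disjoint_left.mp h hn hx

omit [AlgebraicGeometry.IsNoetherian X] in
theorem disjoint_range_ι_support_pow (n : ℕ) :
    Disjoint (Set.range U.ι) ((((I ^ n).support : Closeds X)) : Set X) := by
  rw [Scheme.Opens.range_ι, hU]
  exact disjoint_compl_left.mono_right (support_pow_subset I n)

/-- **Deligne's formula, existence**: a morphism `φ : G|_U ⟶ F|_U` (`G` coherent, `F`
quasi-coherent, `U = X ∖ V(I)`) extends to `I^n G ⟶ F` for some `n`. -/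
theorem deligne_exists (hF : F.IsQuasicoherent) (hG : Coh.IsCoh G)
    (φ : (Scheme.Modules.restrictFunctor U.ι).obj G ⟶
      (Scheme.Modules.restrictFunctor U.ι).obj F) :
    ∃ (n : ℕ) (ψ : (Dual3.idealMul (I ^ n)).obj G ⟶ F),
      (Scheme.Modules.restrictFunctor U.ι).map ψ =
        (Scheme.Modules.restrictFunctor U.ι).map (Dual3.idealMulι (I ^ n) G) ≫ φ := by
  haveI := hG.1
  obtain ⟨P₁, f, g, hP₁, hLf, hg⟩ := exists_coherent_graph U.ι G F hG hF φ
  haveI := hP₁.1
  have hsup := support_disjoint_of_isIso_restrict U.ι f hLf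
  obtain ⟨n₁, hn₁⟩ := exists_mono_idealMul_comp I hP₁ hG.1 f
    (subset_support_of_disjoint_range_ι I U hU hsup.1)
  have hcok : Coh.IsCoh (cokernel f) := isCoh_cokernel f hP₁ hG
  obtain ⟨n₂, hn₂⟩ := exists_isZero_idealMul_pow I hcok
    (subset_support_of_disjoint_range_ι I U hU hsup.2)
  haveI hm := hn₁ n₁ le_rfl
  have hqim : (Abelian.image f).IsQuasicoherent :=
    qc_kernel _ hG.1 (qc_cokernel f hP₁.1 hG.1)
  obtain ⟨σ, hσ⟩ := exists_lift_of_affine_range_le (Dual3.idealMulι (I ^ (n₁ + n₂)) G)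
    (Dual3.idealMulι (I ^ n₁) P₁ ≫ f) (qc_idealMul _ G hG.1) (qc_idealMul _ P₁ hP₁.1) hG.1 (by
    intro x
    obtain ⟨W, hW, hxW, -⟩ := exists_isAffineOpen_mem_and_subset (x := x) (U := ⊤) trivial
    refine ⟨W, hW, hxW, fun s => ?_⟩
    have hy : (Dual3.idealMulι (I ^ (n₁ + n₂)) G).app W s ∈
        (I.ideal ⟨W, hW⟩ ^ (n₁ + n₂)) • (⊤ : Submodule Γ(X, W) Γ(G, W)) :=
      (mem_range_idealMulι_iff (I ^ (n₁ + n₂)) G ⟨W, hW⟩ _).mp ⟨s, rfl⟩
    have hle : (I.ideal ⟨W, hW⟩ ^ n₂) • (⊤ : Submodule Γ(X, W) Γ(G, W)) ≤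
        LinearMap.range (appLinear f W) := by
      intro z hz
      obtain ⟨s₂, hs₂⟩ := (mem_range_idealMulι_iff (I ^ n₂) G ⟨W, hW⟩ z).mpr hz
      have h0 : (cokernel.π f).app W z = 0 := by
        rw [← hs₂, ← comp_app_apply,
          idealMulι_comp_eq_zero_of_isZero (I ^ n₂) (cokernel.π f) (hn₂ n₂ le_rfl)]
        rfl
      obtain ⟨k, hk⟩ := exists_kernel_section (cokernel.π f) W z h0
      obtain ⟨p, hp⟩ := epi_app_affine hP₁.1 hqim (Abelian.factorThruImage f) hW k
      refine ⟨p, ?_⟩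
      rw [appLinear_apply]
      have h1 : f.app W p = (Abelian.image.ι f).app W ((Abelian.factorThruImage f).app W p) := by
        rw [← comp_app_apply, Abelian.image.fac]
      rw [h1, hp]
      exact hk
    have h3 : (Dual3.idealMulι (I ^ (n₁ + n₂)) G).app W s ∈
        Submodule.map (appLinear f W)
          ((I.ideal ⟨W, hW⟩ ^ n₁) • (⊤ : Submodule Γ(X, W) Γ(P₁, W))) := by
      rw [Submodule.map_smul'', Submodule.map_top]
      rw [pow_add, mul_smul] at hy
      exact Submodule.smul_mono le_rfl hle hy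
    obtain ⟨p, hp, hpy⟩ := h3
    obtain ⟨t, ht⟩ := (mem_range_idealMulι_iff (I ^ n₁) P₁ ⟨W, hW⟩ p).mpr hp
    refine ⟨t, ?_⟩
    rw [comp_app_apply, ht]
    exact hpy)
  refine ⟨n₁ + n₂, σ ≫ Dual3.idealMulι (I ^ n₁) P₁ ≫ g, ?_⟩
  rw [← hσ]
  simp only [Functor.map_comp, Category.assoc]
  rw [hg]

/-- **Deligne's formula, injectivity**: a morphism `ψ : I^n G ⟶ F` vanishing over `U = X ∖ V(I)`
vanishes on `I^N G` for some `N`. -/
theorem deligne_injective (hF : F.IsQuasicoherent) (hG : Coh.IsCoh G) (n : ℕ)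
    (ψ : (Dual3.idealMul (I ^ n)).obj G ⟶ F)
    (hψ : (Scheme.Modules.restrictFunctor U.ι).map ψ = 0) :
    ∃ (N : ℕ) (ι' : (Dual3.idealMul (I ^ N)).obj G ⟶ (Dual3.idealMul (I ^ n)).obj G),
      ι' ≫ Dual3.idealMulι (I ^ n) G = Dual3.idealMulι (I ^ N) G ∧ ι' ≫ ψ = 0 := by
  haveI := hG.1
  have hT : Coh.IsCoh ((Dual3.idealMul (I ^ n)).obj G) := isCoh_idealMul (I ^ n) G hG
  haveI := hT.1
  have hK : Coh.IsCoh (kernel ψ) := isCoh_of_mono (kernel.ι ψ) (qc_kernel ψ hT.1 hF) hT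
  have hC : Coh.IsCoh (Abelian.coimage ψ) := isCoh_cokernel (kernel.ι ψ) hK hT
  -- the coimage is supported on `V(I)`
  have hsupp : CohB1.support (Abelian.coimage ψ) ⊆ (I.support : Set X) := by
    apply subset_support_of_disjoint_range_ι I U hU
    apply support_disjoint_of_isZero_restrict
    haveI : Epi ((Scheme.Modules.restrictFunctor U.ι).map (Abelian.coimage.π ψ)) := inferInstance
    have h1 : (Scheme.Modules.restrictFunctor U.ι).map (Abelian.coimage.π ψ) ≫
        (Scheme.Modules.restrictFunctor U.ι).map (Abelian.factorThruCoimage ψ) = 0 := by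
      rw [← Functor.map_comp, Abelian.coimage.fac, hψ]
    have h2 : (Scheme.Modules.restrictFunctor U.ι).map (Abelian.factorThruCoimage ψ) = 0 :=
      (cancel_epi _).mp (h1.trans comp_zero.symm)
    haveI : Mono ((Scheme.Modules.restrictFunctor U.ι).map (Abelian.factorThruCoimage ψ)) :=
      inferInstance
    exact IsZero.of_mono_eq_zero _ h2
  obtain ⟨c, hc⟩ := exists_isZero_idealMul_pow I hC hsupp
  have h0 : Dual3.idealMulι (I ^ c) ((Dual3.idealMul (I ^ n)).obj G) ≫ ψ = 0 := by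
    rw [← Abelian.coimage.fac ψ, ← Category.assoc,
      idealMulι_comp_eq_zero_of_isZero (I ^ c) (Abelian.coimage.π ψ) (hc c le_rfl), zero_comp]
  obtain ⟨σ, hσ⟩ := exists_lift_of_affine_range_le (Dual3.idealMulι (I ^ (c + n)) G)
    (Dual3.idealMulι (I ^ c) ((Dual3.idealMul (I ^ n)).obj G) ≫ Dual3.idealMulι (I ^ n) G)
    (qc_idealMul _ G hG.1) (qc_idealMul _ _ hT.1) hG.1 (by
    intro x
    obtain ⟨W, hW, hxW, -⟩ := exists_isAffineOpen_mem_and_subset (x := x) (U := ⊤) trivial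
    refine ⟨W, hW, hxW, fun s => ?_⟩
    have hy : (Dual3.idealMulι (I ^ (c + n)) G).app W s ∈
        (I.ideal ⟨W, hW⟩ ^ (c + n)) • (⊤ : Submodule Γ(X, W) Γ(G, W)) :=
      (mem_range_idealMulι_iff (I ^ (c + n)) G ⟨W, hW⟩ _).mp ⟨s, rfl⟩
    have hr := range_idealMulι (I ^ n) G ⟨W, hW⟩
    have h3 : (Dual3.idealMulι (I ^ (c + n)) G).app W s ∈
        Submodule.map (appLinear (Dual3.idealMulι (I ^ n) G) W)
          ((I.ideal ⟨W, hW⟩ ^ c) •
            (⊤ : Submodule Γ(X, W) Γ((Dual3.idealMul (I ^ n)).obj G, W))) := by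
      rw [Submodule.map_smul'', Submodule.map_top, hr]
      rw [pow_add, mul_smul] at hy
      exact hy
    obtain ⟨p, hp, hpy⟩ := h3
    obtain ⟨t, ht⟩ := (mem_range_idealMulι_iff (I ^ c) _ ⟨W, hW⟩ p).mpr hp
    refine ⟨t, ?_⟩
    rw [comp_app_apply, ht]
    exact hpy)
  refine ⟨c + n, σ ≫ Dual3.idealMulι (I ^ c) ((Dual3.idealMul (I ^ n)).obj G), ?_, ?_⟩
  · rw [Category.assoc]; exact hσ
  · rw [Category.assoc, h0, comp_zero]

end Deligne

end Groth.Agent.LD.DF
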