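import Groth.Prelude.Def_Formal
import Groth.Agent.Lib.Lead.DF.A1Ring
import Groth.Agent.Lib.Lead.DF.KLoc
import Groth.Agent.Lib.Lead.DF.AR
import Groth.Agent.Lib.Lead.DF.Deligne
import Groth.Agent.Lib.Lead.QC.Counit
import Groth.Agent.Lib.Lead.QC.Push
import Groth.Agent.Lib.Lead.QC.FinType
import Groth.Agent.Lib.Helper5.Lim.ModuleBridge

/-! # `K₀(Coh 𝔸¹_X) → K₀(Coh 𝔾_m,X)` is bijective

The kernel of the restriction is generated by the classes of the coherent modules supported on the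
zero section `V(t)`; such a module has a finite filtration by powers of `t` with quotients killed by
`t`, and a coherent module `Q` killed by `t` has the resolution
`0 → π^* π_* Q → π^* π_* Q → Q → 0` (multiplication by `t`, then the counit), whence `[Q] = 0`. -/

set_option autoImplicit false
universe u
open CategoryTheory Limits Opposite AlgebraicGeometry TopologicalSpace
open scoped ZeroObject

namespace Groth.Agent.LD.DF.A1
open Groth.Agent.LD.QC Groth.Agent.LD.DF Groth.Agent.H2.KThick Groth.Agent.LD.DF.KLoc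
  Groth.Agent.H5.Lim

variable {X : Scheme.{u}} (n : Type u) [Unique n]

/-- the restriction of the coordinate `t` to an open. -/
noncomputable abbrev tRes (U : (𝔸(n; X)).Opens) : Γ(𝔸(n; X), U) :=
  (𝔸(n; X)).presheaf.map (homOfLE le_top).op (AffineSpace.coord X default)

/-- multiplication by `t`. -/
noncomputable def T (M : (𝔸(n; X)).Modules) : M ⟶ M :=
  Formal.smulModΓ M (show Coh.Γtop (𝔸(n; X)) from AffineSpace.coord X default)

theorem T_app (M : (𝔸(n; X)).Modules) (U : (𝔸(n; X)).Opens) (s : Γ(M, U)) :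
    (T n M).app U s = tRes n U • s := rfl

/-- `t^k` kills the sections of `Q` over affine opens. -/
def KT (k : ℕ) (Q : (𝔸(n; X)).Modules) : Prop :=
  ∀ (U : (𝔸(n; X)).affineOpens) (s : Γ(Q, U.1)), (tRes n U.1) ^ k • s = 0

/-- sections of `π_* Q` over an affine open are of finite type when `t Q = 0`. -/
theorem finite_sections_push (Q : (𝔸(n; X)).Modules) (hQ : Coh.IsCoh Q) (h : KT n 1 Q)
    (W : X.Opens) (hW : IsAffineOpen W) :
    Module.Finite Γ(X, W) Γ((Scheme.Modules.pushforward (𝔸(n; X) ↘ X)).obj Q, W) := by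
  haveI := hQ.1
  have hV : IsAffineOpen ((𝔸(n; X) ↘ X) ⁻¹ᵁ W) := hW.preimage _
  letI algI : Algebra Γ(X, W) Γ(𝔸(n; X), (𝔸(n; X) ↘ X) ⁻¹ᵁ W) :=
    ((𝔸(n; X) ↘ X).app W).hom.toAlgebra
  letI modN : Module Γ(𝔸(n; X), (𝔸(n; X) ↘ X) ⁻¹ᵁ W)
      Γ((Scheme.Modules.pushforward (𝔸(n; X) ↘ X)).obj Q, W) :=
    (inferInstance : Module Γ(𝔸(n; X), (𝔸(n; X) ↘ X) ⁻¹ᵁ W) Γ(Q, (𝔸(n; X) ↘ X) ⁻¹ᵁ W))
  haveI towN : IsScalarTower Γ(X, W) Γ(𝔸(n; X), (𝔸(n; X) ↘ X) ⁻¹ᵁ W)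
      Γ((Scheme.Modules.pushforward (𝔸(n; X) ↘ X)).obj Q, W) := ⟨fun a b m => by
    rw [Algebra.smul_def, mul_smul]
    rfl⟩
  haveI : Module.Finite Γ(𝔸(n; X), (𝔸(n; X) ↘ X) ⁻¹ᵁ W)
      Γ((Scheme.Modules.pushforward (𝔸(n; X) ↘ X)).obj Q, W) :=
    finite_sections_of_isFiniteType Q hQ.2 hV
  have hpoly : PolyLike (algebraMap Γ(X, W) Γ(𝔸(n; X), (𝔸(n; X) ↘ X) ⁻¹ᵁ W))
      (tRes n ((𝔸(n; X) ↘ X) ⁻¹ᵁ W)) := polyLike_affineLine n W hW
  refine finite_of_killed hpoly (fun m => ?_)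
  have h0 := h ⟨_, hV⟩ m
  rwa [pow_one] at h0

/-- the local structure of `0 → π^* π_* Q → π^* π_* Q → Q → 0`. -/
theorem local_facts (Q : (𝔸(n; X)).Modules) [Q.IsQuasicoherent] (h : KT n 1 Q)
    (W : X.Opens) (hW : IsAffineOpen W) :
    Function.Injective ((T n ((Scheme.Modules.pullback (𝔸(n; X) ↘ X)).obj
      ((Scheme.Modules.pushforward (𝔸(n; X) ↘ X)).obj Q))).app ((𝔸(n; X) ↘ X) ⁻¹ᵁ W)) ∧
    Function.Surjective (((Scheme.Modules.pullbackPushforwardAdjunction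
      (𝔸(n; X) ↘ X)).counit.app Q).app ((𝔸(n; X) ↘ X) ⁻¹ᵁ W)) ∧
    Function.Exact ((T n ((Scheme.Modules.pullback (𝔸(n; X) ↘ X)).obj
      ((Scheme.Modules.pushforward (𝔸(n; X) ↘ X)).obj Q))).app ((𝔸(n; X) ↘ X) ⁻¹ᵁ W))
      (((Scheme.Modules.pullbackPushforwardAdjunction
        (𝔸(n; X) ↘ X)).counit.app Q).app ((𝔸(n; X) ↘ X) ⁻¹ᵁ W)) := by
  have hV : IsAffineOpen ((𝔸(n; X) ↘ X) ⁻¹ᵁ W) := hW.preimage _
  haveI hFq : ((Scheme.Modules.pushforward (𝔸(n; X) ↘ X)).obj Q).IsQuasicoherent :=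
    qc_pushforward _ Q
  have e : (𝔸(n; X) ↘ X) ⁻¹ᵁ W ≤ (𝔸(n; X) ↘ X) ⁻¹ᵁ W := le_rfl
  letI algI : Algebra Γ(X, W) Γ(𝔸(n; X), (𝔸(n; X) ↘ X) ⁻¹ᵁ W) :=
    ((𝔸(n; X) ↘ X).appLE W _ e).hom.toAlgebra
  letI modG := pbModule (𝔸(n; X) ↘ X) ((Scheme.Modules.pushforward (𝔸(n; X) ↘ X)).obj Q) e
  haveI towG := pbModule_isScalarTower (𝔸(n; X) ↘ X)
    ((Scheme.Modules.pushforward (𝔸(n; X) ↘ X)).obj Q) e
  have hbc : IsBaseChange Γ(𝔸(n; X), (𝔸(n; X) ↘ X) ⁻¹ᵁ W)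
      (pbSecₗ (𝔸(n; X) ↘ X) ((Scheme.Modules.pushforward (𝔸(n; X) ↘ X)).obj Q) e) :=
    isBaseChange_pbSec (𝔸(n; X) ↘ X) hV hW e _
  letI modN : Module Γ(𝔸(n; X), (𝔸(n; X) ↘ X) ⁻¹ᵁ W)
      Γ((Scheme.Modules.pushforward (𝔸(n; X) ↘ X)).obj Q, W) :=
    (inferInstance : Module Γ(𝔸(n; X), (𝔸(n; X) ↘ X) ⁻¹ᵁ W) Γ(Q, (𝔸(n; X) ↘ X) ⁻¹ᵁ W))
  have happ : (𝔸(n; X) ↘ X).appLE W _ e = (𝔸(n; X) ↘ X).app W :=
    Scheme.Hom.appLE_eq_app _
  haveI towN : IsScalarTower Γ(X, W) Γ(𝔸(n; X), (𝔸(n; X) ↘ X) ⁻¹ᵁ W)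
      Γ((Scheme.Modules.pushforward (𝔸(n; X) ↘ X)).obj Q, W) := ⟨fun a b m => by
    rw [Algebra.smul_def, mul_smul]
    change ((𝔸(n; X) ↘ X).appLE W _ e).hom a • (b • m) = _
    rw [happ]
    rfl⟩
  have hpoly : PolyLike (algebraMap Γ(X, W) Γ(𝔸(n; X), (𝔸(n; X) ↘ X) ⁻¹ᵁ W))
      (tRes n ((𝔸(n; X) ↘ X) ⁻¹ᵁ W)) := by
    change PolyLike ((𝔸(n; X) ↘ X).appLE W _ e).hom _
    rw [happ]
    exact polyLike_affineLine n W hW
  have ht : ∀ m : Γ((Scheme.Modules.pushforward (𝔸(n; X) ↘ X)).obj Q, W),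
      tRes n ((𝔸(n; X) ↘ X) ⁻¹ᵁ W) • m = 0 := fun m => by
    have h0 := h ⟨_, hV⟩ m
    rwa [pow_one] at h0
  have hε : ∀ m : Γ((Scheme.Modules.pushforward (𝔸(n; X) ↘ X)).obj Q, W),
      (appLinear ((Scheme.Modules.pullbackPushforwardAdjunction (𝔸(n; X) ↘ X)).counit.app Q)
        ((𝔸(n; X) ↘ X) ⁻¹ᵁ W))
        (pbSecₗ (𝔸(n; X) ↘ X) ((Scheme.Modules.pushforward (𝔸(n; X) ↘ X)).obj Q) e m) = m :=
    fun m => by
      change ((Scheme.Modules.pullbackPushforwardAdjunction (𝔸(n; X) ↘ X)).counit.app Q).app _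
        (pbSec (𝔸(n; X) ↘ X) ((Scheme.Modules.pushforward (𝔸(n; X) ↘ X)).obj Q) e m) = m
      rw [counit_pbSec]
      exact res_self Q e m
  obtain ⟨hinj, hsurj, hex⟩ := key hpoly
    (pbSecₗ (𝔸(n; X) ↘ X) ((Scheme.Modules.pushforward (𝔸(n; X) ↘ X)).obj Q) e) hbc ht
    (appLinear ((Scheme.Modules.pullbackPushforwardAdjunction (𝔸(n; X) ↘ X)).counit.app Q)
      ((𝔸(n; X) ↘ X) ⁻¹ᵁ W)) hε
  refine ⟨fun a b hab => hinj hab, fun m => hsurj m, fun g => ⟨fun hg => ?_, ?_⟩⟩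
  · obtain ⟨g', rfl⟩ := hex g hg
    exact ⟨g', rfl⟩
  · rintro ⟨g', rfl⟩
    rw [T_app, Scheme.Modules.Hom.app_smul]
    exact ht _

variable [IsLocallyNoetherian (𝔸(n; X))]

attribute [local instance] pc_iso pc_zero pc_ker

/-- **a coherent module on `𝔸¹_X` killed by `t` has trivial class.** -/
theorem cl_eq_zero_of_KT_one (Q : (𝔸(n; X)).Modules) (hQ : Coh.IsCoh Q) (h : KT n 1 Q) :
    KZero.clSub (PC (𝔸(n; X))) Q = 0 := by
  haveI := hQ.1
  haveI hFq : ((Scheme.Modules.pushforward (𝔸(n; X) ↘ X)).obj Q).IsQuasicoherent :=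
    qc_pushforward _ Q
  have hFft : ((Scheme.Modules.pushforward (𝔸(n; X) ↘ X)).obj Q).IsFiniteType :=
    isFiniteType_of_finite_sections _ (fun x => by
      obtain ⟨W, hW, hxW, -⟩ := exists_isAffineOpen_mem_and_subset (x := x) (U := ⊤) trivial
      exact ⟨W, hW, hxW, finite_sections_push n Q hQ h W hW⟩)
  have hG : Coh.IsCoh ((Scheme.Modules.pullback (𝔸(n; X) ↘ X)).obj
      ((Scheme.Modules.pushforward (𝔸(n; X) ↘ X)).obj Q)) :=
    ⟨qc_pullback _ _, isFiniteType_pullback _ _ hFft⟩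
  haveI := hG.1
  -- the affine cover by preimages
  have hcov : ∀ x : 𝔸(n; X), ∃ W : X.Opens, IsAffineOpen W ∧ x ∈ (𝔸(n; X) ↘ X) ⁻¹ᵁ W := by
    intro x
    obtain ⟨W, hW, hxW, -⟩ := exists_isAffineOpen_mem_and_subset
      (x := (𝔸(n; X) ↘ X) x) (U := ⊤) trivial
    exact ⟨W, hW, hxW⟩
  have w : T n ((Scheme.Modules.pullback (𝔸(n; X) ↘ X)).obj
      ((Scheme.Modules.pushforward (𝔸(n; X) ↘ X)).obj Q)) ≫
      (Scheme.Modules.pullbackPushforwardAdjunction (𝔸(n; X) ↘ X)).counit.app Q = 0 := by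
    refine hom_eq_zero_of_affine_cover hG.1 hQ.1 _ (fun x => ?_)
    obtain ⟨W, hW, hxW⟩ := hcov x
    refine ⟨_, hW.preimage _, hxW, fun s => ?_⟩
    rw [comp_app_apply, T_app, Scheme.Modules.Hom.app_smul]
    have h0 := h ⟨_, hW.preimage (𝔸(n; X) ↘ X)⟩
      (((Scheme.Modules.pullbackPushforwardAdjunction (𝔸(n; X) ↘ X)).counit.app Q).app _ s)
    rwa [pow_one] at h0
  have hmono : Mono (T n ((Scheme.Modules.pullback (𝔸(n; X) ↘ X)).obj
      ((Scheme.Modules.pushforward (𝔸(n; X) ↘ X)).obj Q))) := by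
    haveI : (kernel (T n ((Scheme.Modules.pullback (𝔸(n; X) ↘ X)).obj
        ((Scheme.Modules.pushforward (𝔸(n; X) ↘ X)).obj Q)))).IsQuasicoherent :=
      qc_kernel _ hG.1 hG.1
    apply Preadditive.mono_of_isZero_kernel
    apply isZero_of_affine_cover
    intro x
    obtain ⟨W, hW, hxW⟩ := hcov x
    refine ⟨_, hW.preimage _, hxW, fun s => ?_⟩
    apply mono_app (kernel.ι (T n ((Scheme.Modules.pullback (𝔸(n; X) ↘ X)).obj
        ((Scheme.Modules.pushforward (𝔸(n; X) ↘ X)).obj Q)))) _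
    rw [map_zero]
    apply (local_facts n Q h W hW).1
    rw [map_zero]
    exact kernel_ι_app_comp _ _ s
  haveI : ((Scheme.Modules.pushforward (𝔸(n; X) ↘ X) ⋙
      Scheme.Modules.pullback (𝔸(n; X) ↘ X)).obj Q).IsQuasicoherent := hG.1
  haveI : ((𝟭 (𝔸(n; X)).Modules).obj Q).IsQuasicoherent := hQ.1
  have hepi : Epi ((Scheme.Modules.pullbackPushforwardAdjunction (𝔸(n; X) ↘ X)).counit.app Q) :=
    epi_of_surjective_affine_cover _ (fun x => by
      obtain ⟨W, hW, hxW⟩ := hcov x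
      exact ⟨_, hW.preimage _, hxW, (local_facts n Q h W hW).2.1⟩)
  have hex : (ShortComplex.mk _ _ w).Exact := by
    haveI : (ShortComplex.mk _ _ w).X₁.IsQuasicoherent := hG.1
    haveI : (ShortComplex.mk _ _ w).X₂.IsQuasicoherent := hG.1
    haveI : (ShortComplex.mk _ _ w).X₃.IsQuasicoherent := hQ.1
    exact exact_of_affine_cover _ (fun x => by
      obtain ⟨W, hW, hxW⟩ := hcov x
      exact ⟨_, hW.preimage _, hxW, (local_facts n Q h W hW).2.2⟩)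
  have hS : (ShortComplex.mk _ _ w).ShortExact :=
    { exact := hex
      mono_f := hmono
      epi_g := hepi }
  have hcl := cl_ses (PC (𝔸(n; X))) _ hS hG hG hQ
  exact add_eq_left.mp hcl.symm

/-- **a coherent module on `𝔸¹_X` killed by a power of `t` has trivial class.** -/
theorem cl_eq_zero_of_KT (k : ℕ) : ∀ (Q : (𝔸(n; X)).Modules), Coh.IsCoh Q → KT n k Q →
    KZero.clSub (PC (𝔸(n; X))) Q = 0 := by
  induction k with
  | zero =>
    intro Q hQ h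
    haveI := hQ.1
    refine cl_zero (PC (𝔸(n; X))) ?_
    apply isZero_of_affine_cover
    intro x
    obtain ⟨U, hU, hxU, -⟩ := exists_isAffineOpen_mem_and_subset (x := x) (U := ⊤) trivial
    refine ⟨U, hU, hxU, fun s => ?_⟩
    have h0 := h ⟨U, hU⟩ s
    rwa [pow_zero, one_smul] at h0
  | succ k ih =>
    intro Q hQ h
    haveI := hQ.1
    have hK : Coh.IsCoh (kernel (T n Q)) := isCoh_kernel _ hQ hQ
    have hI : Coh.IsCoh (Abelian.image (T n Q)) :=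
      isCoh_kernel _ hQ (isCoh_cokernel _ hQ hQ)
    have hKT : KT n 1 (kernel (T n Q)) := by
      intro U s
      apply mono_app (kernel.ι (T n Q)) U.1
      rw [map_zero, Scheme.Modules.Hom.app_smul, pow_one, ← T_app]
      exact kernel_ι_app_comp _ _ s
    have hIT : KT n k (Abelian.image (T n Q)) := by
      intro U s
      obtain ⟨q, rfl⟩ := epi_app_affine hQ.1 hI.1 (Abelian.factorThruImage (T n Q)) U.2 s
      apply mono_app (Abelian.image.ι (T n Q)) U.1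
      rw [map_zero, Scheme.Modules.Hom.app_smul, ← comp_app_apply, Abelian.image.fac, T_app,
        ← mul_smul, ← pow_succ]
      exact h U q
    have w : kernel.ι (T n Q) ≫ Abelian.factorThruImage (T n Q) = 0 := by
      rw [← cancel_mono (Abelian.image.ι (T n Q)), Category.assoc, Abelian.image.fac,
        kernel.condition, zero_comp]
    have hS : (ShortComplex.mk _ _ w).ShortExact :=
      { exact := ShortComplex.exact_of_f_is_kernel _
          (isKernelOfComp (Abelian.image.ι (T n Q)) (T n Q) (kernelIsKernel (T n Q)) w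
            (Abelian.image.fac (T n Q)))
        mono_f := by dsimp; infer_instance
        epi_g := by dsimp; infer_instance }
    rw [cl_ses (PC (𝔸(n; X))) _ hS hK hQ hI, cl_eq_zero_of_KT_one n _ hK hKT, ih _ hI hIT,
      add_zero]

end Groth.Agent.LD.DF.A1
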