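import Groth.Agent.Lib.Lead.DF.A1K

/-! # `K₀(Coh 𝔸¹_X) → K₀(Coh 𝔾_m,X)` is bijective: the main statement -/

set_option autoImplicit false
universe u
open CategoryTheory Limits Opposite AlgebraicGeometry TopologicalSpace
open scoped ZeroObject

namespace Groth.Agent.LD.DF.A1
open Groth.Agent.LD.QC Groth.Agent.LD.DF Groth.Agent.H2.KThick Groth.Agent.LD.DF.KLoc
  Groth.Agent.H5.Lim

variable {X : Scheme.{u}} (n : Type u) [Unique n]

/-- the coordinate lies in the vanishing ideal of its zero locus. -/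
theorem tRes_mem_vanishingIdeal (Z : Closeds (𝔸(n; X)))
    (hZ : (Z : Set (𝔸(n; X))) = ((𝔸(n; X)).basicOpen (AffineSpace.coord X default) : Set _)ᶜ)
    (U : (𝔸(n; X)).affineOpens) :
    tRes n U.1 ∈ (Scheme.IdealSheafData.vanishingIdeal Z).ideal U := by
  rw [Scheme.IdealSheafData.vanishingIdeal_ideal, PrimeSpectrum.mem_vanishingIdeal]
  intro p hp
  by_contra hnot
  have h1 : p ∈ PrimeSpectrum.basicOpen (tRes n U.1) := hnot
  rw [← U.2.fromSpec_preimage_basicOpen] at h1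
  have h2 : U.2.fromSpec p ∈ (𝔸(n; X)).basicOpen (tRes n U.1) := h1
  rw [Scheme.basicOpen_res] at h2
  have h3 : U.2.fromSpec p ∈ (Z : Set (𝔸(n; X))) := hp
  rw [hZ] at h3
  exact h3 h2.2

/-- a coherent module supported on the zero section is killed by a power of `t`. -/
theorem exists_KT [IsNoetherian (𝔸(n; X))] (Q : (𝔸(n; X)).Modules) (hQ : Coh.IsCoh Q)
    (hs : Disjoint ((𝔸(n; X)).basicOpen (AffineSpace.coord X default) : Set (𝔸(n; X)))
      (CohB1.support Q)) : ∃ k, KT n k Q := by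
  haveI := hQ.1
  obtain ⟨Z, hZ⟩ : ∃ Z : Closeds (𝔸(n; X)), (Z : Set (𝔸(n; X))) =
      ((𝔸(n; X)).basicOpen (AffineSpace.coord X default) : Set _)ᶜ :=
    ⟨⟨_, ((𝔸(n; X)).basicOpen (AffineSpace.coord X default)).isOpen.isClosed_compl⟩, rfl⟩
  have hsup : CohB1.support Q ⊆
      ((Scheme.IdealSheafData.vanishingIdeal Z).support : Set (𝔸(n; X))) := by
    rw [Scheme.IdealSheafData.coe_support_vanishingIdeal, hZ]
    intro x hx hx'
    exact Set.disjoint_left.mp hs hx' hx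
  obtain ⟨k, hk⟩ := exists_isZero_idealMul_pow (Scheme.IdealSheafData.vanishingIdeal Z) hQ hsup
  refine ⟨k, fun U s => ?_⟩
  have hz := hk k le_rfl
  have hmem : (tRes n U.1) ^ k • s ∈
      ((Scheme.IdealSheafData.vanishingIdeal Z ^ k).ideal U) •
        (⊤ : Submodule Γ(𝔸(n; X), U.1) Γ(Q, U.1)) := by
    refine Submodule.smul_mem_smul ?_ Submodule.mem_top
    rw [ideal_pow_apply]
    exact Ideal.pow_mem_pow (tRes_mem_vanishingIdeal n Z hZ U) k
  obtain ⟨u, hu⟩ := (mem_range_idealMulι_iff (Scheme.IdealSheafData.vanishingIdeal Z ^ k) Q U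
    _).mpr hmem
  rw [← hu, section_eq_zero_of_isZero hz u, map_zero]

/-- **`K₀(Coh 𝔸¹_X) → K₀(Coh 𝔾_m,X)` is bijective.** -/
theorem main [IsNoetherian X] [Finite n] {U : Scheme.{u}} (j : U ⟶ 𝔸(n; X)) [IsOpenImmersion j]
    (hU : Set.range j =
      ((𝔸(n; X)).basicOpen (AffineSpace.coord X default) : Set (𝔸(n; X))))
    [(Scheme.Modules.restrictFunctor j).Additive]
    [PreservesFiniteLimits (Scheme.Modules.restrictFunctor j)]
    [PreservesFiniteColimits (Scheme.Modules.restrictFunctor j)]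
    (hj : ∀ M : (𝔸(n; X)).Modules, Coh.IsCoh M →
      Coh.IsCoh ((Scheme.Modules.restrictFunctor j).obj M)) :
    Function.Bijective (SGA6.mapSub (Scheme.Modules.restrictFunctor j)
      (fun M : (𝔸(n; X)).Modules => Coh.IsCoh M) (fun M : U.Modules => Coh.IsCoh M) hj) := by
  haveI : IsLocallyNoetherian (𝔸(n; X)) :=
    LocallyOfFiniteType.isLocallyNoetherian (𝔸(n; X) ↘ X)
  haveI : CompactSpace (𝔸(n; X)) := QuasiCompact.compactSpace_of_compactSpace (𝔸(n; X) ↘ X)
  haveI : IsNoetherian (𝔸(n; X)) := {}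
  refine ⟨?_, mapSub_restrict_surjective j hj⟩
  have hker := ker_mapSub_restrict_le j ⊥ (fun Q hQ hd => by
    rw [AddSubgroup.mem_bot]
    rw [hU] at hd
    obtain ⟨k, hk⟩ := exists_KT n Q hQ hd
    exact cl_eq_zero_of_KT n k Q hQ hk) hj
  rw [injective_iff_map_eq_zero]
  intro x hx
  have h1 : x ∈ (SGA6.mapSub (Scheme.Modules.restrictFunctor j) (PC (𝔸(n; X))) (PC U) hj).ker :=
    hx
  exact (AddSubgroup.mem_bot).mp (hker h1)

end Groth.Agent.LD.DF.A1
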