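import Groth.Agent.Lib.Lead.DF.KDev
import Groth.Agent.Lib.Lead.DF.Deligne
import Groth.Agent.Lib.Helper5.Lim.ModuleBridge

/-! # Artin–Rees for the cohomology of `I^n F^•` (Stacks 0BLC-type statement)

For a short complex `S` of coherent modules on a Noetherian scheme and an ideal sheaf `I`, the
systems `H(I^n S)` and `I^n H(S)` are pro-isomorphic, with explicit maps `φ_n`, `ψ_n`. -/

set_option autoImplicit false
universe u
open CategoryTheory Limits Opposite AlgebraicGeometry TopologicalSpace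

namespace Groth.Agent.LD.DF.ARH
open Groth.Agent.LD.QC Groth.Agent.LD.DF

section Alg
variable {R M M' : Type*} [CommRing R] [AddCommGroup M] [Module R M] [AddCommGroup M'] [Module R M']

theorem ar_le (J : Ideal R) (N : Submodule R M) (k : ℕ)
    (hk : ∀ n ≥ k, J ^ n • (⊤ : Submodule R M) ⊓ N = J ^ (n - k) • (J ^ k • ⊤ ⊓ N))
    (c n : ℕ) (hkc : k ≤ c) (hcn : c ≤ n) :
    J ^ n • (⊤ : Submodule R M) ⊓ N ≤ J ^ (n - c) • N := by
  rw [hk n (hkc.trans hcn)]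
  exact Submodule.smul_mono (Ideal.pow_le_pow_right (by omega)) inf_le_right

theorem exists_preimage_smul (J : Ideal R) (φ : M' →ₗ[R] M) (k : ℕ)
    (hk : ∀ n ≥ k, J ^ n • (⊤ : Submodule R M) ⊓ LinearMap.range φ =
      J ^ (n - k) • (J ^ k • ⊤ ⊓ LinearMap.range φ))
    (c n : ℕ) (hkc : k ≤ c) (hcn : c ≤ n) (x : M) (hx : x ∈ J ^ n • (⊤ : Submodule R M))
    (hx' : x ∈ LinearMap.range φ) : ∃ y ∈ J ^ (n - c) • (⊤ : Submodule R M'), φ y = x := by
  have h := ar_le J (LinearMap.range φ) k hk c n hkc hcn ⟨hx, hx'⟩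
  rw [LinearMap.range_eq_map, ← Submodule.map_smul''] at h
  exact Submodule.mem_map.mp h

end Alg

variable {X : Scheme.{u}}

/-- descend a morphism through an epimorphism, tested on sections over an affine cover. -/
theorem exists_desc_of_affine_ker {A B C : X.Modules} (e : A ⟶ B) [Epi e] (g : A ⟶ C)
    (hA : A.IsQuasicoherent) (hB : B.IsQuasicoherent) (hC : C.IsQuasicoherent)
    (h : ∀ x : X, ∃ W : X.Opens, IsAffineOpen W ∧ x ∈ W ∧
      ∀ s : Γ(A, W), e.app W s = 0 → g.app W s = 0) :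
    ∃ τ : B ⟶ C, e ≫ τ = g := by
  have h0 : kernel.ι e ≫ g = 0 := by
    apply hom_eq_zero_of_affine_cover (qc_kernel e hA hB) hC
    intro x
    obtain ⟨W, hW, hxW, hs⟩ := h x
    refine ⟨W, hW, hxW, fun s => ?_⟩
    rw [comp_app_apply]
    exact hs _ (kernel_ι_app_comp e W s)
  exact ⟨Abelian.epiDesc e g h0, Abelian.comp_epiDesc e g h0⟩

theorem qc_cycles (S : ShortComplex X.Modules) (h₂ : S.X₂.IsQuasicoherent)
    (h₃ : S.X₃.IsQuasicoherent) : S.cycles.IsQuasicoherent :=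
  qc_of_iso S.cyclesIsoKernel.symm (qc_kernel S.g h₂ h₃)

theorem qc_homology (S : ShortComplex X.Modules) (h₁ : S.X₁.IsQuasicoherent)
    (h₂ : S.X₂.IsQuasicoherent) (h₃ : S.X₃.IsQuasicoherent) : S.homology.IsQuasicoherent := by
  have hc : S.cycles.IsQuasicoherent := qc_cycles S h₂ h₃
  have e : cokernel S.toCycles ≅ S.homology :=
    (IsColimit.coconePointUniqueUpToIso (colimit.isColimit _) S.homologyIsCokernel)
  exact qc_of_iso e (qc_cokernel S.toCycles h₁ hc)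

/-- sections killed by `g` are cycles. -/
theorem exists_cycle (S : ShortComplex X.Modules) (W : X.Opens) (s : Γ(S.X₂, W))
    (hs : S.g.app W s = 0) : ∃ z : Γ(S.cycles, W), S.iCycles.app W z = s := by
  obtain ⟨t, ht⟩ := (mem_range_kernel_ι_iff S.g W s).mpr hs
  have key : S.cyclesIsoKernel.inv ≫ S.iCycles = kernel.ι S.g := by
    simp [ShortComplex.cyclesIsoKernel]
  exact ⟨S.cyclesIsoKernel.inv.app W t,
    (congrArg (fun f : kernel S.g ⟶ S.X₂ => f.app W t) key).trans ht⟩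

/-- over an affine open, cycles with vanishing class are boundaries. -/
theorem exists_boundary (S : ShortComplex X.Modules) (h₁ : S.X₁.IsQuasicoherent)
    (h₂ : S.X₂.IsQuasicoherent) (h₃ : S.X₃.IsQuasicoherent) {W : X.Opens} (hW : IsAffineOpen W)
    (z : Γ(S.cycles, W)) (hz : S.homologyπ.app W z = 0) :
    ∃ y : Γ(S.X₁, W), S.toCycles.app W y = z := by
  obtain ⟨T, hT⟩ : ∃ T : ShortComplex X.Modules,
      T = ShortComplex.mk S.toCycles S.homologyπ S.toCycles_comp_homologyπ := ⟨_, rfl⟩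
  have hTe : T.Exact := by
    subst hT
    exact ShortComplex.exact_of_g_is_cokernel _ S.homologyIsCokernel
  haveI : T.X₁.IsQuasicoherent := by subst hT; exact h₁
  haveI : T.X₂.IsQuasicoherent := by subst hT; exact qc_cycles S h₂ h₃
  haveI : T.X₃.IsQuasicoherent := by subst hT; exact qc_homology S h₁ h₂ h₃
  have hex := Groth.Agent.H5.Lim.exact_app_affine T hTe hW
  subst hT
  exact (hex z).mp hz

variable (I : X.IdealSheafData) (S : ShortComplex X.Modules)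

/-- the short complex `I^n · S`. -/
noncomputable abbrev Sn (n : ℕ) : ShortComplex X.Modules := S.map (Dual3.idealMul (I ^ n))

/-- the inclusion `I^n · S ⟶ S`. -/
noncomputable def ιn (n : ℕ) : Sn I S n ⟶ S where
  τ₁ := Dual3.idealMulι (I ^ n) S.X₁
  τ₂ := Dual3.idealMulι (I ^ n) S.X₂
  τ₃ := Dual3.idealMulι (I ^ n) S.X₃
  comm₁₂ := (Dual3.idealMul_map_ι (I ^ n) S.f).symm
  comm₂₃ := (Dual3.idealMul_map_ι (I ^ n) S.g).symm

theorem qc_Sn_cycles (h₂ : S.X₂.IsQuasicoherent) (h₃ : S.X₃.IsQuasicoherent) (n : ℕ) :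
    (Sn I S n).cycles.IsQuasicoherent :=
  qc_cycles (Sn I S n) (qc_idealMul (I ^ n) S.X₂ h₂) (qc_idealMul (I ^ n) S.X₃ h₃)

theorem qc_Sn_homology (h₁ : S.X₁.IsQuasicoherent) (h₂ : S.X₂.IsQuasicoherent)
    (h₃ : S.X₃.IsQuasicoherent) (n : ℕ) : (Sn I S n).homology.IsQuasicoherent :=
  qc_homology (Sn I S n) (qc_idealMul (I ^ n) S.X₁ h₁) (qc_idealMul (I ^ n) S.X₂ h₂)
    (qc_idealMul (I ^ n) S.X₃ h₃)

/-- sections of `I^n Z ⟶ Z ⟶ X₂` lie in `I^n X₂`. -/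
theorem iCycles_idealMulι_mem (h₂ : S.X₂.IsQuasicoherent) (h₃ : S.X₃.IsQuasicoherent) (n : ℕ)
    (W : X.affineOpens) (s : Γ((Dual3.idealMul (I ^ n)).obj S.cycles, W.1)) :
    S.iCycles.app W.1 ((Dual3.idealMulι (I ^ n) S.cycles).app W.1 s) ∈
      (I.ideal W) ^ n • (⊤ : Submodule Γ(X, W.1) Γ(S.X₂, W.1)) := by
  haveI := qc_cycles S h₂ h₃
  have h1 : (Dual3.idealMulι (I ^ n) S.cycles).app W.1 s ∈
      (I.ideal W) ^ n • (⊤ : Submodule Γ(X, W.1) Γ(S.cycles, W.1)) := by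
    rw [← ideal_pow_apply]
    exact (mem_range_idealMulι_iff (I ^ n) S.cycles W _).mp ⟨s, rfl⟩
  have h2 : appLinear S.iCycles W.1 ((Dual3.idealMulι (I ^ n) S.cycles).app W.1 s) ∈
      Submodule.map (appLinear S.iCycles W.1)
        ((I.ideal W) ^ n • (⊤ : Submodule Γ(X, W.1) Γ(S.cycles, W.1))) :=
    Submodule.mem_map_of_mem h1
  rw [Submodule.map_smul''] at h2
  exact Submodule.smul_mono le_rfl le_top h2

/-- (A): cycles of `I^n S` lie in `I^(n-c) Z`. -/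
theorem cyclesMap_mem (h₂ : S.X₂.IsQuasicoherent) (h₃ : S.X₃.IsQuasicoherent)
    (W : X.affineOpens) (k : ℕ)
    (hk : ∀ n ≥ k, (I.ideal W) ^ n • (⊤ : Submodule Γ(X, W.1) Γ(S.X₂, W.1)) ⊓
        LinearMap.range (appLinear S.iCycles W.1) =
      (I.ideal W) ^ (n - k) • ((I.ideal W) ^ k • ⊤ ⊓ LinearMap.range (appLinear S.iCycles W.1)))
    (c n : ℕ) (hkc : k ≤ c) (hcn : c ≤ n) (z : Γ((Sn I S n).cycles, W.1)) :
    (ShortComplex.cyclesMap (ιn I S n)).app W.1 z ∈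
      (I.ideal W) ^ (n - c) • (⊤ : Submodule Γ(X, W.1) Γ(S.cycles, W.1)) := by
  haveI := h₂
  have hx1 : S.iCycles.app W.1 ((ShortComplex.cyclesMap (ιn I S n)).app W.1 z) =
      (Dual3.idealMulι (I ^ n) S.X₂).app W.1 ((Sn I S n).iCycles.app W.1 z) :=
    congrArg (fun f : (Sn I S n).cycles ⟶ S.X₂ => f.app W.1 z)
      (ShortComplex.cyclesMap_i (ιn I S n))
  have hx : S.iCycles.app W.1 ((ShortComplex.cyclesMap (ιn I S n)).app W.1 z) ∈
      (I.ideal W) ^ n • (⊤ : Submodule Γ(X, W.1) Γ(S.X₂, W.1)) := by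
    rw [hx1, ← ideal_pow_apply]
    exact (mem_range_idealMulι_iff (I ^ n) S.X₂ W _).mp ⟨_, rfl⟩
  obtain ⟨y, hy, hyx⟩ := exists_preimage_smul (I.ideal W) (appLinear S.iCycles W.1) k hk c n
    hkc hcn _ hx ⟨_, rfl⟩
  have hyz : y = (ShortComplex.cyclesMap (ιn I S n)).app W.1 z := mono_app S.iCycles W.1 hyx
  rw [← hyz]
  exact hy

/-- (B): boundaries in `I^n X₂` are boundaries of `I^(n-c) X₁`. -/
theorem exists_boundary_lift (h₁ : S.X₁.IsQuasicoherent) (W : X.affineOpens) (k : ℕ)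
    (hk : ∀ n ≥ k, (I.ideal W) ^ n • (⊤ : Submodule Γ(X, W.1) Γ(S.X₂, W.1)) ⊓
        LinearMap.range (appLinear S.f W.1) =
      (I.ideal W) ^ (n - k) • ((I.ideal W) ^ k • ⊤ ⊓ LinearMap.range (appLinear S.f W.1)))
    (c n : ℕ) (hkc : k ≤ c) (hcn : c ≤ n) (y : Γ(S.X₁, W.1))
    (hy : S.f.app W.1 y ∈ (I.ideal W) ^ n • (⊤ : Submodule Γ(X, W.1) Γ(S.X₂, W.1))) :
    ∃ y'' : Γ((Dual3.idealMul (I ^ (n - c))).obj S.X₁, W.1),
      S.f.app W.1 ((Dual3.idealMulι (I ^ (n - c)) S.X₁).app W.1 y'') = S.f.app W.1 y := by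
  haveI := h₁
  obtain ⟨y', hy', hfy'⟩ := exists_preimage_smul (I.ideal W) (appLinear S.f W.1) k hk c n
    hkc hcn _ hy ⟨y, rfl⟩
  obtain ⟨y'', hy''⟩ := (mem_range_idealMulι_iff (I ^ (n - c)) S.X₁ W y').mpr (by
    rw [ideal_pow_apply]; exact hy')
  exact ⟨y'', by rw [hy'']; exact hfy'⟩

/-- `μ : Z(I^n S) ⟶ I^(n-c) Z(S)`. -/
theorem exists_μ (h₂ : S.X₂.IsQuasicoherent) (h₃ : S.X₃.IsQuasicoherent) (c n : ℕ)
    (h : ∀ x : X, ∃ W : X.affineOpens, x ∈ W.1 ∧ ∀ z : Γ((Sn I S n).cycles, W.1),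
      (ShortComplex.cyclesMap (ιn I S n)).app W.1 z ∈
        (I.ideal W) ^ (n - c) • (⊤ : Submodule Γ(X, W.1) Γ(S.cycles, W.1))) :
    ∃ μ : (Sn I S n).cycles ⟶ (Dual3.idealMul (I ^ (n - c))).obj S.cycles,
      μ ≫ Dual3.idealMulι (I ^ (n - c)) S.cycles = ShortComplex.cyclesMap (ιn I S n) := by
  have hZ := qc_cycles S h₂ h₃
  haveI := hZ
  apply exists_lift_of_affine_range_le _ _ (qc_Sn_cycles I S h₂ h₃ n)
    (qc_idealMul _ _ hZ) hZ
  intro x
  obtain ⟨W, hxW, hW⟩ := h x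
  refine ⟨W.1, W.2, hxW, fun z => ?_⟩
  exact (mem_range_idealMulι_iff (I ^ (n - c)) S.cycles W _).mpr (by
    rw [ideal_pow_apply]; exact hW z)

/-- `φ : H(I^n S) ⟶ I^(n-c) H(S)`. -/
theorem exists_φ (h₁ : S.X₁.IsQuasicoherent) (h₂ : S.X₂.IsQuasicoherent)
    (h₃ : S.X₃.IsQuasicoherent) (c n : ℕ)
    (μ : (Sn I S n).cycles ⟶ (Dual3.idealMul (I ^ (n - c))).obj S.cycles)
    (hμ : μ ≫ Dual3.idealMulι (I ^ (n - c)) S.cycles = ShortComplex.cyclesMap (ιn I S n)) :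
    ∃ φ : (Sn I S n).homology ⟶ (Dual3.idealMul (I ^ (n - c))).obj S.homology,
      φ ≫ Dual3.idealMulι (I ^ (n - c)) S.homology = ShortComplex.homologyMap (ιn I S n) ∧
      (Sn I S n).homologyπ ≫ φ = μ ≫ (Dual3.idealMul (I ^ (n - c))).map S.homologyπ := by
  have hZ := qc_cycles S h₂ h₃
  have hH := qc_homology S h₁ h₂ h₃
  have hZn := qc_Sn_cycles I S h₂ h₃ n
  have hHn := qc_Sn_homology I S h₁ h₂ h₃ n
  have hcomp : (μ ≫ (Dual3.idealMul (I ^ (n - c))).map S.homologyπ) ≫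
      Dual3.idealMulι (I ^ (n - c)) S.homology =
      (Sn I S n).homologyπ ≫ ShortComplex.homologyMap (ιn I S n) := by
    rw [Category.assoc, Dual3.idealMul_map_ι, ← Category.assoc, hμ,
      ShortComplex.homologyπ_naturality]
  obtain ⟨φ, hφ⟩ := exists_lift_of_affine_range_le (ShortComplex.homologyMap (ιn I S n))
    (Dual3.idealMulι (I ^ (n - c)) S.homology) hHn (qc_idealMul _ _ hH) hH (by
      intro x
      obtain ⟨W, hW, hxW, -⟩ := exists_isAffineOpen_mem_and_subset (x := x) (U := ⊤) trivial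
      refine ⟨W, hW, hxW, fun s => ?_⟩
      obtain ⟨z, rfl⟩ := epi_app_affine hZn hHn (Sn I S n).homologyπ hW s
      exact ⟨(μ ≫ (Dual3.idealMul (I ^ (n - c))).map S.homologyπ).app W z,
        congrArg (fun f : (Sn I S n).cycles ⟶ S.homology => f.app W z) hcomp⟩)
  refine ⟨φ, hφ, ?_⟩
  rw [← cancel_mono (Dual3.idealMulι (I ^ (n - c)) S.homology), Category.assoc, hφ, hcomp]

/-- `λ : I^n Z(S) ⟶ Z(I^(n-c) S)`. -/
theorem exists_lam (h₂ : S.X₂.IsQuasicoherent) (h₃ : S.X₃.IsQuasicoherent) (c n : ℕ) :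
    ∃ l : (Dual3.idealMul (I ^ n)).obj S.cycles ⟶ (Sn I S (n - c)).cycles,
      l ≫ (Sn I S (n - c)).iCycles ≫ Dual3.idealMulι (I ^ (n - c)) S.X₂ =
        Dual3.idealMulι (I ^ n) S.cycles ≫ S.iCycles := by
  have hZ := qc_cycles S h₂ h₃
  haveI := h₂
  haveI := h₃
  haveI : Mono ((Sn I S (n - c)).iCycles ≫ Dual3.idealMulι (I ^ (n - c)) S.X₂) :=
    @mono_comp _ _ _ _ _ _ inferInstance _ (Dual3.mono_idealMulι (I ^ (n - c)) S.X₂)
  apply exists_lift_of_affine_range_le _ _ (qc_idealMul _ _ hZ)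
    (qc_Sn_cycles I S h₂ h₃ (n - c)) h₂
  intro x
  obtain ⟨W', hW', hxW', -⟩ := exists_isAffineOpen_mem_and_subset (x := x) (U := ⊤) trivial
  obtain ⟨W, rfl⟩ : ∃ W : X.affineOpens, W.1 = W' := ⟨⟨W', hW'⟩, rfl⟩
  refine ⟨W.1, W.2, hxW', fun s => ?_⟩
  have hx := iCycles_idealMulι_mem I S h₂ h₃ n W s
  have hx2 : S.iCycles.app W.1 ((Dual3.idealMulι (I ^ n) S.cycles).app W.1 s) ∈
      (I.ideal W) ^ (n - c) • (⊤ : Submodule Γ(X, W.1) Γ(S.X₂, W.1)) :=
    Submodule.smul_mono_left (Ideal.pow_le_pow_right (Nat.sub_le n c)) hx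
  obtain ⟨x', hx'⟩ := (mem_range_idealMulι_iff (I ^ (n - c)) S.X₂ W _).mpr (by
    rw [ideal_pow_apply]; exact hx2)
  have hg : ((Dual3.idealMul (I ^ (n - c))).map S.g).app W.1 x' = 0 := by
    apply idealMulι_app_injective (I ^ (n - c)) S.X₃ W.1
    have h1 := congrArg (fun f : (Dual3.idealMul (I ^ (n - c))).obj S.X₂ ⟶ S.X₃ => f.app W.1 x')
      (Dual3.idealMul_map_ι (I ^ (n - c)) S.g)
    refine (h1.trans ?_).trans (map_zero _).symm
    change S.g.app W.1 ((Dual3.idealMulι (I ^ (n - c)) S.X₂).app W.1 x') = 0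
    rw [hx']
    exact congrArg (fun f : S.cycles ⟶ S.X₃ =>
      f.app W.1 ((Dual3.idealMulι (I ^ n) S.cycles).app W.1 s)) S.iCycles_g
  obtain ⟨z', hz'⟩ := exists_cycle (Sn I S (n - c)) W.1 x' hg
  refine ⟨z', ?_⟩
  change (Dual3.idealMulι (I ^ (n - c)) S.X₂).app W.1 ((Sn I S (n - c)).iCycles.app W.1 z') = _
  rw [hz', hx']
  rfl

/-- `ψ : I^n H(S) ⟶ H(I^(n-c) S)`. -/
theorem exists_ψ (h₁ : S.X₁.IsQuasicoherent) (h₂ : S.X₂.IsQuasicoherent)
    (h₃ : S.X₃.IsQuasicoherent) (c n : ℕ)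
    (l : (Dual3.idealMul (I ^ n)).obj S.cycles ⟶ (Sn I S (n - c)).cycles)
    (hl : l ≫ (Sn I S (n - c)).iCycles ≫ Dual3.idealMulι (I ^ (n - c)) S.X₂ =
        Dual3.idealMulι (I ^ n) S.cycles ≫ S.iCycles)
    (h : ∀ x : X, ∃ W : X.affineOpens, x ∈ W.1 ∧ ∀ y : Γ(S.X₁, W.1),
      S.f.app W.1 y ∈ (I.ideal W) ^ n • (⊤ : Submodule Γ(X, W.1) Γ(S.X₂, W.1)) →
      ∃ y'' : Γ((Dual3.idealMul (I ^ (n - c))).obj S.X₁, W.1),
        S.f.app W.1 ((Dual3.idealMulι (I ^ (n - c)) S.X₁).app W.1 y'') = S.f.app W.1 y) :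
    ∃ ψ : (Dual3.idealMul (I ^ n)).obj S.homology ⟶ (Sn I S (n - c)).homology,
      (Dual3.idealMul (I ^ n)).map S.homologyπ ≫ ψ = l ≫ (Sn I S (n - c)).homologyπ ∧
      ψ ≫ ShortComplex.homologyMap (ιn I S (n - c)) = Dual3.idealMulι (I ^ n) S.homology := by
  have hZ := qc_cycles S h₂ h₃
  have hH := qc_homology S h₁ h₂ h₃
  haveI : Epi ((Dual3.idealMul (I ^ n)).map S.homologyπ) :=
    KDev.epi_idealMul_map (I ^ n) S.homologyπ hZ hH
  obtain ⟨ψ, hψ⟩ := exists_desc_of_affine_ker ((Dual3.idealMul (I ^ n)).map S.homologyπ)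
    (l ≫ (Sn I S (n - c)).homologyπ) (qc_idealMul _ _ hZ) (qc_idealMul _ _ hH)
    (qc_Sn_homology I S h₁ h₂ h₃ (n - c)) (by
      intro x
      obtain ⟨W, hxW, hW⟩ := h x
      refine ⟨W.1, W.2, hxW, fun s hs => ?_⟩
      -- the cycle `z = ι s` has vanishing class
      have hπz : S.homologyπ.app W.1 ((Dual3.idealMulι (I ^ n) S.cycles).app W.1 s) = 0 := by
        have h1 := congrArg (fun f : (Dual3.idealMul (I ^ n)).obj S.cycles ⟶ S.homology =>
          f.app W.1 s) (Dual3.idealMul_map_ι (I ^ n) S.homologyπ)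
        refine h1.symm.trans ?_
        change (Dual3.idealMulι (I ^ n) S.homology).app W.1
          (((Dual3.idealMul (I ^ n)).map S.homologyπ).app W.1 s) = 0
        rw [hs, map_zero]
      obtain ⟨y, hy⟩ := exists_boundary S h₁ h₂ h₃ W.2 _ hπz
      have hfy : S.f.app W.1 y =
          S.iCycles.app W.1 ((Dual3.idealMulι (I ^ n) S.cycles).app W.1 s) := by
        rw [← hy]
        exact (congrArg (fun f : S.X₁ ⟶ S.X₂ => f.app W.1 y) S.toCycles_i).symm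
      obtain ⟨y'', hy''⟩ := hW y (by
        rw [hfy]; exact iCycles_idealMulι_mem I S h₂ h₃ n W s)
      have hls : l.app W.1 s = (Sn I S (n - c)).toCycles.app W.1 y'' := by
        haveI : Mono ((Sn I S (n - c)).iCycles ≫ Dual3.idealMulι (I ^ (n - c)) S.X₂) :=
          @mono_comp _ _ _ _ _ _ inferInstance _ (Dual3.mono_idealMulι (I ^ (n - c)) S.X₂)
        apply mono_app ((Sn I S (n - c)).iCycles ≫ Dual3.idealMulι (I ^ (n - c)) S.X₂) W.1
        have e1 := congrArg (fun f : (Dual3.idealMul (I ^ n)).obj S.cycles ⟶ S.X₂ =>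
          f.app W.1 s) hl
        refine e1.trans ?_
        change S.iCycles.app W.1 ((Dual3.idealMulι (I ^ n) S.cycles).app W.1 s) =
          (Dual3.idealMulι (I ^ (n - c)) S.X₂).app W.1
            ((Sn I S (n - c)).iCycles.app W.1 ((Sn I S (n - c)).toCycles.app W.1 y''))
        have e2 : (Sn I S (n - c)).iCycles.app W.1 ((Sn I S (n - c)).toCycles.app W.1 y'') =
            ((Dual3.idealMul (I ^ (n - c))).map S.f).app W.1 y'' :=
          congrArg (fun f : (Sn I S (n - c)).X₁ ⟶ (Sn I S (n - c)).X₂ => f.app W.1 y'')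
            (Sn I S (n - c)).toCycles_i
        have e3 : (Dual3.idealMulι (I ^ (n - c)) S.X₂).app W.1
            (((Dual3.idealMul (I ^ (n - c))).map S.f).app W.1 y'') =
            S.f.app W.1 ((Dual3.idealMulι (I ^ (n - c)) S.X₁).app W.1 y'') :=
          congrArg (fun f : (Dual3.idealMul (I ^ (n - c))).obj S.X₁ ⟶ S.X₂ => f.app W.1 y'')
            (Dual3.idealMul_map_ι (I ^ (n - c)) S.f)
        rw [e2, e3, hy'', hfy]
      rw [comp_app_apply, hls]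
      exact congrArg (fun f : (Sn I S (n - c)).X₁ ⟶ (Sn I S (n - c)).homology => f.app W.1 y'')
        (Sn I S (n - c)).toCycles_comp_homologyπ)
  refine ⟨ψ, hψ, ?_⟩
  rw [← cancel_epi ((Dual3.idealMul (I ^ n)).map S.homologyπ), ← Category.assoc, hψ,
    Category.assoc, ShortComplex.homologyπ_naturality, Dual3.idealMul_map_ι, ← Category.assoc]
  congr 1
  rw [← cancel_mono S.iCycles, Category.assoc, ShortComplex.cyclesMap_i]
  exact hl

/-- compatibility (4). -/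
theorem comp_eq_homologyMap (c n : ℕ)
    (μ : (Sn I S n).cycles ⟶ (Dual3.idealMul (I ^ (n - c))).obj S.cycles)
    (hμ : μ ≫ Dual3.idealMulι (I ^ (n - c)) S.cycles = ShortComplex.cyclesMap (ιn I S n))
    (φ : (Sn I S n).homology ⟶ (Dual3.idealMul (I ^ (n - c))).obj S.homology)
    (hφ : (Sn I S n).homologyπ ≫ φ = μ ≫ (Dual3.idealMul (I ^ (n - c))).map S.homologyπ)
    (l : (Dual3.idealMul (I ^ (n - c))).obj S.cycles ⟶ (Sn I S (n - c - c)).cycles)
    (hl : l ≫ (Sn I S (n - c - c)).iCycles ≫ Dual3.idealMulι (I ^ (n - c - c)) S.X₂ =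
        Dual3.idealMulι (I ^ (n - c)) S.cycles ≫ S.iCycles)
    (ψ : (Dual3.idealMul (I ^ (n - c))).obj S.homology ⟶ (Sn I S (n - c - c)).homology)
    (hψ : (Dual3.idealMul (I ^ (n - c))).map S.homologyπ ≫ ψ =
      l ≫ (Sn I S (n - c - c)).homologyπ)
    (t : Sn I S n ⟶ Sn I S (n - c - c)) (ht : t ≫ ιn I S (n - c - c) = ιn I S n) :
    φ ≫ ψ = ShortComplex.homologyMap t := by
  rw [← cancel_epi (Sn I S n).homologyπ, ← Category.assoc, hφ, Category.assoc, hψ,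
    ShortComplex.homologyπ_naturality, ← Category.assoc]
  congr 1
  haveI : Mono ((Sn I S (n - c - c)).iCycles ≫ Dual3.idealMulι (I ^ (n - c - c)) S.X₂) :=
    @mono_comp _ _ _ _ _ _ inferInstance _ (Dual3.mono_idealMulι (I ^ (n - c - c)) S.X₂)
  rw [← cancel_mono ((Sn I S (n - c - c)).iCycles ≫ Dual3.idealMulι (I ^ (n - c - c)) S.X₂),
    Category.assoc, hl, ← Category.assoc, hμ, ShortComplex.cyclesMap_i,
    ← Category.assoc, ShortComplex.cyclesMap_i, Category.assoc]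
  congr 1
  have h2 := congrArg ShortComplex.Hom.τ₂ ht
  exact h2.symm

/-- **Artin–Rees for the homology of `I^n S`.** -/
theorem main [IsNoetherian X] (h₁ : S.X₁.IsQuasicoherent) (h₂ : Coh.IsCoh S.X₂)
    (h₃ : S.X₃.IsQuasicoherent) :
    ∃ (c : ℕ) (φ : ∀ n : ℕ, (Sn I S n).homology ⟶ (Dual3.idealMul (I ^ (n - c))).obj S.homology)
      (ψ : ∀ n : ℕ, (Dual3.idealMul (I ^ n)).obj S.homology ⟶ (Sn I S (n - c)).homology),
      0 < c ∧
      (∀ n, c ≤ n → φ n ≫ Dual3.idealMulι (I ^ (n - c)) S.homology =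
        ShortComplex.homologyMap (ιn I S n)) ∧
      (∀ n, c ≤ n → ψ n ≫ ShortComplex.homologyMap (ιn I S (n - c)) =
        Dual3.idealMulι (I ^ n) S.homology) ∧
      (∀ n, 2 * c ≤ n → ∀ t : Sn I S n ⟶ Sn I S (n - c - c),
        t ≫ ιn I S (n - c - c) = ιn I S n → φ n ≫ ψ (n - c) = ShortComplex.homologyMap t) := by
  classical
  haveI := h₂.1
  obtain ⟨Sc, hSc⟩ := Groth.Agent.H5.EffDec.exists_finset_affineOpens (X := X)
  have hcov : ∀ x : X, ∃ W : X.affineOpens, W ∈ Sc ∧ x ∈ W.1 := by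
    intro x
    have hx : x ∈ (⨆ U : Sc, (U.1 : X.affineOpens).1 : X.Opens) := by rw [hSc]; trivial
    obtain ⟨⟨W, hW⟩, hxW⟩ := Opens.mem_iSup.mp hx
    exact ⟨W, hW, hxW⟩
  have hlocZ : ∀ W : X.affineOpens, ∃ k : ℕ, ∀ n ≥ k,
      (I.ideal W) ^ n • (⊤ : Submodule Γ(X, W.1) Γ(S.X₂, W.1)) ⊓
          LinearMap.range (appLinear S.iCycles W.1) =
        (I.ideal W) ^ (n - k) • ((I.ideal W) ^ k • ⊤ ⊓
          LinearMap.range (appLinear S.iCycles W.1)) := by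
    intro W
    haveI : IsNoetherianRing Γ(X, W.1) := IsLocallyNoetherian.component_noetherian W
    haveI : Module.Finite Γ(X, W.1) Γ(S.X₂, W.1) := finite_sections_of_isFiniteType S.X₂ h₂.2 W.2
    exact Ideal.exists_pow_inf_eq_pow_smul (I.ideal W) _
  have hlocB : ∀ W : X.affineOpens, ∃ k : ℕ, ∀ n ≥ k,
      (I.ideal W) ^ n • (⊤ : Submodule Γ(X, W.1) Γ(S.X₂, W.1)) ⊓
          LinearMap.range (appLinear S.f W.1) =
        (I.ideal W) ^ (n - k) • ((I.ideal W) ^ k • ⊤ ⊓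
          LinearMap.range (appLinear S.f W.1)) := by
    intro W
    haveI : IsNoetherianRing Γ(X, W.1) := IsLocallyNoetherian.component_noetherian W
    haveI : Module.Finite Γ(X, W.1) Γ(S.X₂, W.1) := finite_sections_of_isFiniteType S.X₂ h₂.2 W.2
    exact Ideal.exists_pow_inf_eq_pow_smul (I.ideal W) _
  choose kZ hkZ using hlocZ
  choose kB hkB using hlocB
  obtain ⟨c, hc⟩ : ∃ c : ℕ, c = max 1 (max (Sc.sup kZ) (Sc.sup kB)) := ⟨_, rfl⟩
  have hc0 : 0 < c := by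
    rw [hc]; exact lt_of_lt_of_le Nat.one_pos (le_max_left _ _)
  have hcZ : ∀ W ∈ Sc, kZ W ≤ c := fun W hW =>
    (Finset.le_sup (f := kZ) hW).trans (by
      rw [hc]; exact (le_max_left _ _).trans (le_max_right _ _))
  have hcB : ∀ W ∈ Sc, kB W ≤ c := fun W hW =>
    (Finset.le_sup (f := kB) hW).trans (by
      rw [hc]; exact (le_max_right _ _).trans (le_max_right _ _))
  have hdata : ∀ n : ℕ, c ≤ n →
      ∃ (μ : (Sn I S n).cycles ⟶ (Dual3.idealMul (I ^ (n - c))).obj S.cycles)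
        (φ : (Sn I S n).homology ⟶ (Dual3.idealMul (I ^ (n - c))).obj S.homology)
        (l : (Dual3.idealMul (I ^ n)).obj S.cycles ⟶ (Sn I S (n - c)).cycles)
        (ψ : (Dual3.idealMul (I ^ n)).obj S.homology ⟶ (Sn I S (n - c)).homology),
        μ ≫ Dual3.idealMulι (I ^ (n - c)) S.cycles = ShortComplex.cyclesMap (ιn I S n) ∧
        φ ≫ Dual3.idealMulι (I ^ (n - c)) S.homology = ShortComplex.homologyMap (ιn I S n) ∧
        (Sn I S n).homologyπ ≫ φ = μ ≫ (Dual3.idealMul (I ^ (n - c))).map S.homologyπ ∧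
        l ≫ (Sn I S (n - c)).iCycles ≫ Dual3.idealMulι (I ^ (n - c)) S.X₂ =
          Dual3.idealMulι (I ^ n) S.cycles ≫ S.iCycles ∧
        (Dual3.idealMul (I ^ n)).map S.homologyπ ≫ ψ = l ≫ (Sn I S (n - c)).homologyπ ∧
        ψ ≫ ShortComplex.homologyMap (ιn I S (n - c)) = Dual3.idealMulι (I ^ n) S.homology := by
    intro n hn
    obtain ⟨μ, hμ⟩ := exists_μ I S h₂.1 h₃ c n (fun x => by
      obtain ⟨W, hW, hxW⟩ := hcov x
      exact ⟨W, hxW, fun z => cyclesMap_mem I S h₂.1 h₃ W (kZ W) (hkZ W) c n (hcZ W hW) hn z⟩)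
    obtain ⟨φ, hφ1, hφ2⟩ := exists_φ I S h₁ h₂.1 h₃ c n μ hμ
    obtain ⟨l, hl⟩ := exists_lam I S h₂.1 h₃ c n
    obtain ⟨ψ, hψ1, hψ2⟩ := exists_ψ I S h₁ h₂.1 h₃ c n l hl (fun x => by
      obtain ⟨W, hW, hxW⟩ := hcov x
      exact ⟨W, hxW, fun y hy =>
        exists_boundary_lift I S h₁ W (kB W) (hkB W) c n (hcB W hW) hn y hy⟩)
    exact ⟨μ, φ, l, ψ, hμ, hφ1, hφ2, hl, hψ1, hψ2⟩
  choose! μ φ l ψ hμ hφ1 hφ2 hl hψ1 hψ2 using hdata
  refine ⟨c, φ, ψ, hc0, fun n hn => hφ1 n hn, fun n hn => hψ2 n hn, fun n hn t ht => ?_⟩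
  exact comp_eq_homologyMap I S c n (μ n) (hμ n (by omega)) (φ n) (hφ2 n (by omega))
    (l (n - c)) (hl (n - c) (by omega)) (ψ (n - c)) (hψ1 (n - c) (by omega)) t ht

/-- the statement for cochain complexes. -/
theorem main_complex [IsNoetherian X] (F : CochainComplex X.Modules ℤ)
    (hFc : ∀ q : ℤ, Coh.IsCoh (F.X q)) (p : ℤ) :
    ∃ (c : ℕ) (φ : ∀ n : ℕ, ((Dual3.deligne I n).obj F).homology p ⟶
        (Dual3.idealMul (I ^ (n - c))).obj (F.homology p))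
      (ψ : ∀ n : ℕ, (Dual3.idealMul (I ^ n)).obj (F.homology p) ⟶
        ((Dual3.deligne I (n - c)).obj F).homology p),
      0 < c ∧
      (∀ n : ℕ, c ≤ n → φ n ≫ Dual3.idealMulι (I ^ (n - c)) (F.homology p) =
        HomologicalComplex.homologyMap (Dual3.deligneι I n F) p) ∧
      (∀ n : ℕ, c ≤ n → ψ n ≫ HomologicalComplex.homologyMap (Dual3.deligneι I (n - c) F) p =
        Dual3.idealMulι (I ^ n) (F.homology p)) ∧
      (∀ n : ℕ, 2 * c ≤ n → (ψ n ≫ φ (n - c)) ≫ Dual3.idealMulι (I ^ (n - c - c)) (F.homology p) =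
        Dual3.idealMulι (I ^ n) (F.homology p)) ∧
      ∀ (n : ℕ), 2 * c ≤ n → ∀ t : (Dual3.deligne I n).obj F ⟶ (Dual3.deligne I (n - c - c)).obj F,
        t ≫ Dual3.deligneι I (n - c - c) F = Dual3.deligneι I n F →
        φ n ≫ ψ (n - c) = HomologicalComplex.homologyMap t p := by
  obtain ⟨c, φ, ψ, hc, h1, h2, h4⟩ := main I (F.sc p) (hFc _).1 (hFc _) (hFc _).1
  refine ⟨c, φ, ψ, hc, h1, h2, fun n hn => ?_, fun n hn t ht => ?_⟩
  · rw [Category.assoc]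
    have e1 := h1 (n - c) (by omega)
    have e2 := h2 n (by omega)
    exact (congrArg (fun f => ψ n ≫ f) e1).trans e2
  · refine h4 n hn ((HomologicalComplex.shortComplexFunctor _ _ p).map t) ?_
    have := congrArg (fun f => (HomologicalComplex.shortComplexFunctor _ _ p).map f) ht
    simp only [Functor.map_comp] at this
    exact this

end Groth.Agent.LD.DF.ARH
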