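import Groth.Agent.Lib.Lead.DF.Deligne
import Groth.Agent.Lib.Lead.QC.SerreSupp

/-! # Uniform Artin–Rees for a quasi-coherent submodule of a coherent module
`I^(n-c) (I^c F ∩ G) = I^n F ∩ G` as subobjects of `F`, for `n ≥ c`. -/

set_option autoImplicit false
universe u
open CategoryTheory Limits Opposite AlgebraicGeometry TopologicalSpace

namespace Groth.Agent.LD.DF.ARSub
open Groth.Agent.LD.QC Groth.Agent.LD.DF

variable {X : Scheme.{u}}

/-- explicit model of the intersection of two subobjects by iterated kernels. -/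
noncomputable abbrev infArrow {A B F : X.Modules} (a : A ⟶ F) (b : B ⟶ F) :
    kernel (kernel.ι (cokernel.π a) ≫ cokernel.π b) ⟶ F :=
  kernel.ι (kernel.ι (cokernel.π a) ≫ cokernel.π b) ≫ kernel.ι (cokernel.π a)

theorem inf_eq_mk {A B F : X.Modules} (a : A ⟶ F) (b : B ⟶ F) [Mono a] [Mono b] :
    Subobject.mk a ⊓ Subobject.mk b = Subobject.mk (infArrow a b) := by
  apply le_antisymm
  · have ha : (Subobject.mk a ⊓ Subobject.mk b).arrow ≫ cokernel.π a = 0 := by
      have h : Subobject.mk a ⊓ Subobject.mk b ≤ Subobject.mk a := inf_le_left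
      have key : (Subobject.mk a ⊓ Subobject.mk b).arrow =
          Subobject.ofLE _ _ h ≫ (Subobject.underlyingIso a).hom ≫ a := by
        rw [Subobject.underlyingIso_hom_comp_eq_mk, Subobject.ofLE_arrow]
      rw [key, Category.assoc, Category.assoc, cokernel.condition, comp_zero, comp_zero]
    have hb : (Subobject.mk a ⊓ Subobject.mk b).arrow ≫ cokernel.π b = 0 := by
      have h : Subobject.mk a ⊓ Subobject.mk b ≤ Subobject.mk b := inf_le_right
      have key : (Subobject.mk a ⊓ Subobject.mk b).arrow =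
          Subobject.ofLE _ _ h ≫ (Subobject.underlyingIso b).hom ≫ b := by
        rw [Subobject.underlyingIso_hom_comp_eq_mk, Subobject.ofLE_arrow]
      rw [key, Category.assoc, Category.assoc, cokernel.condition, comp_zero, comp_zero]
    have hu : kernel.lift (cokernel.π a) _ ha ≫ (kernel.ι (cokernel.π a) ≫ cokernel.π b) = 0 := by
      rw [← Category.assoc, kernel.lift_ι, hb]
    refine Subobject.le_mk_of_comm (kernel.lift _ (kernel.lift (cokernel.π a) _ ha) hu) ?_
    rw [← Category.assoc, kernel.lift_ι, kernel.lift_ι]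
  · have h1 : infArrow a b ≫ cokernel.π a = 0 := by
      rw [Category.assoc, kernel.condition, comp_zero]
    have h2 : infArrow a b ≫ cokernel.π b = 0 := by
      rw [Category.assoc]
      exact kernel.condition _
    exact le_inf
      (Subobject.mk_le_mk_of_comm (Abelian.monoLift a _ h1) (Abelian.monoLift_comp a _ h1))
      (Subobject.mk_le_mk_of_comm (Abelian.monoLift b _ h2) (Abelian.monoLift_comp b _ h2))

theorem qc_inf {A B F : X.Modules} (a : A ⟶ F) (b : B ⟶ F) [Mono a] [Mono b]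
    (hA : A.IsQuasicoherent) (hB : B.IsQuasicoherent) (hF : F.IsQuasicoherent) :
    ((Subobject.mk a ⊓ Subobject.mk b : Subobject F) : X.Modules).IsQuasicoherent := by
  have hK₁ : (kernel (cokernel.π a)).IsQuasicoherent :=
    qc_kernel _ hF (qc_cokernel a hA hF)
  have hK₂ : (kernel (kernel.ι (cokernel.π a) ≫ cokernel.π b)).IsQuasicoherent :=
    qc_kernel _ hK₁ (qc_cokernel b hB hF)
  exact qc_of_iso ((Subobject.underlyingIso (infArrow a b)).symm ≪≫
    Subobject.isoOfEq _ _ (inf_eq_mk a b).symm) hK₂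

/-- sections of the intersection of two subobjects. -/
theorem mem_range_inf_iff {A B F : X.Modules} (a : A ⟶ F) (b : B ⟶ F) [Mono a] [Mono b]
    (W : X.Opens) (s : Γ(F, W)) :
    (∃ t : Γ(((Subobject.mk a ⊓ Subobject.mk b : Subobject F) : X.Modules), W),
        (Subobject.mk a ⊓ Subobject.mk b).arrow.app W t = s) ↔
      (∃ x : Γ(A, W), a.app W x = s) ∧ (∃ y : Γ(B, W), b.app W y = s) := by
  constructor
  · rintro ⟨t, rfl⟩
    constructor
    · have h : Subobject.mk a ⊓ Subobject.mk b ≤ Subobject.mk a := inf_le_left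
      have key : (Subobject.ofLE _ _ h ≫ (Subobject.underlyingIso a).hom) ≫ a =
          (Subobject.mk a ⊓ Subobject.mk b).arrow := by
        rw [Category.assoc, Subobject.underlyingIso_hom_comp_eq_mk, Subobject.ofLE_arrow]
      exact ⟨(Subobject.ofLE _ _ h ≫ (Subobject.underlyingIso a).hom).app W t,
        congrArg (fun f : ((Subobject.mk a ⊓ Subobject.mk b : Subobject F) : X.Modules) ⟶ F =>
          f.app W t) key⟩
    · have h : Subobject.mk a ⊓ Subobject.mk b ≤ Subobject.mk b := inf_le_right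
      have key : (Subobject.ofLE _ _ h ≫ (Subobject.underlyingIso b).hom) ≫ b =
          (Subobject.mk a ⊓ Subobject.mk b).arrow := by
        rw [Category.assoc, Subobject.underlyingIso_hom_comp_eq_mk, Subobject.ofLE_arrow]
      exact ⟨(Subobject.ofLE _ _ h ≫ (Subobject.underlyingIso b).hom).app W t,
        congrArg (fun f : ((Subobject.mk a ⊓ Subobject.mk b : Subobject F) : X.Modules) ⟶ F =>
          f.app W t) key⟩
  · rintro ⟨⟨x, hx⟩, ⟨y, hy⟩⟩
    have h1 : (cokernel.π a).app W s = 0 := (mem_range_mono_iff a W s).mp ⟨x, hx⟩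
    have h2 : (cokernel.π b).app W s = 0 := (mem_range_mono_iff b W s).mp ⟨y, hy⟩
    obtain ⟨u, hu⟩ := (mem_range_kernel_ι_iff (cokernel.π a) W s).mpr h1
    have h3 : (kernel.ι (cokernel.π a) ≫ cokernel.π b).app W u = 0 := by
      rw [comp_app_apply, hu, h2]
    obtain ⟨v, hv⟩ := (mem_range_kernel_ι_iff (kernel.ι (cokernel.π a) ≫ cokernel.π b) W u).mpr h3
    have hle : Subobject.mk (infArrow a b) ≤ Subobject.mk a ⊓ Subobject.mk b :=
      (inf_eq_mk a b).ge
    have key : ((Subobject.underlyingIso (infArrow a b)).inv ≫ Subobject.ofLE _ _ hle) ≫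
        (Subobject.mk a ⊓ Subobject.mk b).arrow = infArrow a b := by
      rw [Category.assoc, Subobject.ofLE_arrow, Subobject.underlyingIso_arrow]
    refine ⟨((Subobject.underlyingIso (infArrow a b)).inv ≫ Subobject.ofLE _ _ hle).app W v, ?_⟩
    have h4 := congrArg (fun f : kernel (kernel.ι (cokernel.π a) ≫ cokernel.π b) ⟶ F =>
      f.app W v) key
    refine h4.trans ?_
    change (kernel.ι (cokernel.π a)).app W
      ((kernel.ι (kernel.ι (cokernel.π a) ≫ cokernel.π b)).app W v) = s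
    rw [hv, hu]

/-- sections over an affine open of the image of `J · A ⟶ A ⟶ F`. -/
theorem mem_range_idealMulι_comp_iff (J : X.IdealSheafData) {A F : X.Modules}
    [A.IsQuasicoherent] (t : A ⟶ F) (W : X.affineOpens) (s : Γ(F, W.1)) :
    (∃ y : Γ((Dual3.idealMul J).obj A, W.1), (Dual3.idealMulι J A ≫ t).app W.1 y = s) ↔
      s ∈ (J.ideal W) • LinearMap.range (appLinear t W.1) := by
  rw [LinearMap.range_eq_map, ← Submodule.map_smul'', Submodule.mem_map]
  constructor
  · rintro ⟨y, rfl⟩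
    exact ⟨(Dual3.idealMulι J A).app W.1 y, (mem_range_idealMulι_iff J A W _).mp ⟨y, rfl⟩, rfl⟩
  · rintro ⟨z, hz, rfl⟩
    obtain ⟨y, hy⟩ := (mem_range_idealMulι_iff J A W z).mpr hz
    refine ⟨y, ?_⟩
    rw [comp_app_apply, hy, appLinear_apply]

/-- the subobject `I^m F ∩ G` of `F`. -/
noncomputable abbrev T (I : X.IdealSheafData) {F G : X.Modules} (ι : G ⟶ F) [Mono ι] (m : ℕ) :
    Subobject F :=
  Subobject.mk (Dual3.idealMulι (I ^ m) F) ⊓ Subobject.mk ι

theorem range_T (I : X.IdealSheafData) {F G : X.Modules} [F.IsQuasicoherent] (ι : G ⟶ F) [Mono ι]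
    (m : ℕ) (W : X.affineOpens) :
    LinearMap.range (appLinear (T I ι m).arrow W.1) =
      ((I.ideal W) ^ m • (⊤ : Submodule Γ(X, W.1) Γ(F, W.1))) ⊓
        LinearMap.range (appLinear ι W.1) := by
  ext s
  rw [LinearMap.mem_range, Submodule.mem_inf, LinearMap.mem_range]
  simp only [appLinear_apply]
  rw [mem_range_inf_iff, mem_range_idealMulι_iff (I ^ m) F W s, ideal_pow_apply]

theorem ar_shift {R M : Type*} [CommRing R] [AddCommGroup M] [Module R M] (J : Ideal R)
    (N : Submodule R M) (k : ℕ)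
    (hk : ∀ n ≥ k, J ^ n • (⊤ : Submodule R M) ⊓ N = J ^ (n - k) • (J ^ k • ⊤ ⊓ N))
    (c n : ℕ) (hkc : k ≤ c) (hcn : c ≤ n) :
    J ^ (n - c) • (J ^ c • (⊤ : Submodule R M) ⊓ N) = J ^ n • ⊤ ⊓ N := by
  rw [hk c hkc, hk n (hkc.trans hcn), ← Submodule.mul_smul, ← pow_add]
  congr 2
  omega

theorem main [IsNoetherian X] (F G : X.Modules) (hF : Coh.IsCoh F)
    (hG : Coh.IsQCoh G) (ι : G ⟶ F) [Mono ι] (I : X.IdealSheafData) :
    ∃ c : ℕ, ∀ n : ℕ, c ≤ n →
      Subobject.mk (Dual3.idealMulι (I ^ (n - c))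
          (Subobject.underlying.obj (Subobject.mk (Dual3.idealMulι (I ^ c) F) ⊓ Subobject.mk ι)) ≫
        (Subobject.mk (Dual3.idealMulι (I ^ c) F) ⊓ Subobject.mk ι).arrow) =
      Subobject.mk (Dual3.idealMulι (I ^ n) F) ⊓ Subobject.mk ι := by
  classical
  haveI := hF.1
  haveI : G.IsQuasicoherent := hG
  obtain ⟨S, hS⟩ := Groth.Agent.H5.EffDec.exists_finset_affineOpens (X := X)
  have hloc : ∀ W : X.affineOpens, ∃ k : ℕ, ∀ n ≥ k,
      (I.ideal W) ^ n • (⊤ : Submodule Γ(X, W.1) Γ(F, W.1)) ⊓ LinearMap.range (appLinear ι W.1) =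
        (I.ideal W) ^ (n - k) • ((I.ideal W) ^ k • ⊤ ⊓ LinearMap.range (appLinear ι W.1)) := by
    intro W
    haveI : IsNoetherianRing Γ(X, W.1) := IsLocallyNoetherian.component_noetherian W
    haveI : Module.Finite Γ(X, W.1) Γ(F, W.1) := finite_sections_of_isFiniteType F hF.2 W.2
    exact Ideal.exists_pow_inf_eq_pow_smul (I.ideal W) _
  choose k hk using hloc
  refine ⟨S.sup k, fun n hn => ?_⟩
  have hqT : ∀ m, ((T I ι m : Subobject F) : X.Modules).IsQuasicoherent := fun m =>
    qc_inf _ _ (qc_idealMul (I ^ m) F hF.1) hG hF.1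
  haveI := hqT (S.sup k)
  have hqL : ((Dual3.idealMul (I ^ (n - S.sup k))).obj
      ((T I ι (S.sup k) : Subobject F) : X.Modules)).IsQuasicoherent :=
    qc_idealMul _ _ (hqT _)
  have hcov : ∀ x : X, ∃ W : X.affineOpens, W ∈ S ∧ x ∈ W.1 := by
    intro x
    have hx : x ∈ (⨆ U : S, (U.1 : X.affineOpens).1 : X.Opens) := by rw [hS]; trivial
    obtain ⟨⟨W, hW⟩, hxW⟩ := Opens.mem_iSup.mp hx
    exact ⟨W, hW, hxW⟩
  have hsec : ∀ W : X.affineOpens, W ∈ S → ∀ s : Γ(F, W.1),
      (∃ y, (Dual3.idealMulι (I ^ (n - S.sup k)) ((T I ι (S.sup k) : Subobject F) : X.Modules) ≫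
        (T I ι (S.sup k)).arrow).app W.1 y = s) ↔ (∃ t, (T I ι n).arrow.app W.1 t = s) := by
    intro W hW s
    have hle : k W ≤ S.sup k := Finset.le_sup (f := k) hW
    rw [mem_range_idealMulι_comp_iff, range_T, ideal_pow_apply,
      ar_shift (I.ideal W) _ (k W) (hk W) _ n hle hn, ← range_T, LinearMap.mem_range]
    simp only [appLinear_apply]
  apply le_antisymm
  · obtain ⟨σ, hσ⟩ := exists_lift_of_affine_range_le
      (Dual3.idealMulι (I ^ (n - S.sup k)) ((T I ι (S.sup k) : Subobject F) : X.Modules) ≫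
        (T I ι (S.sup k)).arrow) (T I ι n).arrow hqL (hqT n) hF.1 (by
        intro x
        obtain ⟨W, hW, hxW⟩ := hcov x
        exact ⟨W.1, W.2, hxW, fun s => (hsec W hW _).mp ⟨s, rfl⟩⟩)
    exact Subobject.mk_le_of_comm σ hσ
  · obtain ⟨σ, hσ⟩ := exists_lift_of_affine_range_le (T I ι n).arrow
      (Dual3.idealMulι (I ^ (n - S.sup k)) ((T I ι (S.sup k) : Subobject F) : X.Modules) ≫
        (T I ι (S.sup k)).arrow) (hqT n) hqL hF.1 (by
        intro x
        obtain ⟨W, hW, hxW⟩ := hcov x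
        exact ⟨W.1, W.2, hxW, fun s => (hsec W hW _).mpr ⟨s, rfl⟩⟩)
    exact Subobject.le_mk_of_comm σ hσ

end Groth.Agent.LD.DF.ARSub
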