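import Groth.Agent.Lib.Lead.DF.IdealCoprod

/-! # Dévissage on an irreducible closed subset with a given test module (Stacks 01YL) -/

set_option autoImplicit false
universe u
open CategoryTheory Limits Opposite AlgebraicGeometry TopologicalSpace

namespace Groth.Agent.LD.DF
open Groth.Agent.LD.QC

section Stalk
variable {X : Scheme.{u}}

/-- bijectivity of the map induced on stalks at `x`. -/
def StalkBij {A B : X.Modules} (g : A ⟶ B) (x : X) : Prop :=
  Function.Bijective ((TopCat.Presheaf.stalkFunctor _ x).map g.mapPresheaf).hom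

theorem stalkMap_comp_apply {A B C : X.Modules} (g : A ⟶ B) (h : B ⟶ C) (x : X)
    (y : ↑((TopCat.Presheaf.stalkFunctor Ab x).obj A.presheaf)) :
    ((TopCat.Presheaf.stalkFunctor _ x).map (g ≫ h).mapPresheaf).hom y =
      ((TopCat.Presheaf.stalkFunctor _ x).map h.mapPresheaf).hom
        (((TopCat.Presheaf.stalkFunctor _ x).map g.mapPresheaf).hom y) := by
  obtain ⟨V, hxV, s, rfl⟩ := TopCat.Presheaf.exists_germ_eq A.presheaf y
  rw [stalkMap_germ, stalkMap_germ, stalkMap_germ]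
  rfl

theorem stalkMap_comp_eq {A B C : X.Modules} (g : A ⟶ B) (h : B ⟶ C) (x : X) :
    ⇑((TopCat.Presheaf.stalkFunctor _ x).map (g ≫ h).mapPresheaf).hom =
      ⇑((TopCat.Presheaf.stalkFunctor _ x).map h.mapPresheaf).hom ∘
        ⇑((TopCat.Presheaf.stalkFunctor _ x).map g.mapPresheaf).hom :=
  funext (stalkMap_comp_apply g h x)

theorem StalkBij.comp {A B C : X.Modules} {g : A ⟶ B} {h : B ⟶ C} {x : X}
    (hg : StalkBij g x) (hh : StalkBij h x) : StalkBij (g ≫ h) x := by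
  unfold StalkBij
  rw [stalkMap_comp_eq]
  exact Function.Bijective.comp hh hg

theorem StalkBij.of_comp_right {A B C : X.Modules} {g : A ⟶ B} {h : B ⟶ C} {x : X}
    (hgh : StalkBij (g ≫ h) x) (hh : StalkBij h x) : StalkBij g x := by
  unfold StalkBij at hgh
  rw [stalkMap_comp_eq] at hgh
  exact (Function.Bijective.of_comp_iff' hh _).mp hgh

theorem app_bijective_of_isIso_restrict {A B : X.Modules} (g : A ⟶ B) (U : X.Opens)
    (hU : IsIso ((Scheme.Modules.restrictFunctor U.ι).map g)) (W : X.Opens) (hW : W ≤ U) :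
    Function.Bijective (g.app W) := by
  haveI := hU
  have htr : ∀ W₁ W₂ : X.Opens, W₁ = W₂ → Function.Bijective (g.app W₁) →
      Function.Bijective (g.app W₂) := by
    rintro _ _ rfl h
    exact h
  have h1 : IsIso (((Scheme.Modules.restrictFunctor U.ι).map g).app (U.ι ⁻¹ᵁ W)) := inferInstance
  rw [ConcreteCategory.isIso_iff_bijective] at h1
  have hW' : U.ι ''ᵁ (U.ι ⁻¹ᵁ W) = W := by
    rw [Scheme.Hom.image_preimage_eq_opensRange_inf, Scheme.Opens.opensRange_ι]
    exact inf_eq_right.mpr hW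
  exact htr _ _ hW' h1

/-- a morphism which restricts to an isomorphism on an open neighbourhood of `x` is bijective
on stalks at `x`. -/
theorem stalkBij_of_isIso_restrict {A B : X.Modules} (g : A ⟶ B) (U : X.Opens) (x : X)
    (hx : x ∈ U) (hU : IsIso ((Scheme.Modules.restrictFunctor U.ι).map g)) : StalkBij g x := by
  have hbij := app_bijective_of_isIso_restrict g U hU
  constructor
  · rw [injective_iff_map_eq_zero]
    intro y hy
    obtain ⟨V, hxV, s, rfl⟩ := TopCat.Presheaf.exists_germ_eq A.presheaf y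
    rw [stalkMap_germ] at hy
    have hxVU : x ∈ V ⊓ U := ⟨hxV, hx⟩
    have e2 : B.presheaf.germ (V ⊓ U) x hxVU
        (g.app (V ⊓ U) (A.presheaf.map (homOfLE (inf_le_left : V ⊓ U ≤ V)).op s)) = 0 := by
      rw [app_res, germ_res]
      exact hy
    obtain ⟨W, hWV, hxW, hW⟩ := exists_res_eq_zero_of_germ_eq_zero B x hxVU _ e2
    rw [← app_res] at hW
    have h0 := (hbij W (hWV.trans inf_le_right)).1 (hW.trans (map_zero (g.app W).hom).symm)
    rw [← germ_res A x (inf_le_left : V ⊓ U ≤ V) hxVU s, ← germ_res A x hWV hxW, h0]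
    exact map_zero (A.presheaf.germ W x hxW).hom
  · intro b
    obtain ⟨V, hxV, t, rfl⟩ := TopCat.Presheaf.exists_germ_eq B.presheaf b
    have hxVU : x ∈ V ⊓ U := ⟨hxV, hx⟩
    obtain ⟨s, hs⟩ := (hbij (V ⊓ U) inf_le_right).2
      (B.presheaf.map (homOfLE (inf_le_left : V ⊓ U ≤ V)).op t)
    refine ⟨A.presheaf.germ (V ⊓ U) x hxVU s, ?_⟩
    rw [stalkMap_germ, hs, germ_res]

end Stalk

section Main
variable {X Z : Scheme.{u}}

/-- the key step: the direct image of an ideal sheaf (generically the unit ideal) of the integral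
closed subscheme has the property `P`, given a test module `G`. -/
theorem P_push_ideal_of_test [IsNoetherian X] (i : Z ⟶ X) [IsClosedImmersion i] [IsIntegral Z]
    (P : X.Modules → Prop) (hP : ∀ M N : X.Modules, Nonempty (M ≅ N) → P M → P N)
    (h₁ : ∀ S : ShortComplex X.Modules, S.ShortExact → Coh.IsCoh S.X₁ → Coh.IsCoh S.X₂ →
      Coh.IsCoh S.X₃ → P S.X₁ → P S.X₃ → P S.X₂)
    (h₂ : ∀ (F : X.Modules) (r : ℕ), Coh.IsCoh F → 1 ≤ r → P (∐ fun _ : Fin r => F) → P F)
    (IH : ∀ M : X.Modules, Coh.IsCoh M → CohB1.support M ⊆ Set.range i →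
      i (genericPoint Z) ∉ CohB1.support M → P M)
    (G : X.Modules) (hG : Coh.IsCoh G) (hGs : i (genericPoint Z) ∈ CohB1.support G)
    (hGann : ∀ a ∈ IsLocalRing.maximalIdeal (X.presheaf.stalk (i (genericPoint Z))),
      ∀ m : ↑(G.presheaf.stalk (i (genericPoint Z))), a • m = 0)
    (hG4 : ∀ J : X.IdealSheafData, i (genericPoint Z) ∉ (J.support : Set X) →
      ∃ (G' : X.Modules) (ι' : G' ⟶ (Dual3.idealMul J).obj G), Mono ι' ∧ G'.IsQuasicoherent ∧
        StalkBij (ι' ≫ Dual3.idealMulι J G) (i (genericPoint Z)) ∧ P G')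
    (I : Z.Modules) (ι : I ⟶ Coh.structureModule Z) [Mono ι] (hI : Coh.IsCoh I) (V : Z.Opens)
    (hηV : genericPoint Z ∈ V)
    (hLι : IsIso ((Scheme.Modules.restrictFunctor V.ι).map ι)) :
    P ((Scheme.Modules.pushforward i).obj I) := by
  classical
  haveI := hG.1
  haveI : IsLocallyNoetherian Z := LocallyOfFiniteType.isLocallyNoetherian i
  haveI : CompactSpace Z := QuasiCompact.compactSpace_of_compactSpace i
  haveI : IsNoetherian Z := {}
  obtain ⟨rG, IG, ιG, φG, UG, VG, hιG, hIG, hφG, hξUG, hLφG, hηVG, hLιG⟩ :=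
    exists_push_ideal_coprod i G hG hGann
  haveI := hιG
  haveI := hφG
  haveI := hLφG
  haveI := hLιG
  haveI := hLι
  -- the rank is positive
  have hrG : 1 ≤ rG := by
    by_contra hn
    have h0 : rG = 0 := by omega
    subst h0
    have hz : IsZero (∐ fun _ : Fin 0 => IG) := isZero_sigma_fin_zero IG
    have hz1 : IsZero ((Scheme.Modules.pushforward i).obj (∐ fun _ : Fin 0 => IG)) :=
      Functor.map_isZero _ hz
    have hz2 : IsZero ((Scheme.Modules.restrictFunctor UG.ι).obj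
        ((Scheme.Modules.pushforward i).obj (∐ fun _ : Fin 0 => IG))) :=
      Functor.map_isZero _ hz1
    have hz3 : IsZero ((Scheme.Modules.restrictFunctor UG.ι).obj G) :=
      IsZero.of_iso hz2 (asIso ((Scheme.Modules.restrictFunctor UG.ι).map φG)).symm
    have hd := support_disjoint_of_isZero_restrict UG.ι hz3
    exact Set.disjoint_left.mp hd (by rw [Scheme.Opens.range_ι]; exact hξUG) hGs
  have hcopIG : Coh.IsCoh (∐ fun _ : Fin rG => IG) := isCoh_sigma_of_mono ιG hIG.1 rG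
  have hcopI : Coh.IsCoh (∐ fun _ : Fin rG => I) := isCoh_sigma_of_mono ι hI.1 rG
  have hpcopI : Coh.IsCoh ((Scheme.Modules.pushforward i).obj (∐ fun _ : Fin rG => I)) :=
    isCoh_push i _ hcopI
  have hLa : IsIso ((Scheme.Modules.restrictFunctor VG.ι).map
      (Limits.Sigma.map (fun _ : Fin rG => ιG))) :=
    isIso_map_sigmaMap (Scheme.Modules.restrictFunctor VG.ι) _ _ (fun _ : Fin rG => ιG)
  have hLb : IsIso ((Scheme.Modules.restrictFunctor V.ι).map
      (Limits.Sigma.map (fun _ : Fin rG => ι))) :=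
    isIso_map_sigmaMap (Scheme.Modules.restrictFunctor V.ι) _ _ (fun _ : Fin rG => ι)
  obtain ⟨Ua, hξUa, hUa⟩ := exists_open_isIso_push i hcopIG (isCoh_freeMod Z rG)
    (Limits.Sigma.map (fun _ : Fin rG => ιG)) VG _ hηVG hLa
  obtain ⟨Ub, hξUb, hUb⟩ := exists_open_isIso_push i hcopI (isCoh_freeMod Z rG)
    (Limits.Sigma.map (fun _ : Fin rG => ι)) V _ hηV hLb
  obtain ⟨U₂, hU₂G, hU₂a, hU₂b, hξU₂⟩ : ∃ U₂ : X.Opens, U₂ ≤ UG ∧ U₂ ≤ Ua ∧ U₂ ≤ Ub ∧
      i (genericPoint Z) ∈ U₂ :=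
    ⟨UG ⊓ Ua ⊓ Ub, inf_le_left.trans inf_le_left, inf_le_left.trans inf_le_right, inf_le_right,
      ⟨⟨hξUG, hξUa⟩, hξUb⟩⟩
  haveI h1 : IsIso ((Scheme.Modules.restrictFunctor U₂.ι).map φG) :=
    isIso_restrict_of_le φG hU₂G hLφG
  haveI h2 : IsIso ((Scheme.Modules.restrictFunctor U₂.ι).map
      ((Scheme.Modules.pushforward i).map (Limits.Sigma.map (fun _ : Fin rG => ιG)))) :=
    isIso_restrict_of_le _ hU₂a hUa
  haveI h3 : IsIso ((Scheme.Modules.restrictFunctor U₂.ι).map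
      ((Scheme.Modules.pushforward i).map (Limits.Sigma.map (fun _ : Fin rG => ι)))) :=
    isIso_restrict_of_le _ hU₂b hUb
  have hξr : i (genericPoint Z) ∈ Set.range U₂.ι := by
    rw [Scheme.Opens.range_ι]; exact hξU₂
  -- Deligne's formula
  have hU₂c : (U₂ : Set X) = ((complIdeal U₂.ι).support : Set X)ᶜ := by
    rw [coe_support_complIdeal, Scheme.Opens.range_ι, compl_compl]
  obtain ⟨n, ψ₂, hψ₂⟩ := deligne_exists
    ((Scheme.Modules.pushforward i).obj (∐ fun _ : Fin rG => I)) G (complIdeal U₂.ι) U₂ hU₂c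
    hpcopI.1 hG
    (inv ((Scheme.Modules.restrictFunctor U₂.ι).map φG) ≫
      (Scheme.Modules.restrictFunctor U₂.ι).map
        ((Scheme.Modules.pushforward i).map (Limits.Sigma.map (fun _ : Fin rG => ιG))) ≫
      inv ((Scheme.Modules.restrictFunctor U₂.ι).map
        ((Scheme.Modules.pushforward i).map (Limits.Sigma.map (fun _ : Fin rG => ι)))))
  have hdisj : ∀ k : ℕ, Disjoint (Set.range U₂.ι)
      (((((complIdeal U₂.ι) ^ k).support : Closeds X)) : Set X) :=
    fun k => disjoint_range_support_complIdeal_pow U₂.ι k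
  have hLpow : ∀ (k : ℕ) (M : X.Modules), IsIso ((Scheme.Modules.restrictFunctor U₂.ι).map
      (Dual3.idealMulι ((complIdeal U₂.ι) ^ k) M)) :=
    fun k M => isIso_restrict_idealMulι ((complIdeal U₂.ι) ^ k) U₂.ι M (hdisj k)
  haveI hLn := hLpow n G
  have hLψ₂ : IsIso ((Scheme.Modules.restrictFunctor U₂.ι).map ψ₂) := by
    rw [hψ₂]; infer_instance
  have hT : Coh.IsCoh ((Dual3.idealMul ((complIdeal U₂.ι) ^ n)).obj G) :=
    isCoh_idealMul ((complIdeal U₂.ι) ^ n) G hG
  haveI := hT.1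
  obtain ⟨n', hn'⟩ := exists_mono_idealMul_comp (complIdeal U₂.ι) hT hpcopI.1 ψ₂
    (subset_support_complIdeal_of_disjoint U₂.ι
      (support_disjoint_of_isIso_restrict U₂.ι ψ₂ hLψ₂).1)
  haveI hm := hn' n' le_rfl
  -- the test submodule
  have hξJ : i (genericPoint Z) ∉
      (((((complIdeal U₂.ι) ^ (n' + n)).support : Closeds X)) : Set X) :=
    fun h => Set.disjoint_left.mp (hdisj (n' + n)) hξr h
  obtain ⟨G', ι', hι', hG'qc, hbij, hPG'⟩ := hG4 ((complIdeal U₂.ι) ^ (n' + n)) hξJ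
  haveI := hι'
  obtain ⟨σ, hσ⟩ := exists_idealMul_pow_add (complIdeal U₂.ι) G n' n
  haveI : Mono σ := mono_of_mono_fac hσ
  -- bijectivity on stalks
  have b2 : StalkBij (Dual3.idealMulι ((complIdeal U₂.ι) ^ (n' + n)) G) (i (genericPoint Z)) :=
    stalkBij_of_isIso_restrict _ U₂ _ hξU₂ (hLpow _ _)
  have b3 : StalkBij ι' (i (genericPoint Z)) := StalkBij.of_comp_right hbij b2
  have b4 : StalkBij (Dual3.idealMulι ((complIdeal U₂.ι) ^ n')
      ((Dual3.idealMul ((complIdeal U₂.ι) ^ n)).obj G)) (i (genericPoint Z)) :=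
    stalkBij_of_isIso_restrict _ U₂ _ hξU₂ (hLpow _ _)
  have b5 : StalkBij (Dual3.idealMulι ((complIdeal U₂.ι) ^ n) G) (i (genericPoint Z)) :=
    stalkBij_of_isIso_restrict _ U₂ _ hξU₂ (hLpow _ _)
  have b6 : StalkBij σ (i (genericPoint Z)) := by
    refine StalkBij.of_comp_right ?_ (b4.comp b5)
    rw [hσ]
    exact b2
  have b7 : StalkBij ψ₂ (i (genericPoint Z)) := stalkBij_of_isIso_restrict _ U₂ _ hξU₂ hLψ₂
  obtain ⟨θ, hθ⟩ : ∃ θ : G' ⟶ (Scheme.Modules.pushforward i).obj (∐ fun _ : Fin rG => I),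
      θ = ι' ≫ σ ≫ Dual3.idealMulι ((complIdeal U₂.ι) ^ n')
        ((Dual3.idealMul ((complIdeal U₂.ι) ^ n)).obj G) ≫ ψ₂ := ⟨_, rfl⟩
  have hθbij : StalkBij θ (i (genericPoint Z)) := by
    rw [hθ]
    exact b3.comp (b6.comp (b4.comp b7))
  haveI hθm : Mono θ := by
    rw [hθ]
    haveI : Mono (σ ≫ Dual3.idealMulι ((complIdeal U₂.ι) ^ n')
        ((Dual3.idealMul ((complIdeal U₂.ι) ^ n)).obj G) ≫ ψ₂) := mono_comp _ _
    exact mono_comp _ _
  have hG'coh : Coh.IsCoh G' := isCoh_of_mono θ hG'qc hpcopI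
  obtain ⟨U₃, hξU₃, hU₃⟩ := (spread_out _ _ hpcopI hG'coh θ (i (genericPoint Z))).2.2 hθbij
  have hξcok : i (genericPoint Z) ∉ CohB1.support (cokernel θ) := fun h =>
    Set.disjoint_left.mp (support_disjoint_of_isIso_restrict U₃.ι θ hU₃).2
      (by rw [Scheme.Opens.range_ι]; exact hξU₃) h
  have hcok : Coh.IsCoh (cokernel θ) := isCoh_cokernel θ hG'coh hpcopI
  have hPcok : P (cokernel θ) := IH _ hcok
    ((support_subset_of_epi (cokernel.π θ)).trans (PS.support_pushforward_subset i _)) hξcok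
  have hSE : (ShortComplex.mk θ (cokernel.π θ) (cokernel.condition θ)).ShortExact :=
    { exact := ShortComplex.exact_cokernel θ
      mono_f := hθm
      epi_g := inferInstanceAs (Epi (cokernel.π θ)) }
  have hPpush : P ((Scheme.Modules.pushforward i).obj (∐ fun _ : Fin rG => I)) :=
    h₁ _ hSE hG'coh hpcopI hcok hPG' hPcok
  apply h₂ _ rG (isCoh_push i I hI) hrG
  exact hP _ _ ⟨PreservesCoproduct.iso (Scheme.Modules.pushforward i) (fun _ : Fin rG => I)⟩ hPpush

/-- **Stacks 01YL**: dévissage on an irreducible closed subset with a given test module. -/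
theorem devissage_irreducible (X : Scheme.{u}) [IsNoetherian X]
    (Z₀ : Set X) (hZ₀ : IsClosed Z₀) (hirr : IsIrreducible Z₀) (ξ : X)
    (hξ : ξ ∈ Z₀ ∧ closure {ξ} = Z₀)
    (P : X.Modules → Prop) (hP : ∀ M N : X.Modules, Nonempty (M ≅ N) → P M → P N)
    (h₀ : ∀ M : X.Modules, IsZero M → P M)
    (h₁ : ∀ S : ShortComplex X.Modules, S.ShortExact → Coh.IsCoh S.X₁ → Coh.IsCoh S.X₂ →
      Coh.IsCoh S.X₃ → P S.X₁ → P S.X₃ → P S.X₂)
    (h₂ : ∀ (F : X.Modules) (r : ℕ), Coh.IsCoh F → 1 ≤ r → P (∐ fun _ : Fin r => F) → P F)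
    (h₃ : ∀ (Z : Scheme.{u}) (i : Z ⟶ X), IsClosedImmersion i → IsIntegral Z →
      Set.range ⇑i ⊆ Z₀ → Set.range ⇑i ≠ Z₀ →
      ∀ (I : Z.Modules) (ι : I ⟶ Coh.structureModule Z), Mono ι → Coh.IsQCoh I →
        P ((Coh.push i).obj I))
    (h₄ : ∃ G : X.Modules, Coh.IsCoh G ∧ CohB1.support G = Z₀ ∧
      (∀ a ∈ IsLocalRing.maximalIdeal (X.presheaf.stalk ξ),
        ∀ m : ↑(G.presheaf.stalk ξ), a • m = 0) ∧
      ∀ J : X.IdealSheafData, ξ ∉ (J.support : Set X) →
        ∃ (G' : X.Modules) (ι' : G' ⟶ (Dual3.idealMul J).obj G), Mono ι' ∧ Coh.IsQCoh G' ∧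
          IsIso ((TopCat.Presheaf.stalkFunctor _ ξ).map
            (ι' ≫ Dual3.idealMulι J G).mapPresheaf) ∧ P G')
    (F : X.Modules) (hF : Coh.IsCoh F) (hsupp : CohB1.support F ⊆ Z₀) : P F := by
  classical
  obtain ⟨G, hG, hGs, hGann, hG4⟩ := h₄
  refine devissage_master P (fun A B e _ h => hP A B ⟨e⟩ h) Z₀ h₀
    (fun S hS h1 h2 h3 _ p1 p3 => h₁ S hS h1 h2 h3 p1 p3) ?_ F hF hsupp
  intro Y hYc hYirr hYZ IH Q hQ hQY
  obtain ⟨Yc, hYcdef⟩ : ∃ Yc : Closeds X, (Yc : Set X) = Y := ⟨⟨Y, hYc⟩, rfl⟩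
  have hYirr' : IsIrreducible (Yc : Set X) := hYcdef ▸ hYirr
  haveI hint : IsIntegral (redSub Yc) := isIntegral_redSub Yc hYirr'
  haveI : IsLocallyNoetherian (redSub Yc) := LocallyOfFiniteType.isLocallyNoetherian (redSubι Yc)
  haveI : CompactSpace (redSub Yc) := QuasiCompact.compactSpace_of_compactSpace (redSubι Yc)
  haveI : IsNoetherian (redSub Yc) := {}
  have hcl : closure {redSubι Yc (genericPoint (redSub Yc))} = Y := by
    rw [← hYcdef]; exact closure_redSubι_genericPoint Yc hYirr'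
  have hξY : redSubι Yc (genericPoint (redSub Yc)) ∈ Y := hcl ▸ subset_closure rfl
  have hrange : Set.range (redSubι Yc) = Y := by rw [← hYcdef]; exact range_redSubι Yc
  have hQ0 : ¬ IsZero Q := by
    intro hz
    have h1 := support_eq_empty_of_isZero hz
    rw [hQY] at h1
    exact (h1 ▸ hξY : _ ∈ (∅ : Set X))
  have hIYs : ((Scheme.IdealSheafData.vanishingIdeal Yc).support : Set X) = Y := by
    rw [← hYcdef]; exact Scheme.IdealSheafData.coe_support_vanishingIdeal Yc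
  obtain ⟨N₀, ν, hν, hN₀, hN₀0, hkill⟩ := exists_sub_killed
    (Scheme.IdealSheafData.vanishingIdeal Yc) Q hQ hQ0 (by rw [hIYs, hQY])
  haveI := hν
  by_cases hξN : redSubι Yc (genericPoint (redSub Yc)) ∈ CohB1.support N₀
  swap
  · exact ⟨N₀, ν, hν, hN₀, hN₀0, IH N₀ hN₀ ((support_subset_of_mono ν).trans hQY.subset)
      (fun h => hξN (h ▸ hξY))⟩
  haveI := hN₀.1
  haveI hunit : IsIso ((Scheme.Modules.pullbackPushforwardAdjunction (redSubι Yc)).unit.app N₀) := by
    rw [isIso_unit_closedImmersion_iff]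
    intro U a ha' s
    rw [Scheme.IdealSheafData.ker_subschemeι] at ha'
    exact hkill U a ha' s
  have hM₀ : Coh.IsCoh ((Scheme.Modules.pullback (redSubι Yc)).obj N₀) :=
    ⟨qc_pullback (redSubι Yc) N₀, isFiniteType_pullback (redSubι Yc) N₀ hN₀.2⟩
  have hηM₀ : genericPoint (redSub Yc) ∈
      CohB1.support ((Scheme.Modules.pullback (redSubι Yc)).obj N₀) := by
    by_contra h
    have h1 := Groth.Agent.H1.Chev.notMem_support_pushforward (redSubι Yc) _ _ h
    apply h1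
    have h2 := support_eq_of_iso
      (asIso ((Scheme.Modules.pullbackPushforwardAdjunction (redSubι Yc)).unit.app N₀))
    exact h2 ▸ hξN
  obtain ⟨r, I, ι, ψ, V, hι, hI, hcop, hψ, hηV, hLι, hLψ⟩ := exists_ideal_coprod_generic _ hM₀
  haveI := hι
  haveI := hψ
  haveI := hLψ
  have hnz : ¬ IsZero (∐ fun _ : Fin r => I) := by
    intro hz
    have hz2 : IsZero ((Scheme.Modules.restrictFunctor V.ι).obj (∐ fun _ : Fin r => I)) :=
      Functor.map_isZero _ hz
    have hz3 : IsZero ((Scheme.Modules.restrictFunctor V.ι).obj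
        ((Scheme.Modules.pullback (redSubι Yc)).obj N₀)) :=
      IsZero.of_iso hz2 (asIso ((Scheme.Modules.restrictFunctor V.ι).map ψ)).symm
    have hd := support_disjoint_of_isZero_restrict V.ι hz3
    exact Set.disjoint_left.mp hd (by rw [Scheme.Opens.range_ι]; exact hηV) hηM₀
  have hr : 0 < r := by
    by_contra hn
    have h0 : r = 0 := by omega
    subst h0
    exact hnz (isZero_sigma_fin_zero I)
  have hI0 : ¬ IsZero I := fun hz => hnz (isZero_sigma_of_isZero I hz r)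
  haveI : Mono ((Scheme.Modules.pushforward (redSubι Yc)).map
      (Limits.Sigma.ι (fun _ : Fin r => I) ⟨0, hr⟩ ≫ ψ)) := inferInstance
  refine ⟨(Scheme.Modules.pushforward (redSubι Yc)).obj I,
    (Scheme.Modules.pushforward (redSubι Yc)).map
        (Limits.Sigma.ι (fun _ : Fin r => I) ⟨0, hr⟩ ≫ ψ) ≫
      inv ((Scheme.Modules.pullbackPushforwardAdjunction (redSubι Yc)).unit.app N₀) ≫ ν,
    ?_, isCoh_push _ I hI, fun hz => hI0 (isZero_of_isZero_pushforward (redSubι Yc) I hz), ?_⟩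
  · haveI : Mono (inv ((Scheme.Modules.pullbackPushforwardAdjunction
        (redSubι Yc)).unit.app N₀) ≫ ν) := mono_comp _ _
    exact mono_comp _ _
  -- the property `P` for `i_* I`
  by_cases hYZ₀ : Y = Z₀
  swap
  · exact h₃ (redSub Yc) (redSubι Yc) inferInstance hint (by rw [hrange]; exact hYZ)
      (by rw [hrange]; exact hYZ₀) I ι hι hI.1
  have hξeq : redSubι Yc (genericPoint (redSub Yc)) = ξ := by
    have e1 : IsGenericPoint (redSubι Yc (genericPoint (redSub Yc))) Z₀ := by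
      rw [← hYZ₀]; exact hcl
    have e2 : IsGenericPoint ξ Z₀ := hξ.2
    exact e1.eq e2
  subst hξeq
  refine P_push_ideal_of_test (redSubι Yc) P hP h₁ h₂ ?_ G hG (by rw [hGs]; exact hξ.1) hGann ?_
    I ι hI V hηV hLι
  · intro M hM hs hη
    exact IH M hM (hrange ▸ hs) (fun h => hη (h ▸ hξY))
  · intro J hJ
    obtain ⟨G', ι', e1, e2, e3, e4⟩ := hG4 J hJ
    exact ⟨G', ι', e1, e2, (ConcreteCategory.isIso_iff_bijective _).mp e3, e4⟩

end Main

end Groth.Agent.LD.DF
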