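import Groth.Agent.Lib.Lead.DF.Ext
import Groth.Agent.Lib.Lead.QC.LocFree2
import Groth.Agent.Lib.Lead.QC.Coh

/-! # Generic freeness of coherent modules on an integral locally Noetherian scheme -/

set_option autoImplicit false
universe u
open CategoryTheory Limits Opposite AlgebraicGeometry TopologicalSpace

namespace Groth.Agent.LD.DF
open Groth.Agent.LD.QC

variable {Z : Scheme.{u}}

theorem flat_of_isField {R M : Type*} [CommRing R] [AddCommGroup M] [Module R M]
    (h : IsField R) : Module.Flat R M := by
  letI := h.toField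
  infer_instance

theorem isZero_freeMod_zero (V : Scheme.{u}) : IsZero (FlatMod.freeMod V 0) := by
  rw [IsZero.iff_id_eq_zero]
  apply Limits.Sigma.hom_ext
  intro b
  exact b.elim0

/-- a coherent module on an integral locally Noetherian scheme whose support contains the
generic point is free of positive rank on a nonempty open. -/
theorem exists_restrict_iso_freeMod [IsIntegral Z] [IsLocallyNoetherian Z] (M : Z.Modules)
    (hM : Coh.IsCoh M) (hη : genericPoint Z ∈ CohB1.support M) :
    ∃ (V : Z.Opens) (n : ℕ), genericPoint Z ∈ V ∧ 1 ≤ n ∧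
      Nonempty ((FlatMod.freeMod Z n).restrict V.ι ≅ M.restrict V.ι) := by
  have hfp := isFinitePresentation_of_qc_ft M hM.1 hM.2
  obtain ⟨V, n, hV, ⟨e⟩⟩ := exists_restrict_iso_freeMod_of_flat_stalk M hfp (genericPoint Z) (by
    exact flat_of_isField (Field.toIsField Z.functionField))
  refine ⟨V, n, hV, ?_, ⟨restrictFreeModIso V.ι n ≪≫ e.symm⟩⟩
  by_contra hn
  have hn0 : n = 0 := by omega
  subst hn0
  have hz : IsZero ((Scheme.Modules.restrictFunctor V.ι).obj M) :=
    IsZero.of_iso (isZero_freeMod_zero V) e
  have hd := support_disjoint_of_isZero_restrict V.ι hz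
  exact Set.disjoint_left.mp hd ⟨⟨genericPoint Z, hV⟩, rfl⟩ hη

end Groth.Agent.LD.DF
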