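import Groth.Agent.Lib.Lead.DF.Deligne
import Groth.Agent.Lib.Lead.DF.Dev
import Groth.Agent.Lib.Lead.QC.SigmaFin

/-! # Coherent modules killed by the ideal of an integral closed subscheme are, near the generic
point, direct images of sums of copies of an ideal sheaf (Stacks 01YE) -/

set_option autoImplicit false
universe u
open CategoryTheory Limits Opposite AlgebraicGeometry TopologicalSpace

namespace Groth.Agent.LD.DF
open Groth.Agent.LD.QC

/-- a functor preserving the relevant coproducts maps a coproduct of morphisms which it inverts to an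
isomorphism. -/
theorem isIso_map_sigmaMap {C D : Type*} [Category C] [Category D] (G : C ⥤ D) {β : Type*}
    (f g : β → C) [HasCoproduct f] [HasCoproduct g] [HasCoproduct fun b => G.obj (f b)]
    [HasCoproduct fun b => G.obj (g b)] [PreservesColimit (Discrete.functor f) G]
    [PreservesColimit (Discrete.functor g) G] (p : ∀ b, f b ⟶ g b) [∀ b, IsIso (G.map (p b))] :
    IsIso (G.map (Limits.Sigma.map p)) := by
  have key : sigmaComparison G f ≫ G.map (Limits.Sigma.map p) =
      Limits.Sigma.map (fun b => G.map (p b)) ≫ sigmaComparison G g := by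
    apply Limits.Sigma.hom_ext
    intro b
    rw [ι_comp_sigmaComparison_assoc, ← G.map_comp, Limits.Sigma.ι_map, Limits.Sigma.ι_map_assoc,
      ι_comp_sigmaComparison, G.map_comp]
  haveI : IsIso (Limits.Sigma.map (fun b => G.map (p b))) :=
    ⟨Limits.Sigma.map (fun b => inv (G.map (p b))),
      by apply Limits.Sigma.hom_ext; intro b; simp,
      by apply Limits.Sigma.hom_ext; intro b; simp⟩
  haveI : IsIso (sigmaComparison G f ≫ G.map (Limits.Sigma.map p)) := by
    rw [key]; infer_instance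
  exact IsIso.of_isIso_comp_left (sigmaComparison G f) _

section General
variable {X : Scheme.{u}}

theorem isZero_sigma_fin_zero (M : X.Modules) : IsZero (∐ fun _ : Fin 0 => M) := by
  rw [IsZero.iff_id_eq_zero]
  apply Limits.Sigma.hom_ext
  intro b
  exact b.elim0

theorem isZero_sigma_of_isZero (M : X.Modules) (hM : IsZero M) (r : ℕ) :
    IsZero (∐ fun _ : Fin r => M) := by
  rw [IsZero.iff_id_eq_zero]
  apply Limits.Sigma.hom_ext
  intro b
  exact hM.eq_of_src _ _

theorem mono_sigmaMap_fin {I J : X.Modules} (ι : I ⟶ J) [Mono ι] (r : ℕ) :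
    Mono (Limits.Sigma.map (fun _ : Fin r => ι)) := by
  haveI : HasFiniteBiproducts X.Modules := Abelian.hasFiniteBiproducts
  infer_instance

/-- finite sums of copies of an ideal sheaf are coherent. -/
theorem isCoh_sigma_of_mono [IsLocallyNoetherian X] {I : X.Modules}
    (ι : I ⟶ Coh.structureModule X) [Mono ι] (hI : I.IsQuasicoherent) (r : ℕ) :
    Coh.IsCoh (∐ fun _ : Fin r => I) := by
  haveI := hI
  haveI := mono_sigmaMap_fin ι r
  exact isCoh_of_mono (Limits.Sigma.map (fun _ : Fin r => ι)) (qc_sigma_fin I r) (isCoh_freeMod X r)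

/-- restricting to a smaller open preserves being an isomorphism. -/
theorem isIso_restrict_of_le {A B : X.Modules} (g : A ⟶ B) {U U' : X.Opens} (h : U' ≤ U)
    (hU : IsIso ((Scheme.Modules.restrictFunctor U.ι).map g)) :
    IsIso ((Scheme.Modules.restrictFunctor U'.ι).map g) := by
  obtain ⟨h1, h2⟩ := support_disjoint_of_isIso_restrict U.ι g hU
  have hr : Set.range U'.ι ⊆ Set.range U.ι := by
    rw [Scheme.Opens.range_ι, Scheme.Opens.range_ι]; exact h
  exact isIso_restrict_of_support U'.ι g (h1.mono_left hr) (h2.mono_left hr)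

/-- the product `I^(c+n) G` lies in `I^c (I^n G)`. -/
theorem exists_idealMul_pow_add (I : X.IdealSheafData) (G : X.Modules) [G.IsQuasicoherent]
    (c n : ℕ) :
    ∃ σ : (Dual3.idealMul (I ^ (c + n))).obj G ⟶
        (Dual3.idealMul (I ^ c)).obj ((Dual3.idealMul (I ^ n)).obj G),
      σ ≫ Dual3.idealMulι (I ^ c) ((Dual3.idealMul (I ^ n)).obj G) ≫ Dual3.idealMulι (I ^ n) G =
        Dual3.idealMulι (I ^ (c + n)) G := by
  have hG : G.IsQuasicoherent := inferInstance
  haveI hT : ((Dual3.idealMul (I ^ n)).obj G).IsQuasicoherent := qc_idealMul (I ^ n) G hG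
  refine exists_lift_of_affine_range_le (Dual3.idealMulι (I ^ (c + n)) G)
    (Dual3.idealMulι (I ^ c) ((Dual3.idealMul (I ^ n)).obj G) ≫ Dual3.idealMulι (I ^ n) G)
    (qc_idealMul _ G hG) (qc_idealMul _ _ hT) hG ?_
  intro x
  obtain ⟨W, hW, hxW, -⟩ := exists_isAffineOpen_mem_and_subset (x := x) (U := ⊤) trivial
  refine ⟨W, hW, hxW, fun s => ?_⟩
  have hy : (Dual3.idealMulι (I ^ (c + n)) G).app W s ∈
      (I.ideal ⟨W, hW⟩ ^ (c + n)) • (⊤ : Submodule Γ(X, W) Γ(G, W)) :=
    (mem_range_idealMulι_iff (I ^ (c + n)) G ⟨W, hW⟩ _).mp ⟨s, rfl⟩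
  have hr := range_idealMulι (I ^ n) G ⟨W, hW⟩
  have h3 : (Dual3.idealMulι (I ^ (c + n)) G).app W s ∈
      Submodule.map (appLinear (Dual3.idealMulι (I ^ n) G) W)
        ((I.ideal ⟨W, hW⟩ ^ c) •
          (⊤ : Submodule Γ(X, W) Γ((Dual3.idealMul (I ^ n)).obj G, W))) := by
    rw [Submodule.map_smul'', Submodule.map_top, hr]
    rw [pow_add, mul_smul] at hy
    exact hy
  obtain ⟨p, hp, hpy⟩ := h3
  obtain ⟨t, ht⟩ := (mem_range_idealMulι_iff (I ^ c) _ ⟨W, hW⟩ p).mpr hp
  refine ⟨t, ?_⟩
  rw [comp_app_apply, ht]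
  exact hpy

/-- the submodule `K^m F` of a coherent module `F` is killed by `J`, where `K` is the radical ideal
of the support of `J F`. -/
theorem exists_idealMul_killed [IsNoetherian X] (J : X.IdealSheafData) (F : X.Modules)
    (hF : Coh.IsCoh F) :
    ∃ (K : X.IdealSheafData) (m : ℕ),
      (K.support : Set X) = CohB1.support ((Dual3.idealMul J).obj F) ∧
      ∀ (U : X.affineOpens) (a : Γ(X, U.1)), a ∈ J.ideal U →
        ∀ s : Γ((Dual3.idealMul (K ^ m)).obj F, U.1), a • s = 0 := by
  haveI := hF.1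
  have hJF : Coh.IsCoh ((Dual3.idealMul J).obj F) := isCoh_idealMul J F hF
  haveI := hJF.1
  obtain ⟨K, hKs⟩ : ∃ K : X.IdealSheafData,
      (K.support : Set X) = CohB1.support ((Dual3.idealMul J).obj F) :=
    ⟨Scheme.IdealSheafData.vanishingIdeal
      ⟨CohB1.support ((Dual3.idealMul J).obj F), isClosed_support_of_isCoh hJF⟩,
      Scheme.IdealSheafData.coe_support_vanishingIdeal _⟩
  obtain ⟨m, hm⟩ := exists_isZero_idealMul_pow K hJF (by rw [hKs])
  refine ⟨K, m, hKs, ?_⟩
  intro U a ha s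
  apply idealMulι_app_injective (K ^ m) F U.1
  rw [map_zero, Scheme.Modules.Hom.app_smul]
  have h1 : (Dual3.idealMulι (K ^ m) F).app U.1 s ∈
      (K.ideal U ^ m) • (⊤ : Submodule Γ(X, U.1) Γ(F, U.1)) :=
    (mem_range_idealMulι_iff (K ^ m) F U _).mp ⟨s, rfl⟩
  refine Submodule.smul_induction_on h1 ?_ ?_
  · intro b hb z _
    rw [smul_comm a b z]
    obtain ⟨w, hw⟩ := (mem_range_idealMulι_iff J F U (a • z)).mpr
      (Submodule.smul_mem_smul ha Submodule.mem_top)
    rw [← hw, ← Scheme.Modules.Hom.app_smul]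
    have h2 : b • w ∈ (K.ideal U ^ m) •
        (⊤ : Submodule Γ(X, U.1) Γ((Dual3.idealMul J).obj F, U.1)) :=
      Submodule.smul_mem_smul hb Submodule.mem_top
    obtain ⟨v, hv⟩ := (mem_range_idealMulι_iff (K ^ m) ((Dual3.idealMul J).obj F) U (b • w)).mpr h2
    rw [← hv, section_eq_zero_of_isZero (hm m le_rfl) v, map_zero, map_zero]
  · intro y₁ y₂ h1 h2
    rw [smul_add, h1, h2, add_zero]

/-- direct images along a closed immersion of morphisms which are isomorphisms near a point
are isomorphisms near the image point. -/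
theorem exists_open_isIso_push [IsLocallyNoetherian X] {Z : Scheme.{u}} (i : Z ⟶ X)
    [IsClosedImmersion i] {A B : Z.Modules} (hA : Coh.IsCoh A) (hB : Coh.IsCoh B) (g : A ⟶ B)
    (V : Z.Opens) (z : Z) (hz : z ∈ V)
    (hg : IsIso ((Scheme.Modules.restrictFunctor V.ι).map g)) :
    ∃ U : X.Opens, i z ∈ U ∧
      IsIso ((Scheme.Modules.restrictFunctor U.ι).map ((Scheme.Modules.pushforward i).map g)) := by
  obtain ⟨h1, h2⟩ := support_disjoint_of_isIso_restrict V.ι g hg
  have hzr : z ∈ Set.range V.ι := by rw [Scheme.Opens.range_ι]; exact hz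
  have hz1 : z ∉ CohB1.support (kernel g) := fun h => Set.disjoint_left.mp h1 hzr h
  have hz2 : z ∉ CohB1.support (cokernel g) := fun h => Set.disjoint_left.mp h2 hzr h
  have hpA := isCoh_push i A hA
  have hpB := isCoh_push i B hB
  have hk : Coh.IsCoh (kernel ((Scheme.Modules.pushforward i).map g)) :=
    isCoh_kernel _ hpA hpB
  have hc : Coh.IsCoh (cokernel ((Scheme.Modules.pushforward i).map g)) :=
    isCoh_cokernel _ hpA hpB
  have hx1 : i z ∉ CohB1.support (kernel ((Scheme.Modules.pushforward i).map g)) := by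
    rw [← support_eq_of_iso (PreservesKernel.iso (Scheme.Modules.pushforward i) g)]
    exact Groth.Agent.H1.Chev.notMem_support_pushforward i _ z hz1
  have hx2 : i z ∉ CohB1.support (cokernel ((Scheme.Modules.pushforward i).map g)) := by
    rw [← support_eq_of_iso (PreservesCokernel.iso (Scheme.Modules.pushforward i) g)]
    exact Groth.Agent.H1.Chev.notMem_support_pushforward i _ z hz2
  refine ⟨⟨(CohB1.support (kernel ((Scheme.Modules.pushforward i).map g)) ∪
      CohB1.support (cokernel ((Scheme.Modules.pushforward i).map g)))ᶜ,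
    ((isClosed_support_of_isCoh hk).union (isClosed_support_of_isCoh hc)).isOpen_compl⟩, ?_, ?_⟩
  · exact fun h => h.elim hx1 hx2
  · apply isIso_restrict_of_support
    · rw [Scheme.Opens.range_ι]
      exact Set.disjoint_left.mpr (fun y hy hy' => hy (Or.inl hy'))
    · rw [Scheme.Opens.range_ι]
      exact Set.disjoint_left.mpr (fun y hy hy' => hy (Or.inr hy'))

end General

section Integral
variable {Z : Scheme.{u}}

/-- generic freeness, without hypothesis on the support. -/
theorem exists_restrict_iso_freeMod' [IsIntegral Z] [IsLocallyNoetherian Z] (M : Z.Modules)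
    (hM : Coh.IsCoh M) :
    ∃ (V : Z.Opens) (n : ℕ), genericPoint Z ∈ V ∧
      Nonempty ((FlatMod.freeMod Z n).restrict V.ι ≅ M.restrict V.ι) := by
  have hfp := isFinitePresentation_of_qc_ft M hM.1 hM.2
  obtain ⟨V, n, hV, ⟨e⟩⟩ := exists_restrict_iso_freeMod_of_flat_stalk M hfp (genericPoint Z) (by
    exact flat_of_isField (Field.toIsField Z.functionField))
  exact ⟨V, n, hV, ⟨restrictFreeModIso V.ι n ≪≫ e.symm⟩⟩

/-- **Stacks 01YE on an integral scheme**: a coherent module on an integral Noetherian scheme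
contains a finite sum of copies of a coherent ideal sheaf, with equality near the generic point. -/
theorem exists_ideal_coprod_generic [IsIntegral Z] [IsNoetherian Z] (G : Z.Modules)
    (hG : Coh.IsCoh G) :
    ∃ (r : ℕ) (I : Z.Modules) (ι : I ⟶ Coh.structureModule Z)
      (ψ : (∐ fun _ : Fin r => I) ⟶ G) (V : Z.Opens),
      Mono ι ∧ Coh.IsCoh I ∧ Coh.IsCoh (∐ fun _ : Fin r => I) ∧ Mono ψ ∧ genericPoint Z ∈ V ∧
      IsIso ((Scheme.Modules.restrictFunctor V.ι).map ι) ∧
      IsIso ((Scheme.Modules.restrictFunctor V.ι).map ψ) := by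
  obtain ⟨V, n, hηV, ⟨e⟩⟩ := exists_restrict_iso_freeMod' G hG
  haveI : Mono e.hom := inferInstance
  obtain ⟨A', a', φ', ha', hA', hLa', hφ'm, hφ'⟩ :=
    exists_sub_extension_mono V.ι (FlatMod.freeMod Z n) G (isCoh_freeMod Z n) hG.1 e.hom
  haveI := ha'
  haveI := hφ'm
  haveI := hLa'
  have hC : Coh.IsCoh (cokernel a') := isCoh_cokernel a' hA' (isCoh_freeMod Z n)
  have hsC : CohB1.support (cokernel a') ⊆ ((complIdeal V.ι).support : Set Z) :=
    subset_support_complIdeal_of_disjoint V.ι (support_disjoint_of_isIso_restrict V.ι a' hLa').2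
  obtain ⟨m, hm⟩ := exists_isZero_idealMul_pow (complIdeal V.ι) hC hsC
  have hz := hm m le_rfl
  obtain ⟨I, ι, hι, hI, hLι, hkill⟩ : ∃ (I : Z.Modules) (ι : I ⟶ Coh.structureModule Z),
      Mono ι ∧ Coh.IsCoh I ∧ IsIso ((Scheme.Modules.restrictFunctor V.ι).map ι) ∧
      ∀ g : Coh.structureModule Z ⟶ cokernel a', ι ≫ g = 0 :=
    ⟨_, Dual3.idealMulι ((complIdeal V.ι) ^ m) (Coh.structureModule Z), inferInstance,
      isCoh_idealMul _ _ (isCoh_structureModule Z),
      isIso_restrict_idealMulι _ V.ι _ (disjoint_range_support_complIdeal_pow V.ι m),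
      fun g => idealMulι_comp_eq_zero_of_isZero _ g hz⟩
  haveI := hι
  haveI := hLι
  haveI := hI.1
  have h0 : Limits.Sigma.map (fun _ : Fin n => ι) ≫ cokernel.π a' = 0 := by
    apply Limits.Sigma.hom_ext
    intro k
    rw [Limits.Sigma.ι_map_assoc, comp_zero]
    exact hkill _
  have hσ : Abelian.monoLift a' (Limits.Sigma.map (fun _ : Fin n => ι)) h0 ≫ a' =
      Limits.Sigma.map (fun _ : Fin n => ι) := Abelian.monoLift_comp a' _ h0
  haveI : Mono (Limits.Sigma.map (fun _ : Fin n => ι)) := mono_sigmaMap_fin ι n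
  haveI : Mono (Abelian.monoLift a' (Limits.Sigma.map (fun _ : Fin n => ι)) h0) :=
    mono_of_mono_fac hσ
  haveI hLγ : IsIso ((Scheme.Modules.restrictFunctor V.ι).map
      (Limits.Sigma.map (fun _ : Fin n => ι))) :=
    isIso_map_sigmaMap (Scheme.Modules.restrictFunctor V.ι) _ _ (fun _ : Fin n => ι)
  haveI hLσ : IsIso ((Scheme.Modules.restrictFunctor V.ι).map
      (Abelian.monoLift a' (Limits.Sigma.map (fun _ : Fin n => ι)) h0)) := by
    haveI : IsIso ((Scheme.Modules.restrictFunctor V.ι).map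
        (Abelian.monoLift a' (Limits.Sigma.map (fun _ : Fin n => ι)) h0) ≫
        (Scheme.Modules.restrictFunctor V.ι).map a') := by
      rw [← Functor.map_comp, hσ]; exact hLγ
    exact IsIso.of_isIso_comp_right _ ((Scheme.Modules.restrictFunctor V.ι).map a')
  haveI hLφ' : IsIso ((Scheme.Modules.restrictFunctor V.ι).map φ') := by
    rw [hφ']; infer_instance
  refine ⟨n, I, ι, Abelian.monoLift a' (Limits.Sigma.map (fun _ : Fin n => ι)) h0 ≫ φ', V,
    hι, hI, isCoh_sigma_of_mono ι hI.1 n, mono_comp _ _, hηV, hLι, ?_⟩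
  rw [Functor.map_comp]; infer_instance

end Integral

section Main
variable {X Z : Scheme.{u}}

/-- the stalk of `J F` at a point of `V(J)` vanishes if the stalk of `F` is killed by the maximal
ideal. -/
theorem notMem_support_idealMul_of_stalk_ann (J : X.IdealSheafData) (F : X.Modules)
    [F.IsQuasicoherent] (x : X) (hx : x ∈ J.support)
    (hann : ∀ a ∈ IsLocalRing.maximalIdeal (X.presheaf.stalk x),
      ∀ m : ↑(F.presheaf.stalk x), a • m = 0) :
    x ∉ CohB1.support ((Dual3.idealMul J).obj F) := by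
  intro hmem
  apply hmem
  apply subsingleton_of_forall_eq_zero
  intro y
  obtain ⟨W', hxW', t, rfl⟩ :=
    TopCat.Presheaf.exists_germ_eq ((Dual3.idealMul J).obj F).presheaf y
  obtain ⟨W, hW, hxW, hWW''⟩ := exists_isAffineOpen_mem_and_subset (x := x) (U := W') hxW'
  have hWW' : W ≤ W' := fun y hy => hWW'' hy
  rw [← germ_res ((Dual3.idealMul J).obj F) x hWW' hxW t]
  have hinj := stalkMap_injective_of_mono (Dual3.idealMulι J F) x
  rw [injective_iff_map_eq_zero] at hinj
  apply hinj
  rw [stalkMap_germ]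
  have hmemW : (Dual3.idealMulι J F).app W
      (((Dual3.idealMul J).obj F).presheaf.map (homOfLE hWW').op t) ∈
      (J.ideal ⟨W, hW⟩) • (⊤ : Submodule Γ(X, W) Γ(F, W)) :=
    (mem_range_idealMulι_iff J F ⟨W, hW⟩ _).mp ⟨_, rfl⟩
  refine Submodule.smul_induction_on hmemW ?_ ?_
  · intro a ha s _
    rw [germ_smul]
    refine hann _ ?_ _
    rw [IsLocalRing.mem_maximalIdeal, mem_nonunits_iff]
    intro hunit
    have hb : x ∈ X.basicOpen a := (X.mem_basicOpen a x hxW).mpr hunit
    have hzl : x ∈ X.zeroLocus (U := W) (J.ideal ⟨W, hW⟩) :=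
      (Scheme.IdealSheafData.mem_support_iff_of_mem (I := J) (U := ⟨W, hW⟩) hxW).mp hx
    exact (X.mem_zeroLocus_iff _ x).mp hzl a ha hb
  · intro s₁ s₂ h1 h2
    rw [map_add, h1, h2]
    exact add_zero _

/-- **Stacks 01YE**: a coherent module whose stalk at the generic point `ξ` of an integral closed
subscheme `i : Z → X` is killed by the maximal ideal contains `i_* (I^{⊕ r})`, with equality near
`ξ`, for a coherent ideal sheaf `I ⊆ O_Z` which is the unit ideal near the generic point. -/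
theorem exists_push_ideal_coprod [IsNoetherian X] (i : Z ⟶ X) [IsClosedImmersion i]
    [IsIntegral Z] (F : X.Modules) (hF : Coh.IsCoh F)
    (hann : ∀ a ∈ IsLocalRing.maximalIdeal (X.presheaf.stalk (i (genericPoint Z))),
      ∀ m : ↑(F.presheaf.stalk (i (genericPoint Z))), a • m = 0) :
    ∃ (r : ℕ) (I : Z.Modules) (ι : I ⟶ Coh.structureModule Z)
      (φ : (Scheme.Modules.pushforward i).obj (∐ fun _ : Fin r => I) ⟶ F)
      (U : X.Opens) (V : Z.Opens),
      Mono ι ∧ Coh.IsCoh I ∧ Mono φ ∧ i (genericPoint Z) ∈ U ∧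
      IsIso ((Scheme.Modules.restrictFunctor U.ι).map φ) ∧ genericPoint Z ∈ V ∧
      IsIso ((Scheme.Modules.restrictFunctor V.ι).map ι) := by
  haveI := hF.1
  haveI : IsLocallyNoetherian Z := LocallyOfFiniteType.isLocallyNoetherian i
  haveI : CompactSpace Z := QuasiCompact.compactSpace_of_compactSpace i
  haveI : IsNoetherian Z := {}
  have hξJ : i (genericPoint Z) ∈ i.ker.support := i.range_subset_ker_support ⟨_, rfl⟩
  have hξ := notMem_support_idealMul_of_stalk_ann i.ker F _ hξJ hann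
  obtain ⟨K, m, hKs, hkill⟩ := exists_idealMul_killed i.ker F hF
  have hF' : Coh.IsCoh ((Dual3.idealMul (K ^ m)).obj F) := isCoh_idealMul (K ^ m) F hF
  haveI := hF'.1
  haveI hunit : IsIso ((Scheme.Modules.pullbackPushforwardAdjunction i).unit.app
      ((Dual3.idealMul (K ^ m)).obj F)) := by
    rw [isIso_unit_closedImmersion_iff]
    exact hkill
  have hG : Coh.IsCoh ((Scheme.Modules.pullback i).obj ((Dual3.idealMul (K ^ m)).obj F)) :=
    ⟨qc_pullback i _, isFiniteType_pullback i _ hF'.2⟩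
  obtain ⟨r, I, ι, ψ, V, hι, hI, hcop, hψ, hηV, hLι, hLψ⟩ := exists_ideal_coprod_generic _ hG
  haveI := hι
  haveI := hψ
  obtain ⟨U₁, hξU₁, hU₁⟩ := exists_open_isIso_push i hcop hG ψ V (genericPoint Z) hηV hLψ
  obtain ⟨U₂, hU₂⟩ : ∃ U₂ : X.Opens, (U₂ : Set X) = (K.support : Set X)ᶜ :=
    ⟨⟨(K.support : Set X)ᶜ, K.support.isClosed.isOpen_compl⟩, rfl⟩
  have hξU₂ : i (genericPoint Z) ∈ U₂ := by
    rw [← SetLike.mem_coe, hU₂, hKs]
    exact hξ
  have hLU₂ : IsIso ((Scheme.Modules.restrictFunctor U₂.ι).map (Dual3.idealMulι (K ^ m) F)) :=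
    isIso_restrict_idealMulι (K ^ m) U₂.ι F (by
      rw [Scheme.Opens.range_ι, hU₂]
      exact (disjoint_compl_left).mono_right (support_pow_subset K m))
  haveI : Mono ((Scheme.Modules.pushforward i).map ψ) := inferInstance
  refine ⟨r, I, ι, (Scheme.Modules.pushforward i).map ψ ≫
      inv ((Scheme.Modules.pullbackPushforwardAdjunction i).unit.app
        ((Dual3.idealMul (K ^ m)).obj F)) ≫ Dual3.idealMulι (K ^ m) F,
    U₁ ⊓ U₂, V, hι, hI, ?_, ⟨hξU₁, hξU₂⟩, ?_, hηV, hLι⟩
  · haveI : Mono (inv ((Scheme.Modules.pullbackPushforwardAdjunction i).unit.app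
        ((Dual3.idealMul (K ^ m)).obj F)) ≫ Dual3.idealMulι (K ^ m) F) := mono_comp _ _
    exact mono_comp _ _
  · haveI := isIso_restrict_of_le _ (inf_le_left : U₁ ⊓ U₂ ≤ U₁) hU₁
    haveI := isIso_restrict_of_le _ (inf_le_right : U₁ ⊓ U₂ ≤ U₂) hLU₂
    rw [Functor.map_comp, Functor.map_comp]
    infer_instance

end Main

end Groth.Agent.LD.DF
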