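import Groth.Agent.Lib.Lead.DF.KDevAbs
import Groth.Agent.Lib.Lead.DF.AR
import Groth.Agent.Lib.Lead.CI.UnitStalk
import Groth.Agent.Lib.Lead.QC.EpiLocal

/-! # Dévissage for `K₀` of coherent modules: nilpotent thickenings

For a surjective closed immersion `i : X' ⟶ X` into a Noetherian scheme, `i_*` induces a
bijection `K₀(Coh X') → K₀(Coh X)`. -/

set_option autoImplicit false
universe u
open CategoryTheory Limits Opposite AlgebraicGeometry TopologicalSpace
open scoped ZeroObject

namespace Groth.Agent.LD.DF.KDev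
open Groth.Agent.LD.QC Groth.Agent.LD.DF Groth.Agent.H2.KThick Groth.Agent.LD.DF.KLoc

variable {X : Scheme.{u}}

theorem comp_app_apply' {A B D : X.Modules} (f : A ⟶ B) (g : B ⟶ D) (W : X.Opens)
    (s : Γ(A, W)) : (f ≫ g).app W s = g.app W (f.app W s) := rfl

/-- `J` annihilates the sections of `M` over affine opens. -/
def Killed (J : X.IdealSheafData) (M : X.Modules) : Prop :=
  ∀ (W : X.affineOpens) (a : Γ(X, W.1)), a ∈ J.ideal W → ∀ s : Γ(M, W.1), a • s = 0

variable {J : X.IdealSheafData}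

theorem killed_of_le {J' : X.IdealSheafData} (h : ∀ W : X.affineOpens, J'.ideal W ≤ J.ideal W)
    {M : X.Modules} (hM : Killed J M) : Killed J' M :=
  fun W a ha s => hM W a (h W ha) s

theorem killed_pow_of_le (I : X.IdealSheafData) {m n : ℕ} (h : m ≤ n) {M : X.Modules}
    (hM : Killed (I ^ m) M) : Killed (I ^ n) M :=
  killed_of_le (fun W => by
    rw [ideal_pow_apply, ideal_pow_apply]
    exact Ideal.pow_le_pow_right h) hM

theorem killed_of_mono {A B : X.Modules} (f : A ⟶ B) [Mono f] (h : Killed J B) :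
    Killed J A := by
  intro W a ha s
  apply mono_app f W.1
  rw [Scheme.Modules.Hom.app_smul, h W a ha, map_zero]

theorem killed_of_epi {A B : X.Modules} (f : A ⟶ B) [Epi f] (hA : A.IsQuasicoherent)
    (hB : B.IsQuasicoherent) (h : Killed J A) : Killed J B := by
  intro W a ha s
  obtain ⟨t, rfl⟩ := epi_app_affine hA hB f W.2 s
  rw [← Scheme.Modules.Hom.app_smul, h W a ha, map_zero]

theorem eq_zero_of_mem_smul_top {M : X.Modules} (h : Killed J M) (W : X.affineOpens)
    (s : Γ(M, W.1)) (hs : s ∈ (J.ideal W) • (⊤ : Submodule Γ(X, W.1) Γ(M, W.1))) : s = 0 :=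
  Submodule.smul_induction_on hs (fun a ha x _ => h W a ha x)
    (fun x y hx hy => by rw [hx, hy, add_zero])

theorem isZero_idealMul_of_killed {M : X.Modules} (hM : M.IsQuasicoherent) (h : Killed J M) :
    IsZero ((Dual3.idealMul J).obj M) := by
  haveI := hM
  haveI := qc_idealMul J M hM
  apply isZero_of_affine_cover
  intro x
  obtain ⟨U, hU, hxU, -⟩ := exists_isAffineOpen_mem_and_subset (x := x) (U := ⊤) trivial
  refine ⟨U, hU, hxU, fun t => ?_⟩
  apply idealMulι_app_injective J M U
  rw [map_zero]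
  exact eq_zero_of_mem_smul_top h ⟨U, hU⟩ _
    ((mem_range_idealMulι_iff J M ⟨U, hU⟩ _).mp ⟨t, rfl⟩)

/-- `M ↦ J · M` preserves epimorphisms of quasi-coherent modules. -/
theorem epi_idealMul_map (J : X.IdealSheafData) {A B : X.Modules} (f : A ⟶ B) [Epi f]
    (hA : A.IsQuasicoherent) (hB : B.IsQuasicoherent) : Epi ((Dual3.idealMul J).map f) := by
  haveI := hA
  haveI := hB
  apply epi_of_local_lift
  intro U t x hx
  obtain ⟨W, hW, hxW, hWU⟩ := exists_isAffineOpen_mem_and_subset hx
  have hWU' : W ≤ U := hWU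
  refine ⟨W, hWU', hxW, ?_⟩
  obtain ⟨t', ht'⟩ : ∃ t' : Γ((Dual3.idealMul J).obj B, W),
      t' = ((Dual3.idealMul J).obj B).presheaf.map (homOfLE hWU').op t := ⟨_, rfl⟩
  rw [← ht']
  have h1 : (Dual3.idealMulι J B).app W t' ∈
      (J.ideal ⟨W, hW⟩) • (⊤ : Submodule Γ(X, W) Γ(B, W)) :=
    (mem_range_idealMulι_iff J B ⟨W, hW⟩ _).mp ⟨t', rfl⟩
  have hsurj : Function.Surjective (appLinear f W) := epi_app_affine hA hB f hW
  have h2 : (J.ideal ⟨W, hW⟩) • (⊤ : Submodule Γ(X, W) Γ(B, W)) =
      Submodule.map (appLinear f W)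
        ((J.ideal ⟨W, hW⟩) • (⊤ : Submodule Γ(X, W) Γ(A, W))) := by
    rw [Submodule.map_smul'', Submodule.map_top, LinearMap.range_eq_top.mpr hsurj]
  rw [h2] at h1
  obtain ⟨y, hy, hfy⟩ := h1
  obtain ⟨g, hg⟩ := (mem_range_idealMulι_iff J A ⟨W, hW⟩ y).mpr hy
  refine ⟨g, ?_⟩
  apply idealMulι_app_injective J B W
  rw [← comp_app_apply', Dual3.idealMul_map_ι, comp_app_apply', hg]
  exact hfy

theorem killed_idealMul_pow (I : X.IdealSheafData) {k : ℕ} (hk : 1 ≤ k) {M : X.Modules}
    (hM : M.IsQuasicoherent) (h : Killed (I ^ (k + 1)) M) :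
    Killed (I ^ k) ((Dual3.idealMul (I ^ k)).obj M) := by
  haveI := hM
  intro W a ha s
  apply idealMulι_app_injective (I ^ k) M W.1
  rw [map_zero, Scheme.Modules.Hom.app_smul]
  apply eq_zero_of_mem_smul_top h W
  have h1 : (Dual3.idealMulι (I ^ k) M).app W.1 s ∈
      ((I ^ k).ideal W) • (⊤ : Submodule Γ(X, W.1) Γ(M, W.1)) :=
    (mem_range_idealMulι_iff (I ^ k) M W _).mp ⟨s, rfl⟩
  have h2 : a • (Dual3.idealMulι (I ^ k) M).app W.1 s ∈
      ((I ^ k).ideal W * (I ^ k).ideal W) • (⊤ : Submodule Γ(X, W.1) Γ(M, W.1)) := by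
    rw [Submodule.mul_smul]
    exact Submodule.smul_mem_smul ha h1
  refine Submodule.smul_mono_left ?_ h2
  rw [ideal_pow_apply, ideal_pow_apply, ← pow_add]
  exact Ideal.pow_le_pow_right (by omega)

theorem killed_cokernel_idealMulι (J : X.IdealSheafData) {M : X.Modules}
    (hM : M.IsQuasicoherent) : Killed J (cokernel (Dual3.idealMulι J M)) := by
  haveI := hM
  have hqc : ((Dual3.idealMul J).obj M).IsQuasicoherent := qc_idealMul J M hM
  have hC : (cokernel (Dual3.idealMulι J M)).IsQuasicoherent := qc_cokernel _ hqc hM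
  intro W a ha s
  obtain ⟨t, rfl⟩ := epi_app_affine hM hC (cokernel.π (Dual3.idealMulι J M)) W.2 s
  rw [← Scheme.Modules.Hom.app_smul]
  obtain ⟨u, hu⟩ := (mem_range_idealMulι_iff J M W (a • t)).mpr
    (Submodule.smul_mem_smul ha Submodule.mem_top)
  rw [← hu, ← comp_app_apply', cokernel.condition]
  rfl

/-- on a Noetherian scheme, an ideal with full support is nilpotent. -/
theorem exists_killed_all [IsNoetherian X] (I : X.IdealSheafData)
    (hI : (I.support : Set X) = Set.univ) : ∃ N : ℕ, ∀ M : X.Modules, Killed (I ^ N) M := by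
  obtain ⟨n₀, hn₀⟩ := exists_isZero_idealMul_pow I (isCoh_structureModule X)
    (by rw [hI]; exact Set.subset_univ _)
  refine ⟨n₀, fun M W a ha s => ?_⟩
  have hz := hn₀ n₀ le_rfl
  haveI : (Coh.structureModule X).IsQuasicoherent := (isCoh_structureModule X).1
  have e : a • (show Γ(Coh.structureModule X, W.1) from (1 : Γ(X, W.1))) =
      (show Γ(Coh.structureModule X, W.1) from a) := mul_one a
  have h1 : (show Γ(Coh.structureModule X, W.1) from a) ∈
      ((I ^ n₀).ideal W) • (⊤ : Submodule Γ(X, W.1) Γ(Coh.structureModule X, W.1)) := by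
    rw [← e]
    exact Submodule.smul_mem_smul ha Submodule.mem_top
  obtain ⟨t, ht⟩ := (mem_range_idealMulι_iff (I ^ n₀) (Coh.structureModule X) W _).mpr h1
  have ht0 : t = 0 := section_eq_zero_of_isZero hz t
  have ha0 : a = 0 := by
    rw [ht0, map_zero] at ht
    exact ht.symm
  rw [ha0, zero_smul]

/-- coherent modules killed by `I^k`. -/
abbrev Pk (I : X.IdealSheafData) (k : ℕ) : ObjectProperty X.Modules :=
  fun M => Coh.IsCoh M ∧ Killed (I ^ k) M

theorem pk_iso (I : X.IdealSheafData) (k : ℕ) : (Pk I k).IsClosedUnderIsomorphisms :=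
  ⟨fun e h => ⟨isCoh_of_iso e h.1, killed_of_mono e.inv h.2⟩⟩

theorem pk_zero [IsLocallyNoetherian X] (I : X.IdealSheafData) (k : ℕ) :
    (Pk I k).ContainsZero :=
  ⟨⟨0, isZero_zero _, isCoh_of_isZero (isCoh_structureModule X) (isZero_zero _),
    fun _ _ _ _ => section_eq_zero_of_isZero (isZero_zero _) _⟩⟩

attribute [local instance] pk_iso pk_zero pc_iso pc_zero

/-- the dévissage step `K₀(killed by I^(k+1)) ≅ K₀(killed by I^(k+2))`. -/
theorem bijective_mapSub_step [IsLocallyNoetherian X] (I : X.IdealSheafData) (k : ℕ)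
    (hle : ∀ M, Pk I (k + 1) M → Pk I (k + 1 + 1) M) :
    Function.Bijective (SGA6.mapSub (𝟭 X.Modules) (Pk I (k + 1)) (Pk I (k + 1 + 1)) hle) := by
  refine bijective_mapSub_id (Pk I (k + 1)) (Pk I (k + 1 + 1)) hle (PC X)
    (fun M h => h.1) (fun M h => h.1)
    (fun f hA hB => isCoh_kernel f hA hB) (fun f hA hB => isCoh_cokernel f hA hB)
    (fun f hf rA pB => by
      haveI := hf
      exact ⟨rA, killed_of_mono f pB.2⟩)
    (fun f hf rB pA => by
      haveI := hf
      exact ⟨rB, killed_of_epi f pA.1.1 rB.1 pA.2⟩)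
    (Dual3.idealMul (I ^ (k + 1)))
    { app := fun F => Dual3.idealMulι (I ^ (k + 1)) F
      naturality := fun F G φ => Dual3.idealMul_map_ι (I ^ (k + 1)) φ }
    (fun M _ => Dual3.mono_idealMulι (I ^ (k + 1)) M)
    (fun f hf qA qB => by
      haveI := hf
      exact epi_idealMul_map (I ^ (k + 1)) f qA.1.1 qB.1.1)
    (fun M hM => ⟨isCoh_idealMul (I ^ (k + 1)) M hM.1,
      killed_idealMul_pow I (by omega) hM.1.1 hM.2⟩)
    (fun M hM => ⟨isCoh_cokernel _ (isCoh_idealMul (I ^ (k + 1)) M hM.1) hM.1,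
      killed_cokernel_idealMulι (I ^ (k + 1)) hM.1.1⟩)
    (fun M hM => isZero_idealMul_of_killed hM.1.1 hM.2)

section Closed

variable {X' : Scheme.{u}} (i : X' ⟶ X) [IsClosedImmersion i]

theorem isIso_unit_push (N : X'.Modules) :
    IsIso ((Scheme.Modules.pullbackPushforwardAdjunction i).unit.app
      ((Scheme.Modules.pushforward i).obj N)) := by
  haveI := Groth.Agent.LD.CI.isIso_counit i N
  have htri := (Scheme.Modules.pullbackPushforwardAdjunction i).right_triangle_components N
  haveI : IsIso ((Scheme.Modules.pullbackPushforwardAdjunction i).unit.app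
      ((Scheme.Modules.pushforward i).obj N) ≫ (Scheme.Modules.pushforward i).map
        ((Scheme.Modules.pullbackPushforwardAdjunction i).counit.app N)) := by
    rw [htri]
    infer_instance
  exact IsIso.of_isIso_comp_right _ ((Scheme.Modules.pushforward i).map
    ((Scheme.Modules.pullbackPushforwardAdjunction i).counit.app N))

theorem killed_push (N : X'.Modules)
    (hq : ((Scheme.Modules.pushforward i).obj N).IsQuasicoherent) :
    Killed (i.ker ^ 1) ((Scheme.Modules.pushforward i).obj N) := by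
  haveI := hq
  have h := (isIso_unit_closedImmersion_iff i _).mp (isIso_unit_push i N)
  intro W a ha s
  rw [pow_one] at ha
  exact h W a ha s

theorem isIso_unit_of_pk_one {M : X.Modules} (h : Pk i.ker 1 M) :
    IsIso ((Scheme.Modules.pullbackPushforwardAdjunction i).unit.app M) := by
  haveI := h.1.1
  rw [isIso_unit_closedImmersion_iff]
  intro U a ha s
  exact h.2 U a (by rw [pow_one]; exact ha) s

variable [(Scheme.Modules.pushforward i).Additive]
  [PreservesFiniteLimits (Scheme.Modules.pushforward i)]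
  [PreservesFiniteColimits (Scheme.Modules.pushforward i)]

/-- `K₀(Coh X') ≅ K₀(coherent modules killed by the ideal of X')`. -/
theorem bijective_mapSub_push_one [IsLocallyNoetherian X]
    (h1 : ∀ N : X'.Modules, Coh.IsCoh N → Pk i.ker 1 ((Scheme.Modules.pushforward i).obj N)) :
    Function.Bijective
      (SGA6.mapSub (Scheme.Modules.pushforward i) (PC X') (Pk i.ker 1) h1) := by
  haveI : IsLocallyNoetherian X' := LocallyOfFiniteType.isLocallyNoetherian i
  haveI := Groth.Agent.H7.ClImmMod.faithful_pushforward i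
  have hpb : ∀ M : X.Modules, Coh.IsCoh M → Coh.IsCoh ((Scheme.Modules.pullback i).obj M) := by
    intro M hM
    haveI := hM.1
    exact ⟨qc_pullback i M, isFiniteType_pullback i M hM.2⟩
  have hadd : ∀ (S : ShortComplex X.Modules) (p₁ : Pk i.ker 1 S.X₁) (p₂ : Pk i.ker 1 S.X₂)
      (p₃ : Pk i.ker 1 S.X₃), S.ShortExact →
      KZero.clSub (PC X') ((Scheme.Modules.pullback i).obj S.X₂) =
        KZero.clSub (PC X') ((Scheme.Modules.pullback i).obj S.X₁) +
          KZero.clSub (PC X') ((Scheme.Modules.pullback i).obj S.X₃) := by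
    intro S p₁ p₂ p₃ hS
    have e : S ≅ (S.map (Scheme.Modules.pullback i)).map (Scheme.Modules.pushforward i) :=
      ShortComplex.isoMk
        (@asIso _ _ _ _ ((Scheme.Modules.pullbackPushforwardAdjunction i).unit.app S.X₁)
          (isIso_unit_of_pk_one i p₁))
        (@asIso _ _ _ _ ((Scheme.Modules.pullbackPushforwardAdjunction i).unit.app S.X₂)
          (isIso_unit_of_pk_one i p₂))
        (@asIso _ _ _ _ ((Scheme.Modules.pullbackPushforwardAdjunction i).unit.app S.X₃)
          (isIso_unit_of_pk_one i p₃))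
        ((Scheme.Modules.pullbackPushforwardAdjunction i).unit.naturality S.f).symm
        ((Scheme.Modules.pullbackPushforwardAdjunction i).unit.naturality S.g).symm
    have hS' : (S.map (Scheme.Modules.pullback i)).ShortExact :=
      CategoryTheory.ShortExact.reflects_shortExact_of_faithful (Scheme.Modules.pushforward i)
        (ShortComplex.shortExact_of_iso e hS)
    exact cl_ses (PC X') _ hS' (hpb _ p₁.1) (hpb _ p₂.1) (hpb _ p₃.1)
  obtain ⟨ψ, hψ⟩ : ∃ ψ : KZero.K0sub (Pk i.ker 1) →+ KZero.K0sub (PC X'),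
      ∀ (M : X.Modules) (_ : Pk i.ker 1 M),
        ψ (KZero.clSub (Pk i.ker 1) M) = KZero.clSub (PC X') ((Scheme.Modules.pullback i).obj M) :=
    ⟨liftK (Pk i.ker 1) (fun M => KZero.clSub (PC X') ((Scheme.Modules.pullback i).obj M.1))
      (fun S p₁ p₂ p₃ hS => hadd S p₁ p₂ p₃ hS), fun M hM => liftK_cl _ _ _ M hM⟩
  have hleft : ∀ x, ψ (SGA6.mapSub (Scheme.Modules.pushforward i) (PC X') (Pk i.ker 1) h1 x) =
      x := by
    intro x
    have hx : x ∈ AddMonoidHom.eqLocus
        (ψ.comp (SGA6.mapSub (Scheme.Modules.pushforward i) (PC X') (Pk i.ker 1) h1))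
        (AddMonoidHom.id _) := by
      refine mem_of_forall_cl (PC X') _ (fun N hN => ?_) x
      change ψ (SGA6.mapSub (Scheme.Modules.pushforward i) (PC X') (Pk i.ker 1) h1
        (KZero.clSub (PC X') N)) = KZero.clSub (PC X') N
      rw [mapSub_clSub _ _ _ h1 N hN, hψ _ (h1 N hN)]
      exact cl_iso (PC X')
        (@asIso _ _ _ _ ((Scheme.Modules.pullbackPushforwardAdjunction i).counit.app N)
          (Groth.Agent.LD.CI.isIso_counit i N))
        (hpb _ (h1 N hN).1)
    exact hx
  have hright : ∀ y, SGA6.mapSub (Scheme.Modules.pushforward i) (PC X') (Pk i.ker 1) h1 (ψ y) =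
      y := by
    intro y
    have hy : y ∈ AddMonoidHom.eqLocus
        ((SGA6.mapSub (Scheme.Modules.pushforward i) (PC X') (Pk i.ker 1) h1).comp ψ)
        (AddMonoidHom.id _) := by
      refine mem_of_forall_cl (Pk i.ker 1) _ (fun M hM => ?_) y
      change SGA6.mapSub (Scheme.Modules.pushforward i) (PC X') (Pk i.ker 1) h1
        (ψ (KZero.clSub (Pk i.ker 1) M)) = KZero.clSub (Pk i.ker 1) M
      rw [hψ M hM, mapSub_clSub _ _ _ h1 _ (hpb M hM.1)]
      exact (cl_iso (Pk i.ker 1)
        (@asIso _ _ _ _ ((Scheme.Modules.pullbackPushforwardAdjunction i).unit.app M)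
          (isIso_unit_of_pk_one i hM)) hM).symm
    exact hy
  exact ⟨Function.LeftInverse.injective hleft, Function.RightInverse.surjective hright⟩

/-- **dévissage**: `K₀(Coh X') ≅ K₀(Coh X)` for a surjective closed immersion into a Noetherian
scheme. -/
theorem main [IsNoetherian X] [Surjective i]
    (hi : ∀ M : X'.Modules, Coh.IsCoh M → Coh.IsCoh ((Scheme.Modules.pushforward i).obj M)) :
    Function.Bijective (SGA6.mapSub (Scheme.Modules.pushforward i)
      (fun M : X'.Modules => Coh.IsCoh M) (fun M : X.Modules => Coh.IsCoh M) hi) := by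
  have hI : (i.ker.support : Set X) = Set.univ := by
    rw [Scheme.Hom.support_ker, i.surjective.range_eq, closure_univ]
  obtain ⟨N, hN⟩ := exists_killed_all i.ker hI
  have hpush : ∀ (k : ℕ) (M : X'.Modules), Coh.IsCoh M →
      Pk i.ker (k + 1) ((Scheme.Modules.pushforward i).obj M) := fun k M hM =>
    ⟨hi M hM, killed_pow_of_le i.ker (by omega) (killed_push i M (hi M hM).1)⟩
  have hall : ∀ k : ℕ, Function.Bijective
      (SGA6.mapSub (Scheme.Modules.pushforward i) (PC X') (Pk i.ker (k + 1)) (hpush k)) := by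
    intro k
    induction k with
    | zero => exact bijective_mapSub_push_one i (hpush 0)
    | succ k ih =>
      have hle : ∀ M, Pk i.ker (k + 1) M → Pk i.ker (k + 1 + 1) M := fun M h =>
        ⟨h.1, killed_pow_of_le i.ker (by omega) h.2⟩
      have hstep := bijective_mapSub_step i.ker k hle
      have hcomp : ⇑(SGA6.mapSub (Scheme.Modules.pushforward i) (PC X') (Pk i.ker (k + 1 + 1))
          (hpush (k + 1))) =
          ⇑(SGA6.mapSub (𝟭 X.Modules) (Pk i.ker (k + 1)) (Pk i.ker (k + 1 + 1)) hle) ∘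
            ⇑(SGA6.mapSub (Scheme.Modules.pushforward i) (PC X') (Pk i.ker (k + 1))
              (hpush k)) :=
        funext fun x => (mapSub_id_mapSub (Scheme.Modules.pushforward i) (PC X')
          (Pk i.ker (k + 1)) (Pk i.ker (k + 1 + 1)) (hpush k) hle (hpush (k + 1)) x).symm
      rw [hcomp]
      exact hstep.comp ih
  have hQR : ∀ M, Pk i.ker (N + 1) M → PC X M := fun M h => h.1
  have hRQ : ∀ M, PC X M → Pk i.ker (N + 1) M := fun M h =>
    ⟨h, killed_pow_of_le i.ker (by omega) (hN M)⟩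
  have hfin := bijective_mapSub_id_of_iff (Pk i.ker (N + 1)) (PC X) hQR hRQ
  have hcomp : ⇑(SGA6.mapSub (Scheme.Modules.pushforward i) (PC X') (PC X) hi) =
      ⇑(SGA6.mapSub (𝟭 X.Modules) (Pk i.ker (N + 1)) (PC X) hQR) ∘
        ⇑(SGA6.mapSub (Scheme.Modules.pushforward i) (PC X') (Pk i.ker (N + 1)) (hpush N)) :=
    funext fun x => (mapSub_id_mapSub (Scheme.Modules.pushforward i) (PC X')
      (Pk i.ker (N + 1)) (PC X) (hpush N) hQR hi x).symm
  change Function.Bijective ⇑(SGA6.mapSub (Scheme.Modules.pushforward i) (PC X') (PC X) hi)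
  rw [hcomp]
  exact hfin.comp (hall N)

end Closed

end Groth.Agent.LD.DF.KDev
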