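import Groth.Agent.Lib.Lead.DF.KLoc
import Groth.Agent.Lib.Lead.DF.IdealCoprod
import Groth.Agent.Lib.Lead.DF.Push
import Groth.Agent.H4.RT4

/-! # `[V] ⊗ − − r` is nilpotent on `K₀(Coh X)` for `V` finite locally free of rank `r`

The proof filters `K₀(Coh X)` by the subgroups `G U` generated by the classes of the coherent modules
vanishing over an open `U`; if `V` is free of rank `r` over `U'`, then `[V] ⊗ − − r` maps `G U` into
`G (U ⊔ U')`.  A finite trivialising cover finishes the argument. -/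

set_option autoImplicit false
universe u
open CategoryTheory Limits Opposite AlgebraicGeometry TopologicalSpace
open scoped ZeroObject

namespace Groth.Agent.LD.DF.KNil
open Groth.Agent.LD.QC Groth.Agent.LD.DF Groth.Agent.H2.KThick Groth.Agent.LD.DF.KLoc

variable {X : Scheme.{u}}

/-- `M^(n+1) ≅ M ⊕ M^n`. -/
noncomputable def sigmaSuccIso (M : X.Modules) (n : ℕ) :
    (∐ fun _ : Fin (n + 1) => M) ≅ M ⊞ (∐ fun _ : Fin n => M) :=
  IsColimit.coconePointUniqueUpToIso
      (colimit.isColimit (Discrete.functor fun _ : Fin (n + 1) => M))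
      (extendCofanIsColimit (fun _ : Fin (n + 1) => M)
        (colimit.isColimit (Discrete.functor fun _ : Fin n => M))
        (colimit.isColimit (pair M (∐ fun _ : Fin n => M)))) ≪≫
    (biprod.isoCoprod M (∐ fun _ : Fin n => M)).symm

set_option backward.isDefEq.respectTransparency false in
/-- the symmetry of the tensor product, typed through the bifunctor. -/
noncomputable def commB (A B : X.Modules) :
    ((DCoh.tensorBi (X := X)).obj A).obj B ≅ ((DCoh.tensorBi (X := X)).obj B).obj A :=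
  tensorCommAll A B

/-- `O^r ⊗ N ≅ N^r`. -/
noncomputable def freeTensorIso (N : X.Modules) (r : ℕ) :
    ((DCoh.tensorBi (X := X)).obj (FlatMod.freeMod X r)).obj N ≅ ∐ fun _ : Fin r => N :=
  commB (FlatMod.freeMod X r) N ≪≫
    PreservesCoproduct.iso ((DCoh.tensorBi (X := X)).obj N)
      (fun _ : Fin r => Coh.structureModule X) ≪≫
    Limits.Sigma.mapIso (fun _ => Groth.Agent.H4.RT4.unitorR' N)

/-- over a trivialising open, `V ⊗ M` is `M^r`. -/
noncomputable def trivIso {U : X.Opens} (V M : X.Modules) (r : ℕ)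
    (e : V.restrict U.ι ≅ FlatMod.freeMod (↑U) r) :
    (Scheme.Modules.restrictFunctor U.ι).obj (((DCoh.tensorBi (X := X)).obj V).obj M) ≅
      (Scheme.Modules.restrictFunctor U.ι).obj (∐ fun _ : Fin r => M) :=
  (Groth.Agent.H4.RT1.ρIso U.ι V M).symm ≪≫
    ((DCoh.tensorBi (X := (U : Scheme.{u}))).mapIso e).app _ ≪≫
    freeTensorIso ((Scheme.Modules.restrictFunctor U.ι).obj M) r ≪≫
    (PreservesCoproduct.iso (Scheme.Modules.restrictFunctor U.ι) (fun _ : Fin r => M)).symm

/-- vanishing over an open. -/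
def Van (U : X.Opens) (Q : X.Modules) : Prop :=
  IsZero ((Scheme.Modules.restrictFunctor U.ι).obj Q)

theorem van_of_mono {U : X.Opens} {A B : X.Modules} (i : A ⟶ B) [Mono i] (h : Van U B) :
    Van U A :=
  IsZero.of_mono ((Scheme.Modules.restrictFunctor U.ι).map i) h

theorem van_of_epi {U : X.Opens} {A B : X.Modules} (p : A ⟶ B) [Epi p] (h : Van U A) :
    Van U B :=
  IsZero.of_epi ((Scheme.Modules.restrictFunctor U.ι).map p) h

theorem van_sup {S U : X.Opens} {Q : X.Modules} (hS : Van S Q) (hU : Van U Q) :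
    Van (S ⊔ U) Q := by
  have h1 := support_disjoint_of_isZero_restrict S.ι hS
  have h2 := support_disjoint_of_isZero_restrict U.ι hU
  rw [Scheme.Opens.range_ι] at h1 h2
  apply isZero_restrict_of_support
  rw [Scheme.Opens.range_ι, Opens.coe_sup]
  exact Set.disjoint_union_left.2 ⟨h1, h2⟩

theorem van_bot (Q : X.Modules) : Van (⊥ : X.Opens) Q := by
  apply isZero_restrict_of_support
  rw [Scheme.Opens.range_ι, Opens.coe_bot]
  exact Set.empty_disjoint _

theorem isZero_of_van_top {Q : X.Modules} (h : Van (⊤ : X.Opens) Q) : IsZero Q := by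
  have h1 := support_disjoint_of_isZero_restrict (⊤ : X.Opens).ι h
  rw [Scheme.Opens.range_ι, Opens.coe_top, Set.univ_disjoint] at h1
  exact isZero_of_support_eq_empty h1

theorem van_tensor (S : X.Opens) (V M : X.Modules) (h : Van S M) :
    Van S (((DCoh.tensorBi (X := X)).obj V).obj M) :=
  IsZero.of_iso (((DCoh.tensorBi (X := (S : Scheme.{u}))).obj _).map_isZero h)
    (Groth.Agent.H4.RT1.ρIso S.ι V M).symm

theorem van_sigma (S : X.Opens) (M : X.Modules) (r : ℕ) (h : Van S M) :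
    Van S (∐ fun _ : Fin r => M) :=
  IsZero.of_iso (isZero_sigma_of_isZero _ h r)
    (PreservesCoproduct.iso (Scheme.Modules.restrictFunctor S.ι) (fun _ : Fin r => M))

attribute [local instance] pc_iso pc_zero pc_ker

/-- finite powers of a coherent module are coherent, with class `r [M]`. -/
theorem pw_coh_cl [IsLocallyNoetherian X] (M : X.Modules) (hM : Coh.IsCoh M) : ∀ r : ℕ,
    Coh.IsCoh (∐ fun _ : Fin r => M) ∧
      KZero.clSub (PC X) (∐ fun _ : Fin r => M) = r • KZero.clSub (PC X) M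
  | 0 => ⟨isCoh_of_isZero hM (isZero_sigma_fin_zero M), by
      rw [cl_zero (PC X) (isZero_sigma_fin_zero M), zero_smul]⟩
  | r + 1 => by
    obtain ⟨h1, h2⟩ := pw_coh_cl M hM r
    have hS : (ShortComplex.mk (biprod.inl : M ⟶ M ⊞ ∐ fun _ : Fin r => M) biprod.snd
        (by simp)).ShortExact :=
      (ShortComplex.Splitting.ofHasBinaryBiproduct M (∐ fun _ : Fin r => M)).shortExact
    have hB : Coh.IsCoh (M ⊞ ∐ fun _ : Fin r => M) := isCoh_of_shortExact _ hS hM h1
    have hC : Coh.IsCoh (∐ fun _ : Fin (r + 1) => M) :=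
      isCoh_of_iso (sigmaSuccIso M r).symm hB
    refine ⟨hC, ?_⟩
    rw [cl_iso (PC X) (sigmaSuccIso M r) hC, cl_ses (PC X) _ hS hM hB h1, h2, succ_nsmul,
      add_comm]

variable [IsNoetherian X]

/-- the subgroup generated by the classes of the coherent modules vanishing on `U`. -/
noncomputable def G (U : X.Opens) : AddSubgroup (KZero.K0sub (PC X)) :=
  AddSubgroup.closure
    {x | ∃ Q : X.Modules, Coh.IsCoh Q ∧ Van U Q ∧ x = KZero.clSub (PC X) Q}

theorem G_top : G (⊤ : X.Opens) = ⊥ := by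
  refine le_bot_iff.1 ((AddSubgroup.closure_le _).2 ?_)
  rintro x ⟨Q, hQ, hQv, rfl⟩
  rw [cl_zero (PC X) (isZero_of_van_top hQv)]
  exact AddSubgroup.zero_mem _

omit [AlgebraicGeometry.IsNoetherian X] in
theorem mem_G_bot (y : KZero.K0sub (PC X)) : y ∈ G (⊥ : X.Opens) :=
  mem_of_forall_cl (PC X) (G ⊥)
    (fun M hM => AddSubgroup.subset_closure ⟨M, hM, van_bot M, rfl⟩) y

section Step

variable (S U : X.Opens) (R : AddSubgroup (KZero.K0sub (PC X)))
  (hR : ∀ Q : X.Modules, Coh.IsCoh Q → Van S Q → Van U Q → KZero.clSub (PC X) Q ∈ R)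

include hR in
/-- a morphism of coherent modules vanishing over `S` which is an isomorphism over `U` identifies
the classes modulo the classes of the modules vanishing over `S` and `U`. -/
theorem mk_cl_eq_of_isIso {A B : X.Modules} (hA : Coh.IsCoh A) (hB : Coh.IsCoh B)
    (hAS : Van S A) (hBS : Van S B) (g : A ⟶ B)
    (hg : IsIso ((Scheme.Modules.restrictFunctor U.ι).map g)) :
    QuotientAddGroup.mk' R (KZero.clSub (PC X) A) =
      QuotientAddGroup.mk' R (KZero.clSub (PC X) B) := by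
  obtain ⟨hk, hc⟩ := support_disjoint_of_isIso_restrict U.ι g hg
  have hK := isCoh_kernel g hA hB
  have hC := isCoh_cokernel g hA hB
  have hI := isCoh_kernel (cokernel.π g) hB hC
  have e1 : KZero.clSub (PC X) A =
      KZero.clSub (PC X) (kernel g) + KZero.clSub (PC X) (kernel (cokernel.π g)) :=
    cl_exact (PC X) (ShortComplex.mk g (cokernel.π g) (cokernel.condition g))
      (ShortComplex.exact_cokernel g) hA hB hC
  have e2 : KZero.clSub (PC X) B =
      KZero.clSub (PC X) (kernel (cokernel.π g)) + KZero.clSub (PC X) (cokernel g) :=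
    cl_ses (PC X) (ShortComplex.mk (kernel.ι (cokernel.π g)) (cokernel.π g)
      (kernel.condition _))
      { exact := ShortComplex.exact_kernel (cokernel.π g)
        mono_f := by dsimp; infer_instance
        epi_g := by dsimp; infer_instance } hI hB hC
  have z1 : QuotientAddGroup.mk' R (KZero.clSub (PC X) (kernel g)) = 0 :=
    (QuotientAddGroup.eq_zero_iff _).2
      (hR _ hK (van_of_mono (kernel.ι g) hAS) (isZero_restrict_of_support U.ι hk))
  have z2 : QuotientAddGroup.mk' R (KZero.clSub (PC X) (cokernel g)) = 0 :=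
    (QuotientAddGroup.eq_zero_iff _).2
      (hR _ hC (van_of_epi (cokernel.π g) hBS) (isZero_restrict_of_support U.ι hc))
  rw [e1, e2, map_add, map_add, z1, z2, zero_add, add_zero]

include hR in
/-- coherent modules vanishing over `S` which are isomorphic over `U` have the same class modulo
`R`. -/
theorem mk_cl_eq_of_iso {M₁ M₂ : X.Modules} (h₁ : Coh.IsCoh M₁) (h₂ : Coh.IsCoh M₂)
    (hS₁ : Van S M₁) (hS₂ : Van S M₂)
    (e : (Scheme.Modules.restrictFunctor U.ι).obj M₁ ≅
      (Scheme.Modules.restrictFunctor U.ι).obj M₂) :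
    QuotientAddGroup.mk' R (KZero.clSub (PC X) M₁) =
      QuotientAddGroup.mk' R (KZero.clSub (PC X) M₂) := by
  obtain ⟨A', ι, φ', hι, hA', hιiso, hφ'⟩ := exists_sub_extension U.ι M₁ M₂ h₁ h₂.1 e.hom
  haveI := hιiso
  haveI := hι
  have hφiso : IsIso ((Scheme.Modules.restrictFunctor U.ι).map φ') := by
    rw [hφ']
    infer_instance
  have hA'S : Van S A' := van_of_mono ι hS₁
  rw [← mk_cl_eq_of_isIso S U R hR hA' h₁ hA'S hS₁ ι hιiso,
    mk_cl_eq_of_isIso S U R hR hA' h₂ hA'S hS₂ φ' hφiso]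

end Step

/-- the key step on classes. -/
theorem step_cl (S U : X.Opens) (V : X.Modules) (r : ℕ)
    (e : V.restrict U.ι ≅ FlatMod.freeMod (↑U) r)
    (hVc : ∀ M : X.Modules, Coh.IsCoh M → Coh.IsCoh (((DCoh.tensorBi (X := X)).obj V).obj M))
    (M : X.Modules) (hM : Coh.IsCoh M) (hMS : Van S M) :
    KZero.clSub (PC X) (((DCoh.tensorBi (X := X)).obj V).obj M) - r • KZero.clSub (PC X) M ∈
      G (S ⊔ U) := by
  obtain ⟨hP, hPcl⟩ := pw_coh_cl M hM r
  have hR : ∀ Q : X.Modules, Coh.IsCoh Q → Van S Q → Van U Q →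
      KZero.clSub (PC X) Q ∈ G (S ⊔ U) :=
    fun Q hQ h1 h2 => AddSubgroup.subset_closure ⟨Q, hQ, van_sup h1 h2, rfl⟩
  have h := mk_cl_eq_of_iso S U (G (S ⊔ U)) hR (hVc M hM) hP (van_tensor S V M hMS)
    (van_sigma S M r hMS) (trivIso V M r e)
  rw [← hPcl]
  have h0 : QuotientAddGroup.mk' (G (S ⊔ U))
      (KZero.clSub (PC X) (((DCoh.tensorBi (X := X)).obj V).obj M) -
        KZero.clSub (PC X) (∐ fun _ : Fin r => M)) = 0 := by
    rw [map_sub, h, sub_self]
  exact (QuotientAddGroup.eq_zero_iff _).1 h0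

/-- **S17876**: `[V] ⊗ − − r` is nilpotent on `K₀(Coh W)`. -/
theorem main {W : Scheme.{u}} [IsNoetherian W] (r : ℕ) (V : W.Modules)
    (hV : FlatMod.IsFinLocFreeOfRank r V)
    [((DCoh.tensorBi (X := W)).obj V).Additive]
    [PreservesFiniteLimits ((DCoh.tensorBi (X := W)).obj V)]
    [PreservesFiniteColimits ((DCoh.tensorBi (X := W)).obj V)]
    (hVc : ∀ M : W.Modules, Coh.IsCoh M →
      Coh.IsCoh (((DCoh.tensorBi (X := W)).obj V).obj M)) :
    ∃ n : ℕ, ∀ y : SGA6.Kcoh W,
      (⇑(SGA6.mapSub ((DCoh.tensorBi (X := W)).obj V) (fun M : W.Modules => Coh.IsCoh M)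
        (fun M : W.Modules => Coh.IsCoh M) hVc -
        r • AddMonoidHom.id (SGA6.Kcoh W)))^[n] y = 0 := by
  classical
  choose Uo hxU hiso using hV
  obtain ⟨t, ht⟩ := CompactSpace.elim_nhds_subcover (fun x => (Uo x : Set W))
    (fun x => (Uo x).isOpen.mem_nhds (hxU x))
  obtain ⟨T, hT⟩ : ∃ T : SGA6.Kcoh W →+ SGA6.Kcoh W,
      T = SGA6.mapSub ((DCoh.tensorBi (X := W)).obj V) (fun M : W.Modules => Coh.IsCoh M)
        (fun M : W.Modules => Coh.IsCoh M) hVc - r • AddMonoidHom.id (SGA6.Kcoh W) := ⟨_, rfl⟩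
  rw [← hT]
  have hTcl : ∀ (M : W.Modules) (hM : Coh.IsCoh M), T (KZero.clSub (PC W) M) =
      KZero.clSub (PC W) (((DCoh.tensorBi (X := W)).obj V).obj M) -
        r • KZero.clSub (PC W) M := by
    intro M hM
    rw [hT, AddMonoidHom.sub_apply, mapSub_clSub _ _ _ hVc M hM, AddMonoidHom.nsmul_apply,
      AddMonoidHom.id_apply]
  have hstep : ∀ (S : W.Opens) (a : W) (y : SGA6.Kcoh W), y ∈ G S → T y ∈ G (S ⊔ Uo a) := by
    intro S a y hy
    have hle : G S ≤ (G (S ⊔ Uo a)).comap T := by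
      rw [G, AddSubgroup.closure_le]
      rintro x ⟨Q, hQ, hQS, rfl⟩
      show T (KZero.clSub (PC W) Q) ∈ G (S ⊔ Uo a)
      rw [hTcl Q hQ]
      exact step_cl S (Uo a) V r (hiso a).some hVc Q hQ hQS
    exact hle hy
  have key : ∀ s : Finset W, ∃ n : ℕ, ∀ y, T^[n] y ∈ G (s.sup Uo) := by
    intro s
    induction s using Finset.induction_on with
    | empty => exact ⟨0, fun y => by rw [Finset.sup_empty]; exact mem_G_bot _⟩
    | insert a s _ ih =>
      obtain ⟨n, hn⟩ := ih
      refine ⟨n + 1, fun y => ?_⟩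
      rw [Function.iterate_succ_apply', Finset.sup_insert, sup_comm]
      exact hstep _ a _ (hn y)
  obtain ⟨n, hn⟩ := key t
  refine ⟨n, fun y => ?_⟩
  have htop : t.sup Uo = ⊤ := by
    refine top_le_iff.1 (fun x _ => ?_)
    have hx : x ∈ ⋃ i ∈ t, (Uo i : Set W) := by
      rw [ht]
      trivial
    obtain ⟨i, hi, hxi⟩ := Set.mem_iUnion₂.1 hx
    exact (Finset.le_sup (f := Uo) hi) hxi
  have h := hn y
  rw [htop, G_top] at h
  exact (AddSubgroup.mem_bot).1 h

end Groth.Agent.LD.DF.KNil
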