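import Groth.Agent.Lib.Lead.DF.Sec
import Groth.Agent.Lib.Lead.QC.FinType
import Groth.Agent.Lib.Lead.QC.StalkNbhd
import Groth.Agent.Lib.Lead.QC.Iso
import Groth.Agent.Lib.Lead.QC.Stalk

/-! # Krull's intersection theorem for coherent modules: the global sections of `F` lying in
`I^n F` for all `n` are those vanishing near `V(I)` -/

set_option autoImplicit false
universe u
open CategoryTheory Limits Opposite AlgebraicGeometry TopologicalSpace

namespace Groth.Agent.LD.DF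
open Groth.Agent.LD.QC

variable {X : Scheme.{u}} (I : X.IdealSheafData) (F : X.Modules)

/-- restricting a section of `I^n F` to an affine open. -/
theorem res_mem_pow_smul_top [F.IsQuasicoherent] (s : Γ(F, ⊤)) (n : ℕ)
    (h : ∃ t : Γ((Dual3.idealMul (I ^ n)).obj F, ⊤), (Dual3.idealMulι (I ^ n) F).app ⊤ t = s)
    (W : X.affineOpens) :
    F.presheaf.map (homOfLE (le_top : W.1 ≤ ⊤)).op s ∈
      (I.ideal W ^ n) • (⊤ : Submodule Γ(X, W.1) Γ(F, W.1)) := by
  obtain ⟨t, ht⟩ := h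
  refine (mem_range_idealMulι_iff (I ^ n) F W _).mp
    ⟨((Dual3.idealMul (I ^ n)).obj F).presheaf.map (homOfLE (le_top : W.1 ≤ ⊤)).op t, ?_⟩
  rw [app_res, ht]

/-- a global section of a coherent module lying in `I^n F` for all `n` vanishes near `V(I)`. -/
theorem exists_open_res_eq_zero_of_forall_pow [IsLocallyNoetherian X] (hF : Coh.IsCoh F)
    (s : Γ(F, ⊤))
    (h : ∀ n : ℕ, ∃ t : Γ((Dual3.idealMul (I ^ n)).obj F, ⊤),
      (Dual3.idealMulι (I ^ n) F).app ⊤ t = s) :
    ∃ V : X.Opens, (I.support : Set X) ⊆ (V : Set X) ∧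
      F.presheaf.map (homOfLE (le_top : V ≤ ⊤)).op s = 0 := by
  classical
  haveI := hF.1
  have key : ∀ W : X.affineOpens, ∃ r : Γ(X, W.1), r ∈ I.ideal W ∧
      r • F.presheaf.map (homOfLE (le_top : W.1 ≤ ⊤)).op s =
        F.presheaf.map (homOfLE (le_top : W.1 ≤ ⊤)).op s := by
    intro W
    haveI : IsNoetherianRing Γ(X, W.1) := IsLocallyNoetherian.component_noetherian W
    haveI : Module.Finite Γ(X, W.1) Γ(F, W.1) := finite_sections_of_isFiniteType F hF.2 W.2
    have hmem : F.presheaf.map (homOfLE (le_top : W.1 ≤ ⊤)).op s ∈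
        (⨅ i : ℕ, (I.ideal W) ^ i • ⊤ : Submodule Γ(X, W.1) Γ(F, W.1)) := by
      rw [Submodule.mem_iInf]
      intro n
      exact res_mem_pow_smul_top I F s n (h n) W
    obtain ⟨r, hr⟩ := (Ideal.mem_iInf_smul_pow_eq_bot_iff (I.ideal W) _).mp hmem
    exact ⟨r.1, r.2, hr⟩
  choose r hrI hrs using key
  refine ⟨⨆ W : X.affineOpens, X.basicOpen (1 - r W), ?_, ?_⟩
  · intro x hx
    obtain ⟨W, hW, hxW, -⟩ := exists_isAffineOpen_mem_and_subset (x := x) (U := ⊤) trivial
    rw [SetLike.mem_coe, Opens.mem_iSup]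
    refine ⟨⟨W, hW⟩, ?_⟩
    rw [X.mem_basicOpen _ x hxW, map_sub, map_one]
    apply IsLocalRing.isUnit_one_sub_self_of_mem_nonunits
    rw [mem_nonunits_iff]
    intro hunit
    have hb : x ∈ X.basicOpen (r ⟨W, hW⟩) := (X.mem_basicOpen _ x hxW).mpr hunit
    have hzl : x ∈ X.zeroLocus (U := W) (I.ideal ⟨W, hW⟩) :=
      (Scheme.IdealSheafData.mem_support_iff_of_mem (I := I) (U := ⟨W, hW⟩) hxW).mp hx
    exact (X.mem_zeroLocus_iff _ x).mp hzl _ (hrI ⟨W, hW⟩) hb
  · apply section_eq_zero_of_germ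
    intro x hx
    obtain ⟨W, hxW⟩ := Opens.mem_iSup.mp hx
    have hxWW : x ∈ W.1 := X.basicOpen_le _ hxW
    rw [germ_res F x (le_top : (⨆ W : X.affineOpens, X.basicOpen (1 - r W)) ≤ ⊤) hx s,
      ← germ_res F x (le_top : W.1 ≤ ⊤) hxWW s]
    have hunit : IsUnit (X.presheaf.germ W.1 x hxWW (1 - r W)) :=
      (X.mem_basicOpen _ x hxWW).mp hxW
    have e2 : (1 - r W) • F.presheaf.map (homOfLE (le_top : W.1 ≤ ⊤)).op s = 0 := by
      rw [sub_smul, one_smul, hrs W, sub_self]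
    have e3 : F.presheaf.germ W.1 x hxWW
        ((1 - r W) • F.presheaf.map (homOfLE (le_top : W.1 ≤ ⊤)).op s) = 0 := by
      rw [e2]; exact map_zero (F.presheaf.germ W.1 x hxWW).hom
    rw [germ_smul] at e3
    obtain ⟨u, hu⟩ := hunit
    rw [← hu] at e3
    have := congrArg (fun z => (↑u⁻¹ : X.presheaf.stalk x) • z) e3
    simpa [smul_smul] using this

/-- a global section vanishing near `V(I)` lies in `I^n F` for all `n`. -/
theorem exists_section_of_res_eq_zero (s : Γ(F, ⊤)) (V : X.Opens)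
    (hV : (I.support : Set X) ⊆ (V : Set X))
    (hs : F.presheaf.map (homOfLE (le_top : V ≤ ⊤)).op s = 0) (n : ℕ) :
    ∃ t : Γ((Dual3.idealMul (I ^ n)).obj F, ⊤), (Dual3.idealMulι (I ^ n) F).app ⊤ t = s := by
  rw [mem_range_mono_iff]
  apply section_eq_zero_of_germ
  intro x hx
  by_cases hxV : x ∈ V
  · have e : (cokernel.π (Dual3.idealMulι (I ^ n) F)).app V
        (F.presheaf.map (homOfLE (le_top : V ≤ ⊤)).op s) = 0 := by
      rw [hs]; exact map_zero ((cokernel.π (Dual3.idealMulι (I ^ n) F)).app V).hom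
    rw [← germ_res _ x (le_top : V ≤ ⊤) hxV, ← app_res, e]
    exact map_zero ((cokernel (Dual3.idealMulι (I ^ n) F)).presheaf.germ V x hxV).hom
  · have hx1 : x ∉ CohB1.support (cokernel (Dual3.idealMulι (I ^ n) F)) := fun hx2 =>
      hxV (hV (support_pow_subset I n (support_cokernel_idealMulι_subset (I ^ n) F hx2)))
    haveI : Subsingleton ((cokernel (Dual3.idealMulι (I ^ n) F)).presheaf.stalk x) :=
      not_not.mp hx1
    exact Subsingleton.elim _ _

/-- **Krull intersection for coherent modules.** -/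
theorem forall_mem_range_idealMulι_pow_iff [IsLocallyNoetherian X] (hF : Coh.IsCoh F)
    (s : Γ(F, ⊤)) :
    (∀ n : ℕ, ∃ t : Γ((Dual3.idealMul (I ^ n)).obj F, ⊤),
      (Dual3.idealMulι (I ^ n) F).app ⊤ t = s) ↔
    ∃ V : X.Opens, (I.support : Set X) ⊆ (V : Set X) ∧
      F.presheaf.map (homOfLE (le_top : V ≤ ⊤)).op s = 0 :=
  ⟨exists_open_res_eq_zero_of_forall_pow I F hF s,
    fun ⟨V, hV, hs⟩ n => exists_section_of_res_eq_zero I F s V hV hs n⟩

end Groth.Agent.LD.DF
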